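import Cfsg.Agent.Lib.Recog.ExtraThirtyTwo.EightNorm
import Cfsg.Agent.Lib.Core.Gaschutz

set_option autoImplicit false
set_option linter.style.haveILetI false

/-!
The letters above `C(s)` (owner: helper22).

The normaliser of a pure subgroup of order eight splits over it (Gaschütz), so it is the affine group of the eight
points; a finite search over the possible actions of `C(s)` gives the new letter with its relators.
-/

namespace CfsgLib.Recog.ExtraThirtyTwo

open Subgroup
open CfsgLib.Recog.Held (countBelow allBelow allBelow_spec card_eq_countBelow)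

/-- The packed map is a permutation. -/
noncomputable def permP (f : ℕ) : Bool :=
  allBelow 8 fun v => allBelow 8 fun w => Nat.beq v w || !(Nat.beq (affP f v) (affP f w))

theorem permP_count : countBelow 4096 permP = 1344 := by decide +kernel

theorem affP_values (t a b c : Fin 8) :
    let f := quad t.val (Nat.xor a.val t.val) (Nat.xor b.val t.val) (Nat.xor c.val t.val)
    f < 4096 ∧ affP f 0 = t.val ∧ affP f 1 = a.val ∧ affP f 2 = b.val ∧ affP f 3 = Nat.xor (Nat.xor a.val b.val) t.val ∧
      affP f 4 = c.val ∧ affP f 5 = Nat.xor (Nat.xor a.val c.val) t.val ∧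
      affP f 6 = Nat.xor (Nat.xor b.val c.val) t.val ∧
      affP f 7 = Nat.xor (Nat.xor (Nat.xor (Nat.xor a.val b.val) t.val) c.val) t.val := by
  revert t a b c
  decide +kernel

theorem shiftL_spec : ∀ a b c : Fin 8, let n := a.val + 8 * b.val + 64 * c.val
    n < 512 ∧ shiftL 0 n 0 = 1 ∧ shiftL 0 n 1 = a.val ∧ shiftL 0 n 2 = b.val ∧ shiftL 0 n 3 = c.val ∧
      shiftL 1 n 0 = a.val ∧ shiftL 1 n 1 = 1 ∧ shiftL 1 n 2 = b.val ∧ shiftL 1 n 3 = c.val := by decide +kernel

variable {G : Type*} [Group G] {s : G}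

namespace Coord

variable (K : Coord s 0)

/-- The letters with a new involution. -/
noncomputable def lett (m : G) (j : ℕ) : G := if j < 4 then K.el (letC j) else m

theorem prod_inner (m : G) : ∀ w : List ℕ, (∀ j ∈ w, j < 4) → (w.map (K.lett m)).prod = K.el (codeW w) ∧ codeW w < 192 := by
  intro w
  induction w with
  | nil => exact fun _ => ⟨(K.el_zero (by omega)).symm, show (0 : ℕ) < 192 by omega⟩
  | cons j w ih =>
    intro hw
    obtain ⟨h1, h2⟩ := ih fun i hi => hw i (List.mem_cons_of_mem _ hi)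
    have hj : j < 4 := hw j List.mem_cons_self
    refine ⟨?_, mulC_lt (by omega) (letC_lt j hj) h2⟩
    rw [List.map_cons, List.prod_cons, h1, lett, if_pos hj, K.el_mul _ (letC_lt j hj) _ h2]
    rfl

/-- Each side has a new letter satisfying its relators. -/
theorem exists_letter [Finite G] (hm : K.mask = 11) {k : ℕ} (hk : k < 2) :
    ∃ m : G, ∀ w ∈ relSide k, (w.map (K.lett m)).prod = 1 := by
  classical
  have h4 : (0 : ℕ) < 4 := by omega
  have D := sideData hk
  set N := normalizer (K.eight k : Set G) with hN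
  have hLN := K.cent_le_normalizer hk
  set E := (K.eight k).subgroupOf N
  have hEN : K.eight k ≤ N := le_normalizer
  haveI hEn : E.Normal := normal_in_normalizer
  haveI : IsMulCommutative E := ⟨⟨fun a b => Subtype.ext (Subtype.ext
    (K.eight_commute hk (mem_subgroupOf.1 a.2) (mem_subgroupOf.1 b.2)).eq)⟩⟩
  have hEcard : Nat.card E = 8 := by
    rw [Nat.card_congr (subgroupOfEquivOfLe hEN).toEquiv, K.card_eight hk]
  -- the complement in a Sylow subgroup
  have hcl : ∀ i < 8, K.el (compC i) ∈ N := fun i hi =>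
    hLN (mem_centralizer_singleton_iff.2 (K.mem _ (D.comp_lt i hi)))
  let C : Subgroup N :=
    { carrier := {g | ∃ i < 8, K.el (compC i) = g.1}
      one_mem' := by
        obtain ⟨i, hi, e⟩ := inComp_iff.1 D.comp_card.1
        exact ⟨i, hi, by rw [e, K.el_zero h4]; rfl⟩
      mul_mem' := by
        rintro a b ⟨i, hi, ea⟩ ⟨j, hj, eb⟩
        obtain ⟨l, hl, e⟩ := inComp_iff.1 (D.comp_mul i hi j hj)
        refine ⟨l, hl, ?_⟩
        rw [Subgroup.coe_mul, ← ea, ← eb, K.el_mul _ (D.comp_lt i hi) _ (D.comp_lt j hj), e]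
      inv_mem' := by
        rintro a ⟨i, hi, ea⟩
        have key : ∀ i < 8, ∃ j, j < 8 ∧ mulC 0 (compC i) (compC j) = 0 := by
          have h : ∀ i : Fin 8, ∃ j : Fin 8, mulC 0 (compC i.val) (compC j.val) = 0 := by decide +kernel
          exact fun i hi => let ⟨j, hj⟩ := h ⟨i, hi⟩; ⟨j, j.2, hj⟩
        obtain ⟨j, hj, e⟩ := key i hi
        refine ⟨j, hj, ?_⟩
        rw [Subgroup.coe_inv, ← ea, eq_comm]
        refine inv_eq_of_mul_eq_one_right ?_
        rw [K.el_mul _ (D.comp_lt i hi) _ (D.comp_lt j hj), e, K.el_zero h4] }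
  have hCcard : Nat.card C = 8 := by
    have key : ∀ i : Fin 8, ∀ j : Fin 8, compC i.val = compC j.val → i = j := by decide +kernel
    refine (Nat.card_congr (Equiv.ofBijective
      (fun i : Fin 8 => (⟨⟨K.el (compC i), hcl i i.2⟩, ⟨i, i.2, rfl⟩⟩ : C)) ⟨?_, ?_⟩)).symm.trans (Nat.card_fin 8)
    · intro i j e
      exact key i j (K.el_inj _ (D.comp_lt i i.2) _ (D.comp_lt j j.2)
        (congrArg (fun z : C => ((z : N) : G)) e))
    · rintro ⟨g, i, hi, e⟩
      exact ⟨⟨i, hi⟩, Subtype.ext (Subtype.ext e)⟩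
  have hCE : C ⊓ E = ⊥ := by
    rw [eq_bot_iff]
    rintro g ⟨⟨i, hi, e⟩, hgE⟩
    obtain ⟨v, hv, ev⟩ := (K.mem_eight hk).1 (mem_subgroupOf.1 hgE)
    have h0 := D.comp_meet i hi v hv (K.el_inj _ (D.lt v hv) _ (D.comp_lt i hi) (ev.trans e.symm))
    rw [mem_bot]
    refine Subtype.ext ?_
    rw [← e, h0, K.el_zero h4, OneMemClass.coe_one]
  have hUcard : Nat.card (E ⊔ C : Subgroup N) = 64 := by
    have h1 := relIndex_mul_relIndex (⊥ : Subgroup N) E (E ⊔ C) bot_le le_sup_left
    rw [relIndex_bot_left, relIndex_bot_left, hEcard] at h1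
    have h2 : E.relIndex (E ⊔ C) = 8 := by
      rw [relIndex_sup_left, ← inf_relIndex_right, inf_comm, hCE, relIndex_bot_left, hCcard]
    omega
  have hidx : (E ⊔ C).index = 21 := by
    have h := (E ⊔ C).index_mul_card
    rw [hUcard, show Nat.card N = 1344 from K.card_normalizer_eight hm hk] at h
    omega
  obtain ⟨J, hJ⟩ := CfsgLib.Core.Gaschutz.gaschutz_exists (K := E) (U := E ⊔ C) (A := C) le_sup_left
    (by rw [hEcard, hidx]; decide) hCE rfl
  -- the eight points
  let p : ℕ → N := fun v =>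
    if hv : v < 8 then ⟨K.el (pointC k v), hEN (K.el_mem_eight hk hv)⟩ else 1
  have hpv : ∀ v < 8, (p v : G) = K.el (pointC k v) := fun v hv => by simp only [p, dif_pos hv]
  have hp0 : p 0 = 1 := Subtype.ext (by rw [hpv 0 (by omega), D.zero, K.el_zero h4]; rfl)
  have hxor : ∀ a b, a < 8 → b < 8 → Nat.xor a b < 8 := fun a b ha hb => Nat.xor_lt_two_pow (n := 3) ha hb
  have hpmul : ∀ a < 8, ∀ b < 8, p a * p b = p (Nat.xor a b) := fun a ha b hb => Subtype.ext (by
    rw [Subgroup.coe_mul, hpv a ha, hpv b hb, hpv _ (hxor a b ha hb), K.el_mul _ (D.lt a ha) _ (D.lt b hb),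
      D.mul a ha b hb])
  have hpinv : ∀ a < 8, (p a)⁻¹ = p a := fun a ha => inv_eq_of_mul_eq_one_right (by
    rw [hpmul a ha a ha, show Nat.xor a a = 0 from Nat.xor_self a, hp0])
  have hpE : ∀ a < 8, p a ∈ E := fun a ha => mem_subgroupOf.2 (by rw [hpv a ha]; exact K.el_mem_eight hk ha)
  have hpsurj : ∀ e ∈ E, ∃ a < 8, p a = e := fun e he => by
    obtain ⟨v, hv, ev⟩ := (K.mem_eight hk).1 (mem_subgroupOf.1 he)
    exact ⟨v, hv, Subtype.ext ((hpv v hv).trans ev)⟩
  have huniq : ∀ a < 8, ∀ b < 8, ∀ g : N, p a * g ∈ J → p b * g ∈ J → a = b := by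
    intro a ha b hb g h1 h2
    have h3 : p a * p b ∈ E ⊓ J := by
      refine ⟨E.mul_mem (hpE a ha) (hpE b hb), ?_⟩
      have := J.mul_mem h1 (J.inv_mem h2)
      rwa [mul_inv_rev, mul_assoc, mul_inv_cancel_left, hpinv b hb] at this
    rw [disjoint_iff.1 hJ.disjoint, mem_bot, hpmul a ha b hb, ← hp0] at h3
    have h5 := congrArg Subtype.val h3
    rw [hpv _ (hxor a b ha hb), hpv 0 (by omega)] at h5
    have h6 := D.inj _ (hxor a b ha hb) 0 (by omega)
      (K.el_inj _ (D.lt _ (hxor a b ha hb)) _ (D.lt 0 (by omega)) h5)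
    exact (by decide +kernel : ∀ a b : Fin 8, Nat.xor a.val b.val = 0 → a.val = b.val) ⟨a, ha⟩ ⟨b, hb⟩ h6
  have hex : ∀ g : N, ∃ w < 8, p w * g ∈ J := by
    intro g
    obtain ⟨⟨⟨e, he⟩, j⟩, hej, -⟩ := hJ.existsUnique g
    obtain ⟨a, ha, rfl⟩ := hpsurj e he
    refine ⟨a, ha, ?_⟩
    have : p a * (j : N) = g := hej
    rw [← this, ← mul_assoc, hpmul a ha a ha, show Nat.xor a a = 0 from Nat.xor_self a, hp0, one_mul]
    exact j.2
  choose φ hφlt hφ using hex
  let act : N → ℕ → ℕ := fun g v => φ (g * p v)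
  have act_lt : ∀ g v, act g v < 8 := fun g v => hφlt _
  have act_eq : ∀ g v w, w < 8 → p w * (g * p v) ∈ J → act g v = w := fun g v w hw h =>
    huniq _ (act_lt g v) w hw _ (hφ _) h
  have act_mul : ∀ a b v, act (a * b) v = act a (act b v) := fun a b v => act_eq _ _ _ (act_lt _ _) (by
    have h := J.mul_mem (hφ (a * p (act b v))) (hφ (b * p v))
    rw [show p (φ (a * p (act b v))) * (a * p (act b v)) * (p (φ (b * p v)) * (b * p v)) =
      p (φ (a * p (act b v))) * (a * (p (act b v) * p (φ (b * p v))) * b * p v) by group,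
      hpmul _ (act_lt b v) _ (hφlt _), show Nat.xor (act b v) (φ (b * p v)) = 0 from Nat.xor_self (act b v), hp0,
      mul_one] at h
    simpa [act, mul_assoc] using h)
  have act_one : ∀ v < 8, act 1 v = v := fun v hv => act_eq _ _ _ hv (by
    rw [one_mul, hpmul v hv v hv, show Nat.xor v v = 0 from Nat.xor_self v, hp0]; exact J.one_mem)
  have act_pt : ∀ a < 8, ∀ v < 8, act (p a) v = Nat.xor a v := fun a ha v hv =>
    act_eq _ _ _ (hxor a v ha hv) (by
      rw [hpmul a ha v hv, hpmul _ (hxor a v ha hv) _ (hxor a v ha hv),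
        show Nat.xor (Nat.xor a v) (Nat.xor a v) = 0 from Nat.xor_self _, hp0]
      exact J.one_mem)
  have hlin : ∀ g : N, ∀ v < 8, ∃ w < 8, g * p v = p w * g := fun g v hv => by
    obtain ⟨w, hw, e⟩ := hpsurj _ (hEn.conj_mem _ (hpE v hv) g)
    exact ⟨w, hw, by rw [e]; group⟩
  have act_lin : ∀ g v w, v < 8 → w < 8 → g * p v = p w * g → act g v = Nat.xor w (act g 0) := by
    intro g v w hv hw e
    refine act_eq _ _ _ (hxor _ _ hw (act_lt g 0)) ?_
    rw [e, ← hpmul w hw _ (act_lt g 0), show p w * p (act g 0) * (p w * g) = p w * (p (act g 0) * p w) * g by group,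
      hpmul _ (act_lt g 0) w hw, show Nat.xor (act g 0) w = Nat.xor w (act g 0) from Nat.xor_comm _ _,
      ← hpmul w hw _ (act_lt g 0), ← mul_assoc (p w), hpmul w hw w hw, show Nat.xor w w = 0 from Nat.xor_self w, hp0,
      one_mul]
    simpa [hp0, act] using hφ (g * p 0)
  have act_add : ∀ g a b, a < 8 → b < 8 →
      act g (Nat.xor a b) = Nat.xor (Nat.xor (act g a) (act g b)) (act g 0) := by
    intro g a b ha hb
    obtain ⟨w, hw, e⟩ := hlin g a ha
    obtain ⟨w', hw', e'⟩ := hlin g b hb
    have e'' : g * p (Nat.xor a b) = p (Nat.xor w w') * g := by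
      rw [← hpmul a ha b hb, ← mul_assoc, e, mul_assoc, e', ← mul_assoc, hpmul w hw w' hw']
    rw [act_lin g _ _ (hxor a b ha hb) (hxor w w' hw hw') e'', act_lin g a w ha hw e, act_lin g b w' hb hw' e']
    show (w ^^^ w') ^^^ act g 0 = (w ^^^ act g 0) ^^^ (w' ^^^ act g 0) ^^^ act g 0
    rw [Nat.xor_assoc _ (w' ^^^ act g 0), Nat.xor_assoc w', Nat.xor_self, Nat.xor_zero, Nat.xor_assoc w,
      Nat.xor_comm w' (act g 0), ← Nat.xor_assoc]
  let code : N → ℕ := fun g => quad (act g 0) (Nat.xor (act g 1) (act g 0)) (Nat.xor (act g 2) (act g 0))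
    (Nat.xor (act g 4) (act g 0))
  have code_spec : ∀ g, code g < 4096 ∧ ∀ v < 8, affP (code g) v = act g v := by
    intro g
    obtain ⟨h, h0, h1, h2, h3, h4', h5, h6, h7⟩ := affP_values ⟨_, act_lt g 0⟩ ⟨_, act_lt g 1⟩ ⟨_, act_lt g 2⟩
      ⟨_, act_lt g 4⟩
    refine ⟨h, fun v hv => ?_⟩
    have a3 := act_add g 1 2 (by omega) (by omega)
    have a5 := act_add g 1 4 (by omega) (by omega)
    have a6 := act_add g 2 4 (by omega) (by omega)
    have a7 := act_add g 3 4 (by omega) (by omega)
    rw [show Nat.xor 1 2 = 3 from rfl] at a3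
    rw [show Nat.xor 1 4 = 5 from rfl] at a5
    rw [show Nat.xor 2 4 = 6 from rfl] at a6
    rw [show Nat.xor 3 4 = 7 from rfl, a3] at a7
    interval_cases v
    exacts [h0, h1, h2, h3.trans a3.symm, h4', h5.trans a5.symm, h6.trans a6.symm, h7.trans a7.symm]
  have faithful : ∀ a b : N, (∀ v < 8, act a v = act b v) → a = b := by
    intro a b hab
    suffices h : ∀ g : N, (∀ v < 8, act g v = v) → g = 1 by
      exact (inv_mul_eq_one.1 (h (a⁻¹ * b) fun v hv => by
        rw [act_mul, ← hab v hv, ← act_mul, inv_mul_cancel, act_one v hv]))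
    intro g hg
    have hJg : g ∈ J := by
      have h := hφ (g * p 0)
      rw [show φ (g * p 0) = 0 from hg 0 (by omega), hp0, one_mul, mul_one] at h
      exact h
    have hcomm : ∀ v < 8, g * p v = p v * g := fun v hv => by
      obtain ⟨w, hw, e⟩ := hlin g v hv
      have h1 := act_lin g v w hv hw e
      rw [hg v hv, hg 0 (by omega), show Nat.xor w 0 = w from Nat.xor_zero w] at h1
      rw [e, h1]
    have hcE : g ∈ E := mem_subgroupOf.2 (by
      rw [← K.centralizer_eight hk, mem_centralizer_iff]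
      intro x hx
      obtain ⟨v, hv, rfl⟩ := (K.mem_eight hk).1 hx
      rw [← hpv v hv]
      exact (congrArg Subtype.val (hcomm v hv)).symm)
    rw [← mem_bot, ← disjoint_iff.1 hJ.disjoint]
    exact ⟨hcE, hJg⟩
  have hperm : ∀ g, permP (code g) = true := by
    intro g
    simp only [permP, allBelow_spec, Bool.or_eq_true, Bool.not_eq_true', Bool.eq_false_iff, ne_eq, Nat.beq_eq]
    intro v hv w hw
    by_cases hvw : v = w
    · exact Or.inl hvw
    · right
      intro e
      rw [(code_spec g).2 v hv, (code_spec g).2 w hw] at e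
      refine hvw ?_
      have h' := congrArg (act g⁻¹) e
      rwa [← act_mul, ← act_mul, inv_mul_cancel, act_one v hv, act_one w hw] at h'
  have realise : ∀ f < 4096, permP f = true → ∃ g : N, ∀ v < 8, act g v = affP f v := by
    intro f hf hp
    have hsub : Nat.card {f : ℕ // f < 4096 ∧ permP f = true} = 1344 := by
      rw [← permP_count]
      exact card_eq_countBelow id 4096 _ (fun f => f < 4096 ∧ permP f = true) (fun _ _ _ _ h => h)
        (fun j hj => ⟨fun h => ⟨hj, h⟩, fun h => h.2⟩) fun g hg => ⟨g, hg.1, rfl⟩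
    haveI : Finite {f : ℕ // f < 4096 ∧ permP f = true} := Nat.finite_of_card_ne_zero (by omega)
    have hinj : Function.Injective (fun g : N => (⟨code g, (code_spec g).1, hperm g⟩ :
        {f : ℕ // f < 4096 ∧ permP f = true})) := fun a b e => faithful a b fun v hv => by
      rw [← (code_spec a).2 v hv, ← (code_spec b).2 v hv, show code a = code b from congrArg Subtype.val e]
    obtain ⟨g, hg⟩ := (hinj.bijective_of_nat_card_le (by rw [hsub, show Nat.card N = 1344 from K.card_normalizer_eight hm hk])).2 ⟨f, hf, hp⟩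
    exact ⟨g, fun v hv => by rw [← (code_spec g).2 v hv, show code g = f from congrArg Subtype.val hg]⟩
  -- the letters
  let q : ℕ → N := fun j => if hj : j < 4 then ⟨K.el (letC j), hLN (mem_centralizer_singleton_iff.2
    (K.mem _ (letC_lt j hj)))⟩ else 1
  have hq : ∀ j < 4, (q j : G) = K.el (letC j) := fun j hj => by simp only [q, dif_pos hj]
  have hqlin : ∀ j < 4, ∀ v < 8, act (q j) v = Nat.xor (linL k j v) (act (q j) 0) := fun j hj v hv => by
    refine act_lin _ v _ hv (D.lin j hj v hv).1 (Subtype.ext ?_)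
    rw [Subgroup.coe_mul, Subgroup.coe_mul, hq j hj, hpv v hv, hpv _ (D.lin j hj v hv).1,
      K.el_mul _ (letC_lt j hj) _ (D.lt v hv), K.el_mul _ (D.lt _ (D.lin j hj v hv).1) _ (letC_lt j hj),
      (D.lin j hj v hv).2]
  obtain ⟨n, hn, hshift⟩ : ∃ n < 512, ∀ j < 4, shiftL k n j = act (q j) 0 := by
    have hone : act (q k) 0 = 1 := by
      have e : q k = p 1 := Subtype.ext (by rw [hq k (by omega), hpv 1 (by omega), D.one])
      rw [e, act_pt 1 (by omega) 0 (by omega)]
      rfl
    rcases (show k = 0 ∨ k = 1 by omega) with rfl | rfl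
    · obtain ⟨h, h0, h1, h2, h3, -⟩ := shiftL_spec ⟨_, act_lt (q 1) 0⟩ ⟨_, act_lt (q 2) 0⟩ ⟨_, act_lt (q 3) 0⟩
      refine ⟨_, h, fun j hj => ?_⟩
      interval_cases j
      exacts [h0.trans hone.symm, h1, h2, h3]
    · obtain ⟨h, -, -, -, -, h0, h1, h2, h3⟩ := shiftL_spec ⟨_, act_lt (q 0) 0⟩ ⟨_, act_lt (q 2) 0⟩ ⟨_, act_lt (q 3) 0⟩
      refine ⟨_, h, fun j hj => ?_⟩
      interval_cases j
      exacts [h0, h1.trans hone.symm, h2, h3]
  have heval : ∀ (g : N) (f : ℕ), (∀ v < 8, act g v = affP f v) → ∀ w : List ℕ, ∀ v < 8,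
      act ((w.map fun j => if j < 4 then q j else g).prod) v = evW k n f w v := by
    intro g f hg w
    induction w with
    | nil => exact fun v hv => act_one v hv
    | cons j w ih =>
      intro v hv
      rw [List.map_cons, List.prod_cons, act_mul, evW, List.foldr_cons]
      by_cases hj : j < 4
      · rw [if_pos hj, show Nat.blt j 4 = true by rw [Nat.blt_eq]; exact hj, cond_true,
          hqlin j hj _ (act_lt _ v), hshift j hj, ih v hv]
        rfl
      · rw [if_neg hj, show Nat.blt j 4 = false from Bool.eq_false_iff.2 (fun h => hj (by rwa [Nat.blt_eq] at h)),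
          cond_false, hg _ (act_lt _ v), ih v hv]
        rfl
  have toG : ∀ (g : N) (w : List ℕ), ((w.map fun j => if j < 4 then q j else g).prod : G) =
      (w.map (K.lett (g : G))).prod := by
    intro g w
    induction w with
    | nil => rfl
    | cons j w ih =>
      rw [List.map_cons, List.prod_cons, List.map_cons, List.prod_cons, Subgroup.coe_mul, ih, lett]
      split_ifs with hj
      · rw [hq j hj]
      · rfl
  have hsc : sideCases k = true := by
    obtain rfl | rfl : k = 0 ∨ k = 1 := by omega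
    exacts [sideCases0_ok, sideCases1_ok]
  simp only [sideCases, Bool.or_eq_true, Bool.not_eq_true', Bool.eq_false_iff, ne_eq, allBelow_spec,
    List.all_eq_true, idW, Nat.beq_eq] at hsc
  have htree := letTree_ok
  simp only [letTree, Bool.and_eq_true, Bool.not_eq_true', Bool.eq_false_iff, ne_eq, List.all_eq_true,
    allBelow_spec, Nat.beq_eq] at htree
  obtain ⟨-, -, hc5, hc186, hcol186, hcol5, hinner⟩ := htree
  have solve : ∀ f, f < 4096 → permP f = true → (∀ w ∈ relSide k, ∀ v < 8, evW k n f w v = v) →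
      ∃ m : G, ∀ w ∈ relSide k, (w.map (K.lett m)).prod = 1 := by
    intro f hf hp hrel
    obtain ⟨g, hg⟩ := realise f hf hp
    refine ⟨g, fun w hw => ?_⟩
    have e : (w.map fun j => if j < 4 then q j else g).prod = 1 :=
      faithful _ _ fun v hv => by rw [heval g f hg w v hv, hrel w hw v hv, act_one v hv]
    rw [← toG g w, e]
    rfl
  have fused : ∀ f, f < 4096 → permP f = true → fuses k n f = true → False := by
    intro f hf hp hfu
    simp only [fuses, allBelow_spec, Nat.beq_eq] at hfu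
    obtain ⟨g, hg⟩ := realise f hf hp
    have h5 := toG 1 [0, 1]
    have h186 := toG 1 [0, 3, 1, 2, 3, 0]
    rw [(K.prod_inner _ _ (by decide)).1, hc5] at h5
    rw [(K.prod_inner _ _ (by decide)).1, hc186] at h186
    set a := ([0, 1].map fun j => if j < 4 then q j else 1).prod
    set b := ([0, 3, 1, 2, 3, 0].map fun j => if j < 4 then q j else 1).prod
    have hev : ∀ (w : List ℕ) (v : ℕ), v < 8 → (∀ j ∈ w, j < 4) →
        act ((w.map fun j => if j < 4 then q j else 1).prod) v = evW k n 0 w v := by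
      intro w v hv hw
      obtain ⟨g₁, hg₁⟩ : ∃ g₁ : N, ∀ v < 8, act g₁ v = affP (code 1) v := ⟨1, fun v hv => ((code_spec 1).2 v hv).symm⟩
      have h := heval g₁ (code 1) hg₁ w v hv
      have e1 : (w.map fun j => if j < 4 then q j else g₁) = w.map fun j => if j < 4 then q j else 1 :=
        List.map_congr_left fun j hj => by rw [if_pos (hw j hj), if_pos (hw j hj)]
      rw [e1] at h
      rw [h]
      clear h e1 hv
      induction w with
      | nil => rfl
      | cons j w ih =>
        have hj := hw j List.mem_cons_self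
        have ih' := ih fun i hi => hw i (List.mem_cons_of_mem _ hi)
        simp only [evW, List.foldr_cons] at ih' ⊢
        rw [show Nat.blt j 4 = true by rw [Nat.blt_eq]; exact hj, cond_true, cond_true, ih']
    have hgab : g * a = b * g := faithful _ _ fun v hv => by
      rw [act_mul, act_mul, hg _ (act_lt a v), hg v hv, hev _ v hv (by decide), hfu v hv,
        hev _ _ (by rw [← hg v hv]; exact act_lt g v) (by decide)]
    have hG : (g : G) * K.el 5 * (g : G)⁻¹ = K.el 186 := by
      rw [← h5, ← h186, mul_inv_eq_iff_eq_mul]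
      exact congrArg Subtype.val hgab
    refine hcol5 ?_
    have col : ∀ x < 192, (IsConj (K.el x) s ↔ colOn 11 (cls 0 x) = true) := fun x hx => by
      rw [K.mask_spec h4 hx, hm]
    exact (col 5 (by omega)).1 ((isConj_iff.2 ⟨(g : G), hG⟩).trans ((col 186 (by omega)).2 hcol186))
  have small : solA k < 4096 ∧ permP (solA k) = true ∧ solB k < 4096 ∧ permP (solB k) = true ∧
      quad 7 4 7 6 < 4096 ∧ permP (quad 7 4 7 6) = true ∧ quad 6 4 7 6 < 4096 ∧ permP (quad 6 4 7 6) = true := by
    obtain rfl | rfl : k = 0 ∨ k = 1 := by omega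
    all_goals decide +kernel
  obtain ⟨sa, sa', sb, sb', w7, w7', w6, w6'⟩ := small
  rcases hsc n hn with r | r | r | r | r
  · refine absurd (fun w hw v hv => ?_) r
    have hwlt : ∀ j ∈ w, j < 4 := by
      have key : ∀ w ∈ relInner, ∀ j ∈ w, j < 4 := by decide
      exact key w hw
    have hg1 : ∀ v < 8, act (1 : N) v = affP (code 1) v := fun v hv => ((code_spec 1).2 v hv).symm
    have h := heval 1 (code 1) hg1 w v hv
    have e : (w.map fun j => if j < 4 then q j else (1 : N)).prod = 1 := Subtype.ext (by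
      rw [toG, (K.prod_inner _ w hwlt).1, hinner w hw, K.el_zero h4]; rfl)
    rw [e, act_one v hv] at h
    refine Eq.trans ?_ h.symm
    clear h e hv hw
    induction w with
    | nil => rfl
    | cons j w ih =>
      have hj := hwlt j List.mem_cons_self
      have ih' := ih (fun i hi => hwlt i (List.mem_cons_of_mem _ hi))
      simp only [evW, List.foldr_cons] at ih' ⊢
      rw [show Nat.blt j 4 = true by rw [Nat.blt_eq]; exact hj, cond_true, cond_true, ih']
  · exact solve _ sa sa' r
  · exact solve _ sb sb' r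
  · exact (fused _ w7 w7' r).elim
  · exact (fused _ w6 w6' r).elim

end Coord

end CfsgLib.Recog.ExtraThirtyTwo
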