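import Cfsg.Agent.Lib.Recog.ExtraThirtyTwo.ColourCheck
import Mathlib.Algebra.Group.Conj
import Mathlib.Algebra.Group.Units.Equiv
import Mathlib.Data.Nat.Bitwise
import Mathlib.Tactic.Group

set_option autoImplicit false

/-!
The classes of `C(s)` fused to `s` in `G` (owner: helper22).
-/

namespace CfsgLib.Recog.ExtraThirtyTwo

open CfsgLib.Recog.Held (countBelow allBelow allBelow_spec card_eq_countBelow)

theorem land31' (g : ℕ) : Nat.land g 31 = g % 32 := Nat.and_two_pow_sub_one_eq_mod g 5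

theorem land15' (g : ℕ) : Nat.land g 15 = g % 16 := Nat.and_two_pow_sub_one_eq_mod g 4

theorem fld_one (m k : ℕ) : fld 1 m k = m / 2 ^ k % 2 := by
  show (m >>> (1 * k)) &&& (2 ^ 1 - 1) = _
  rw [Nat.and_two_pow_sub_one_eq_mod, Nat.shiftRight_eq_div_pow, one_mul, pow_one]

theorem mulC_lt {i g h : ℕ} (hi : i < 4) (hg : g < 192) (hh : h < 192) : mulC i g h < 192 := by
  have h1 := act_lt i hi (g / 32 % 3) (by omega) (g / 96) (by omega) (h % 32) (by omega)
  have h2 := qMul_lt (g % 32) (by omega) _ h1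
  have h16 : 16 * (g / 96 * (h / 96) * (i % 2)) < 32 := by
    rcases (by omega : g / 96 = 0 ∨ g / 96 = 1) with r | r <;>
      rcases (by omega : h / 96 = 0 ∨ h / 96 = 1) with r' | r' <;> rw [r, r'] <;> omega
  have h3 := qMul_lt _ h2 _ h16
  have hK : kMul (g / 32 % 3) (g / 96) (h / 32 % 3) < 3 := Nat.mod_lt _ (by omega)
  rw [mulC, land31', land31']
  omega

theorem cls_lt (i x : ℕ) : cls i x < 16 := by rw [cls, land15']; omega

/-- The data of a code. -/
theorem tbl {i x : ℕ} (hi : i < 4) (hx : x < 192) :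
    (cls i x = 0 → x = 0 ∨ mulC i x x ≠ 0) ∧
    (cls i x ≠ 0 → x ≠ 0 ∧ mulC i x x = 0 ∧ cls i x ≤ ncls i ∧
      ∃ h < 192, mulC i h x = mulC i (rep i (cls i x - 1)) h) := by
  have ok : tblOK i x = true := by
    rcases (by omega : i = 0 ∨ i = 1 ∨ i = 2 ∨ i = 3) with e | e | e | e <;> subst e
    · exact allBelow_spec.1 tbl_ok0 x hx
    · exact allBelow_spec.1 tbl_ok1 x hx
    · exact allBelow_spec.1 tbl_ok2 x hx
    · exact allBelow_spec.1 tbl_ok3 x hx
  rw [tblOK] at ok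
  constructor
  · intro h
    rw [h, show Nat.beq 0 0 = true from rfl, cond_true] at ok
    simp only [Bool.or_eq_true, Nat.beq_eq, Bool.not_eq_true', Bool.eq_false_iff, ne_eq] at ok
    exact ok
  · intro h
    rw [show Nat.beq (cls i x) 0 = false from Bool.eq_false_iff.2 fun e => h (Nat.eq_of_beq_eq_true e),
      cond_false] at ok
    simp only [Bool.and_eq_true, Bool.not_eq_true', Bool.eq_false_iff, ne_eq, Nat.beq_eq, Nat.ble_eq,
      Nat.blt_eq] at ok
    exact ⟨ok.1.1.1.1, ok.1.1.1.2, ok.1.1.2, _, ok.1.2, ok.2⟩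

theorem reps {i : ℕ} (hi : i < 4) :
    (∀ k < ncls i, rep i k < 192 ∧ cls i (rep i k) = k + 1) ∧ rep i 0 = 16 ∧ mulC i 0 0 = 0 := by
  have h := allBelow_spec.1 rep_ok i hi
  simp only [Bool.and_eq_true, allBelow_spec, repOK, Nat.blt_eq, Nat.beq_eq] at h
  exact ⟨h.1, h.2.1, h.2.2⟩

theorem conj_facts {G : Type*} [Group G] {k U V : G} (h : k * U * k⁻¹ = V) (z : G) :
    (k * z * k⁻¹ * V = V * (k * z * k⁻¹) ↔ z * U = U * z) ∧
    (k * z * k⁻¹ * (k * z * k⁻¹) = V ↔ z * z = U) ∧ k * z * k⁻¹ * V = k * (z * U) * k⁻¹ := by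
  subst h
  rw [conj_mul, conj_mul, conj_mul]
  simp

namespace Coord

variable {G : Type*} [Group G] {s : G} {i : ℕ} (K : Coord s i)

include K

theorem el_zero (hi : i < 4) : K.el 0 = 1 := by
  have h := K.el_mul 0 (by omega) 0 (by omega)
  rw [(reps hi).2.2] at h
  exact mul_eq_left.1 h

theorem s_ne_one (hi : i < 4) : s ≠ 1 := fun e => by
  have h := K.el_inj 16 (by omega) 0 (by omega) (by rw [K.el_s, K.el_zero hi, e])
  omega

theorem mul_eq_iff (hi : i < 4) {a b c : ℕ} (ha : a < 192) (hb : b < 192) (hc : c < 192) :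
    K.el a * K.el b = K.el c ↔ mulC i a b = c := by
  rw [K.el_mul a ha b hb]
  exact ⟨K.el_inj _ (mulC_lt hi ha hb) _ hc, fun h => by rw [h]⟩

theorem comm_iff (hi : i < 4) {a b : ℕ} (ha : a < 192) (hb : b < 192) :
    K.el a * K.el b = K.el b * K.el a ↔ mulC i a b = mulC i b a := by
  rw [K.el_mul a ha b hb, K.el_mul b hb a ha]
  exact ⟨K.el_inj _ (mulC_lt hi ha hb) _ (mulC_lt hi hb ha), fun h => by rw [h]⟩

theorem sq_iff (hi : i < 4) {x : ℕ} (hx : x < 192) : K.el x ≠ 1 ∧ K.el x * K.el x = 1 ↔ cls i x ≠ 0 := by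
  rw [← K.el_zero hi, K.mul_eq_iff hi hx hx (by omega), ne_eq,
    show (K.el x = K.el 0 ↔ x = 0) from ⟨K.el_inj _ hx _ (by omega), fun h => by rw [h]⟩]
  refine ⟨fun ⟨a, b⟩ c => ?_, fun c => ⟨((tbl hi hx).2 c).1, ((tbl hi hx).2 c).2.1⟩⟩
  rcases (tbl hi hx).1 c with r | r
  exacts [a r, r b]

theorem s_sq (hi : i < 4) : s * s = 1 := by
  have h1 := (K.sq_iff hi (x := 16) (by omega)).2 (by
    have := ((reps hi).1 0 (by interval_cases i <;> decide +kernel)).2
    rw [(reps hi).2.1] at this; omega)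
  rw [K.el_s] at h1
  exact h1.2

theorem inv_of_isConj (hi : i < 4) {g : G} (h : IsConj g s) : g ≠ 1 ∧ g * g = 1 := by
  obtain ⟨k, hk⟩ := isConj_iff.1 h
  have hg : g = k⁻¹ * s * k := by rw [← hk]; group
  refine ⟨fun e => K.s_ne_one hi (by rw [← hk, e]; group), ?_⟩
  rw [hg, show k⁻¹ * s * k * (k⁻¹ * s * k) = k⁻¹ * (s * s) * k by group, K.s_sq hi]
  group

theorem class_conj (hi : i < 4) {x : ℕ} (hx : x < 192) (hc : cls i x ≠ 0) :
    ∃ g : G, g * s = s * g ∧ g * K.el x * g⁻¹ = K.el (rep i (cls i x - 1)) := by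
  obtain ⟨-, -, hle, h, hh, e⟩ := (tbl hi hx).2 hc
  have hr := ((reps hi).1 (cls i x - 1) (by omega)).1
  refine ⟨K.el h, (K.mem h hh), ?_⟩
  rw [mul_inv_eq_iff_eq_mul, K.el_mul h hh x hx, K.el_mul _ hr h hh, e]

open scoped Classical in
/-- The fused classes, as a number. -/
noncomputable def mask : ℕ := Nat.ofBits fun k : Fin (ncls i - 1) => decide (IsConj (K.el (rep i (k + 1))) s)

theorem mask_lt : K.mask < 2 ^ (ncls i - 1) := Nat.ofBits_lt_two_pow _

theorem mask_bit {k : ℕ} (hk : k + 1 < ncls i) :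
    colOn K.mask (k + 2) = true ↔ IsConj (K.el (rep i (k + 1))) s := by
  classical
  have h1 : colOn K.mask (k + 2) = Nat.beq (fld 1 K.mask k) 1 := by
    rw [colOn, show k + 2 - 2 = k from rfl, show Nat.beq (k + 2) 1 = false from rfl,
      show Nat.blt 1 (k + 2) = true from (by rw [Nat.blt_eq]; omega)]
    simp
  rw [h1, Nat.beq_eq, fld_one, ← decide_eq_true_iff (p := _ % 2 = 1), ← Nat.testBit_eq_decide_div_mod_eq,
    mask, Nat.testBit_ofBits_lt _ _ (by omega), decide_eq_true_iff]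

/-- The fusion to `s` of an element of `C(s)`. -/
theorem mask_spec (hi : i < 4) {x : ℕ} (hx : x < 192) :
    IsConj (K.el x) s ↔ colOn K.mask (cls i x) = true := by
  by_cases hc : cls i x = 0
  · rw [hc]
    refine iff_of_false (fun h => (K.sq_iff hi hx).1 (K.inv_of_isConj hi h) hc) ?_
    simp [colOn]
  obtain ⟨g, -, hg⟩ := K.class_conj hi hx hc
  have hle := ((tbl hi hx).2 hc).2.2.1
  have hiff : IsConj (K.el x) s ↔ IsConj (K.el (rep i (cls i x - 1))) s :=
    ⟨fun h => (isConj_iff.2 ⟨g, hg⟩).symm.trans h, fun h => (isConj_iff.2 ⟨g, hg⟩).trans h⟩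
  rw [hiff]
  obtain ⟨c, hcc⟩ : ∃ c, cls i x = c + 1 := ⟨cls i x - 1, by omega⟩
  rw [hcc, Nat.add_sub_cancel]
  rcases c with _ | k
  · rw [(reps hi).2.1, K.el_s]
    exact iff_of_true (IsConj.refl s) (by simp [colOn])
  · exact (K.mask_bit (k := k) (by omega)).symm

theorem card_stab (hi : i < 4) {u : ℕ} (hu : u < 192) (P : G → Prop) (f : ℕ → Bool)
    (hf : ∀ j < 192, (f j = true ↔ P (K.el j))) :
    Nat.card {g : G // (g * s = s * g ∧ g * K.el u = K.el u * g) ∧ P g} = stabCount i u f := by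
  refine card_eq_countBelow K.el 192 _ _ (fun a ha b hb h => K.el_inj a ha b hb h) (fun j hj => ?_) ?_
  · rw [Bool.and_eq_true, Nat.beq_eq, hf j hj, K.comm_iff hi hj hu]
    exact ⟨fun ⟨a, b⟩ => ⟨⟨K.mem j hj, a⟩, b⟩, fun ⟨⟨_, a⟩, b⟩ => ⟨a, b⟩⟩
  · rintro g ⟨⟨hg, -⟩, -⟩
    exact K.surj g hg

theorem stab_counts (hi : i < 4) {u v : ℕ} (hu : u < 192) (hv : v < 192) :
    Nat.card {g : G // (g * s = s * g ∧ g * K.el u = K.el u * g) ∧ True} = size i u ∧
    Nat.card {g : G // (g * s = s * g ∧ g * K.el u = K.el u * g) ∧ g * g = K.el v} = roots i u v ∧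
    Nat.card {g : G // (g * s = s * g ∧ g * K.el u = K.el u * g) ∧ (IsConj g s ∧ IsConj (g * K.el v) s)} =
      pairsN i K.mask u v := by
  refine ⟨K.card_stab hi hu _ _ fun j _ => by simp, K.card_stab hi hu _ _ fun j hj => ?_,
    K.card_stab hi hu _ _ fun j hj => ?_⟩
  · rw [Nat.beq_eq, K.mul_eq_iff hi hj hj hv]
  · rw [Bool.and_eq_true, K.el_mul j hj v hv, K.mask_spec hi hj, K.mask_spec hi (mulC_lt hi hj hv)]

/-- Each fused class has a partner. -/
theorem reversible_mask (hi : i < 4) : reversible i K.mask = true := by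
  rw [reversible, allBelow_spec]
  intro a ha
  rw [Bool.or_eq_true, Bool.not_eq_true']
  by_cases hon : colOn K.mask (a + 2) = true
  swap
  · exact Or.inl (Bool.eq_false_iff.2 hon)
  right
  have hu : IsConj (K.el (rep i (a + 1))) s := (K.mask_bit (by omega)).1 hon
  have hru := ((reps hi).1 (a + 1) (by omega)).1
  obtain ⟨g, hg⟩ := isConj_iff.1 hu
  -- the image of `s`
  have hu'c : g * s * g⁻¹ * s = s * (g * s * g⁻¹) := by
    have h : g * (K.el (rep i (a + 1)) * s) * g⁻¹ = g * (s * K.el (rep i (a + 1))) * g⁻¹ := by rw [K.mem _ hru]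
    rw [← conj_mul, ← conj_mul, hg] at h
    exact h.symm
  obtain ⟨x, hx, hxg⟩ := K.surj _ hu'c
  have hxs : IsConj (K.el x) s := (isConj_iff.2 ⟨g, hxg.symm⟩).symm
  have hxc : cls i x ≠ 0 := (K.sq_iff hi hx).1 (K.inv_of_isConj hi hxs)
  have hx16 : cls i x ≠ 1 := by
    intro e
    obtain ⟨h, hh, he⟩ := K.class_conj hi hx hxc
    rw [e, (reps hi).2.1, K.el_s] at he
    have h' : K.el x = s := by
      rw [mul_inv_eq_iff_eq_mul, ← hh] at he
      exact mul_left_cancel he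
    have h2 : s = K.el (rep i (a + 1)) := by
      rw [hxg] at h'
      exact mul_left_cancel (mul_right_cancel (h'.trans hg.symm))
    have h3 := K.el_inj 16 (by omega) _ hru (K.el_s.trans h2)
    have h4 := ((reps hi).1 (a + 1) (by omega)).2
    rw [← h3, ← (reps hi).2.1, ((reps hi).1 0 (by omega)).2] at h4
    omega
  obtain ⟨l, hl, hle⟩ := K.class_conj hi hx hxc
  have hlec := ((tbl hi hx).2 hxc).2.2.1
  obtain ⟨d, hd⟩ : ∃ d, cls i x = d + 2 := ⟨cls i x - 2, by omega⟩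
  rw [hd] at hle hlec
  rw [show d + 2 - 1 = d + 1 from rfl] at hle
  have hrd := ((reps hi).1 (d + 1) (by omega)).1
  set k := l * g
  have hk1 : k * K.el (rep i (a + 1)) * k⁻¹ = s := by
    show l * g * K.el (rep i (a + 1)) * (l * g)⁻¹ = s
    rw [show l * g * K.el (rep i (a + 1)) * (l * g)⁻¹ = l * (g * K.el (rep i (a + 1)) * g⁻¹) * l⁻¹ by group, hg,
      hl, mul_inv_cancel_right]
  have hk2 : k * s * k⁻¹ = K.el (rep i (d + 1)) := by
    show l * g * s * (l * g)⁻¹ = _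
    rw [show l * g * s * (l * g)⁻¹ = l * (g * s * g⁻¹) * l⁻¹ by group, ← hxg, hle]
  have hdon : colOn K.mask (d + 2) = true := by
    rw [← hd]; exact (K.mask_spec hi hx).1 hxs
  have moved : ∀ (P Q : G → Prop), (∀ z, P z ↔ Q (k * z * k⁻¹)) →
      Nat.card {z : G // (z * s = s * z ∧ z * K.el (rep i (a + 1)) = K.el (rep i (a + 1)) * z) ∧ P z} =
        Nat.card {z : G // (z * s = s * z ∧ z * K.el (rep i (d + 1)) = K.el (rep i (d + 1)) * z) ∧ Q z} := by
    intro P Q hPQ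
    refine Nat.card_congr ((MulAut.conj k).toEquiv.subtypeEquiv fun z => ?_)
    show _ ↔ (k * z * k⁻¹ * s = s * (k * z * k⁻¹) ∧
      k * z * k⁻¹ * K.el (rep i (d + 1)) = K.el (rep i (d + 1)) * (k * z * k⁻¹)) ∧ Q (k * z * k⁻¹)
    rw [← hPQ, (conj_facts hk1 z).1, (conj_facts hk2 z).1]
    tauto
  obtain ⟨a1, a2, a3⟩ := K.stab_counts hi hru hru
  obtain ⟨-, a2', a3'⟩ := K.stab_counts hi hru (v := 16) (by omega)
  obtain ⟨d1, d2, d3⟩ := K.stab_counts hi hrd (v := 16) (by omega)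
  obtain ⟨-, d2', d3'⟩ := K.stab_counts hi hrd hrd
  simp only [K.el_s] at a2' a3' d2 d3
  have hcj : ∀ z, IsConj z s ↔ IsConj (k * z * k⁻¹) s := fun z =>
    ⟨fun h => (isConj_iff.2 ⟨k, rfl⟩).symm.trans h, fun h => (isConj_iff.2 ⟨k, rfl⟩).trans h⟩
  have hsw : swaps i K.mask (rep i (a + 1)) (rep i (d + 1)) = true := by
    simp only [swaps, Bool.and_eq_true, Nat.beq_eq]
    refine ⟨?_, ⟨?_, ?_⟩, ?_, ?_⟩
    · rw [← a1, ← d1]
      exact moved _ _ fun _ => Iff.rfl
    · rw [← a2, ← d2]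
      exact moved _ _ fun z => (conj_facts hk1 z).2.1.symm
    · rw [← a2', ← d2']
      exact moved _ _ fun z => (conj_facts hk2 z).2.1.symm
    · rw [← a3, ← d3]
      exact moved _ _ fun z => by rw [hcj z, hcj (z * _), (conj_facts hk1 z).2.2]
    · rw [← a3', ← d3']
      exact moved _ _ fun z => by rw [hcj z, hcj (z * _), (conj_facts hk2 z).2.2]
  rw [Bool.not_eq_true', Bool.eq_false_iff, ne_eq, allBelow_spec]
  intro hall
  have := hall d (by omega)
  rw [hdon, hsw] at this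
  simp at this

/-- The surviving patterns. -/
theorem survives_mask (hi : i < 4) {q : ℕ} (hq : q < 32) (hqs : IsConj (K.el q) s) (hq16 : K.el q ≠ s) :
    survives i K.mask = true := by
  have hin : hasInner i K.mask = true := by
    rw [hasInner, Bool.not_eq_true', Bool.eq_false_iff, ne_eq, allBelow_spec]
    intro hall
    have hc : cls i q ≠ 0 := (K.sq_iff hi (by omega)).1 (K.inv_of_isConj hi hqs)
    have h := (K.mask_spec hi (by omega : q < 192)).1 hqs
    have hle := ((tbl hi (x := q) (by omega)).2 hc).2.2.1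
    have key : ∀ i < 4, ∀ q < 32, cls i q ≠ 0 → q ≠ 16 → 2 ≤ cls i q ∧ rep i (cls i q - 1) < 32 := by
      decide +kernel
    obtain ⟨h2, h32⟩ := key i hi q hq hc (fun e => hq16 (by rw [e, K.el_s]))
    obtain ⟨c, hcc⟩ : ∃ c, cls i q = c + 2 := ⟨cls i q - 2, by omega⟩
    have := hall c (by omega)
    rw [hcc, show c + 2 - 1 = c + 1 from rfl] at h32
    rw [hcc] at h
    rw [h, show Nat.blt _ 32 = true from by rw [Nat.blt_eq]; exact h32] at this
    simp at this
  have hlt := K.mask_lt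
  have hrev := K.reversible_mask hi
  have hp : (!(hasInner i K.mask && reversible i K.mask) || survives i K.mask) = true := by
    rcases (by omega : i = 0 ∨ i = 1 ∨ i = 2 ∨ i = 3) with e | e | e | e <;> subst e
    · exact allBelow_spec.1 pattern0 _ hlt
    · exact allBelow_spec.1 pattern1 _ hlt
    · exact allBelow_spec.1 pattern2 _ hlt
    · exact allBelow_spec.1 pattern3 _ hlt
  rw [hin, hrev] at hp
  simpa using hp

end Coord

end CfsgLib.Recog.ExtraThirtyTwo
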