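import Cfsg.Agent.Lib.Recog.ExtraThirtyTwo.SixteenCheck
import Cfsg.Agent.Lib.Recog.ExtraThirtyTwo.Colour
import Mathlib.GroupTheory.Transfer
import Mathlib.GroupTheory.IndexNormal
import Mathlib.Tactic.NormNum.Prime
import Mathlib.GroupTheory.Index

set_option autoImplicit false
set_option linter.style.haveILetI false

/-!
Not every involution of `C(s)` is fused to `s` (owner: helper22, argument of helper25).

Otherwise `N(A)` is transitive on the fifteen involutions of `A = <x1, y1, s, w>`; a group of order sixty with a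
self-normalising Sylow four-group has a normal subgroup of order five, whose orbit of `s` would consist of five
fixed points of an involution fixing three.
-/

namespace CfsgLib.Recog.ExtraThirtyTwo

open Subgroup
open CfsgLib.Recog.Held (countBelow allBelow allBelow_spec card_eq_countBelow)

/-- A group of order fifteen with one subgroup of order five, inside a group with a complement of exponent two. -/
theorem exists_commuting_five {W : Type*} [Group W] [Finite W] (hW : Nat.card W = 60) (P : Subgroup W)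
    (hP : Nat.card P = 4) (hcomm : ∀ a ∈ P, ∀ b ∈ P, a * b = b * a) (hexp : ∀ a ∈ P, a * a = 1)
    (hnorm : ∀ n : W, (∀ a ∈ P, n * a * n⁻¹ ∈ P) → n ∈ P) :
    ∃ σ ∈ P, σ ≠ 1 ∧ ∃ f : W, orderOf f = 5 ∧ σ * f * σ⁻¹ = f := by
  haveI : Fact (Nat.Prime 2) := ⟨Nat.prime_two⟩
  haveI : Fact (Nat.Prime 5) := ⟨Nat.prime_five⟩
  have hidx : P.index = 15 := by
    have h := P.index_mul_card
    rw [hP, hW] at h; omega
  have hp2 : IsPGroup 2 P := IsPGroup.of_card (n := 2) (by rw [hP]; norm_num)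
  let S : Sylow 2 W := hp2.toSylow (by rw [hidx]; norm_num)
  have hS : normalizer (S : Set W) ≤ centralizer (S : Set W) := by
    intro n hn
    have hnP : n ∈ P := hnorm n fun a ha => (mem_normalizer_iff.1 hn a).1 ha
    exact mem_centralizer_iff.2 fun a ha => hcomm a ha n hnP
  have hcompl := MonoidHom.ker_transferSylow_isComplement' S hS
  set M := (MonoidHom.transferSylow S hS).ker with hM
  have hM15 : Nat.card M = 15 := by
    have h := hcompl.card_mul
    rw [hW, show Nat.card (S : Subgroup W) = 4 from hP] at h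
    omega
  obtain ⟨x, hx⟩ := exists_prime_orderOf_dvd_card' (G := M) 5 (by rw [hM15]; norm_num)
  have hF : Nat.card (zpowers x) = 5 := by rw [Nat.card_zpowers, hx]
  haveI hFn : (zpowers x).Normal := by
    refine normal_of_index_eq_minFac_card ?_
    have h := (zpowers x).index_mul_card
    rw [hF, hM15] at h
    rw [hM15]
    have : (zpowers x).index = 3 := by omega
    rw [this]; norm_num
  have hfive : ∀ y : M, y ^ 5 = 1 → y ∈ zpowers x := by
    intro y hy
    have h1 : orderOf (QuotientGroup.mk' (zpowers x) y) ∣ 5 :=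
      orderOf_dvd_of_pow_eq_one (by rw [← map_pow, hy, map_one])
    have h2 : orderOf (QuotientGroup.mk' (zpowers x) y) ∣ 3 := by
      refine (_root_.orderOf_dvd_natCard _).trans ?_
      have h := card_eq_card_quotient_mul_card_subgroup (zpowers x)
      rw [hF, hM15] at h
      exact ⟨1, by omega⟩
    have h3 : orderOf (QuotientGroup.mk' (zpowers x) y) = 1 := Nat.dvd_one.1 (Nat.dvd_gcd h1 h2)
    exact (QuotientGroup.eq_one_iff y).1 (orderOf_eq_one_iff.1 h3)
  set f : W := (x : W)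
  have hf5 : orderOf f = 5 := (Subgroup.orderOf_coe x).trans hx
  have hconj : ∀ σ ∈ P, σ * f * σ⁻¹ = f ∨ σ * f * σ⁻¹ = f⁻¹ := by
    intro σ hσ
    have hmem : σ * f * σ⁻¹ ∈ M := Subgroup.Normal.conj_mem inferInstance f x.2 σ
    have h5 : (⟨σ * f * σ⁻¹, hmem⟩ : M) ^ 5 = 1 := Subtype.ext (by
      rw [Subgroup.coe_pow, Subgroup.coe_one, conj_pow, ← hf5, pow_orderOf_eq_one, mul_one, mul_inv_cancel])
    obtain ⟨k, hk⟩ := mem_zpowers_iff.1 (hfive _ h5)
    have hk' : f ^ k = σ * f * σ⁻¹ := congrArg Subtype.val hk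
    have hkk : f ^ (k * k) = f := by
      rw [zpow_mul, hk', conj_zpow, hk', show σ * (σ * f * σ⁻¹) * σ⁻¹ = σ * σ * f * (σ * σ)⁻¹ by group,
        hexp σ hσ]
      group
    have hdvd : ((5 : ℕ) : ℤ) ∣ k * k - 1 := by
      rw [← hf5, orderOf_dvd_sub_iff_zpow_eq_zpow, hkk, zpow_one]
    have h4 : k % 5 = 0 ∨ k % 5 = 1 ∨ k % 5 = 2 ∨ k % 5 = 3 ∨ k % 5 = 4 := by omega
    have hk5 : f ^ k = f ^ (k % 5) := by
      rw [show (5 : ℤ) = ((orderOf f : ℕ) : ℤ) by rw [hf5]; norm_num, zpow_mod_orderOf]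
    have hkk5 : (k % 5) * (k % 5) % 5 = 1 := by
      rw [← Int.mul_emod]; omega
    rcases h4 with r | r | r | r | r <;> rw [r] at hkk5 hk5 <;> norm_num at hkk5
    · left; rw [← hk', hk5, zpow_one]
    · right
      rw [← hk', hk5, eq_comm, inv_eq_iff_mul_eq_one, ← zpow_one_add, show (1 : ℤ) + 4 = ((5 : ℕ) : ℤ) by norm_num,
        zpow_natCast, ← hf5]
      exact pow_orderOf_eq_one f
  by_contra hno
  push Not at hno
  obtain ⟨σ, hσP, hσ1⟩ := P.bot_or_exists_ne_one.resolve_left fun h => by rw [h, card_bot] at hP; omega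
  have hP2 : ¬ ∀ a ∈ P, a = 1 ∨ a = σ := by
    intro h
    have hle : P ≤ zpowers σ := fun a ha => by
      rcases h a ha with e | e <;> rw [e]
      · exact one_mem _
      · exact mem_zpowers σ
    have hc := card_le_of_le hle
    rw [hP, Nat.card_zpowers] at hc
    have := orderOf_le_of_pow_eq_one (x := σ) (n := 2) (by norm_num) (by rw [pow_two, hexp σ hσP])
    omega
  push Not at hP2
  obtain ⟨ρ, hρP, hρ1, hρσ⟩ := hP2
  have hs := (hconj σ hσP).resolve_left (hno σ hσP hσ1 f hf5)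
  have hr := (hconj ρ hρP).resolve_left (hno ρ hρP hρ1 f hf5)
  refine hno (σ * ρ) (P.mul_mem hσP hρP) (fun e => hρσ ?_) f hf5 ?_
  · exact (eq_inv_of_mul_eq_one_right e).trans (inv_eq_of_mul_eq_one_right (hexp σ hσP))
  · calc σ * ρ * f * (σ * ρ)⁻¹ = σ * (ρ * f * ρ⁻¹) * σ⁻¹ := by group
      _ = (σ * f * σ⁻¹)⁻¹ := by rw [hr]; group
      _ = f := by rw [hs, inv_inv]

namespace Coord

variable {G : Type*} [Group G] {s : G}

/-- Not every involution of `C(s)` is fused to `s`. -/
theorem not_all_fused [Finite G] (K : Coord s 0) (hall : K.mask = 31) : False := by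
  have h4 : (0 : ℕ) < 4 := by omega
  have ha := sixteenA_ok
  simp only [sixteenA, com0, Bool.and_eq_true, Bool.or_eq_true, Bool.not_eq_true', Bool.eq_false_iff,
    ne_eq, allBelow_spec, Nat.beq_eq, Nat.blt_eq] at ha
  obtain ⟨hA16, h0A, h16A, hAclosed, hC, hout, hQcase⟩ := ha
  have hn := sixteenN_ok
  simp only [sixteenN, com0, Bool.and_eq_true, Bool.or_eq_true, Bool.not_eq_true', Bool.eq_false_iff,
    ne_eq, allBelow_spec, Nat.beq_eq] at hn
  obtain ⟨hN64, hfixN, hNsq, hNcomm⟩ := hn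
  have key31 : ∀ c < 16, c ≠ 0 → c ≤ 6 → colOn 31 c = true := by decide +kernel
  have hncls : ncls 0 = 6 := by decide +kernel
  have fused : ∀ x < 192, cls 0 x ≠ 0 → IsConj (K.el x) s := fun x hx hc => (K.mask_spec h4 hx).2 (by
    rw [hall]; exact key31 _ (cls_lt 0 x) hc (hncls ▸ ((tbl h4 hx).2 hc).2.2.1))
  have closed : ∀ x < 192, ∀ y < 192, inA x = true → inA y = true →
      inA (mulC 0 x y) = true ∧ mulC 0 x y = mulC 0 y x := by
    intro x hx y hy hxA hyA
    rcases hAclosed x hx with h | h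
    · exact absurd hxA h
    · rcases h.2 y hy with h' | h'
      · exact absurd hyA h'
      · exact h'
  have sqA : ∀ x < 192, inA x = true → K.el x * K.el x = 1 := fun x hx hxA => by
    rcases hAclosed x hx with h | h
    · exact absurd hxA h
    · rw [K.el_mul x hx x hx, h.1, K.el_zero h4]
  let A : Subgroup G :=
    { carrier := {g | ∃ x < 192, inA x = true ∧ K.el x = g}
      one_mem' := ⟨0, by omega, h0A, K.el_zero h4⟩
      mul_mem' := by
        rintro _ _ ⟨x, hx, hxA, rfl⟩ ⟨y, hy, hyA, rfl⟩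
        exact ⟨_, mulC_lt h4 hx hy, (closed x hx y hy hxA hyA).1, (K.el_mul x hx y hy).symm⟩
      inv_mem' := by
        rintro _ ⟨x, hx, hxA, rfl⟩
        exact ⟨x, hx, hxA, (inv_eq_of_mul_eq_one_right (sqA x hx hxA)).symm⟩ }
  have hcommA : ∀ a ∈ A, ∀ b ∈ A, a * b = b * a := by
    rintro _ ⟨x, hx, hxA, rfl⟩ _ ⟨y, hy, hyA, rfl⟩
    exact (K.comm_iff h4 hx hy).2 (closed x hx y hy hxA hyA).2
  have hexpA : ∀ a ∈ A, a * a = 1 := by
    rintro _ ⟨x, hx, hxA, rfl⟩
    exact sqA x hx hxA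
  have mem_el : ∀ x < 192, (K.el x ∈ A ↔ inA x = true) := fun x hx =>
    ⟨fun ⟨y, hy, hyA, e⟩ => K.el_inj y hy x hx e ▸ hyA, fun h => ⟨x, hx, h, rfl⟩⟩
  have hcardA : Nat.card A = 16 := by
    rw [← hA16]
    exact card_eq_countBelow K.el 192 _ (· ∈ A) (fun a ha b hb h => K.el_inj a ha b hb h)
      (fun j hj => (mem_el j hj).symm) fun a ⟨x, hx, _, e⟩ => ⟨x, hx, e⟩
  have hsA : s ∈ A := ⟨16, by omega, h16A, K.el_s⟩
  have inv_class : ∀ x < 192, K.el x ≠ 1 → K.el x * K.el x = 1 → cls 0 x ≠ 0 := fun x hx h1 h2 =>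
    (K.sq_iff h4 hx).1 ⟨h1, h2⟩
  -- every involution of `A` moves to `s` inside the normaliser
  have move : ∀ a ∈ A, a ≠ 1 → ∃ h : G, h ∈ normalizer (A : Set G) ∧ h * a * h⁻¹ = s := by
    intro a ha ha1
    obtain ⟨x, hx, hxA, rfl⟩ := ha
    obtain ⟨g, hg⟩ := isConj_iff.1 (fused x hx (inv_class x hx ha1 (sqA x hx hxA)))
    set B := A.map (MulAut.conj g).toMonoidHom with hB
    have hBcard : Nat.card B = 16 := by
      rw [hB, card_map_of_injective (MulAut.conj g).injective, hcardA]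
    have hBcomm : ∀ b ∈ B, ∀ c ∈ B, b * c = c * b := by
      rintro _ ⟨b, hb, rfl⟩ _ ⟨c, hc, rfl⟩
      rw [← map_mul, ← map_mul, hcommA b hb c hc]
    have hBsq : ∀ b ∈ B, b * b = 1 := by
      rintro _ ⟨b, hb, rfl⟩
      rw [← map_mul, hexpA b hb, map_one]
    have hsB : s ∈ B := ⟨K.el x, ⟨x, hx, hxA, rfl⟩, hg⟩
    have hBcode : ∀ b ∈ B, ∃ y < 192, K.el y = b := fun b hb => K.surj b (hBcomm b hb s hsB)
    by_cases hout' : ∃ y < 192, 32 ≤ y ∧ K.el y ∈ B
    · obtain ⟨y, hy, hy32, hyB⟩ := hout'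
      have hy1 : K.el y ≠ 1 := fun e => by
        have := K.el_inj y hy 0 (by omega) (e.trans (K.el_zero h4).symm)
        omega
      have hyc := inv_class y hy hy1 (hBsq _ hyB)
      obtain ⟨l, hls, hl⟩ := K.class_conj h4 hy hyc
      obtain ⟨r, hr, hrA, hrC⟩ : ∃ r < 192, rep 0 (cls 0 y - 1) = r ∧
          ∀ z < 192, mulC 0 z r = mulC 0 r z → inA z = true := by
        rcases hout y hy with h | h | h | h
        · omega
        · exact absurd h hyc
        · exact ⟨96, by omega, by rw [h]; decide +kernel, fun z hz e => (hC z hz).1.resolve_left fun c => c e⟩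
        · exact ⟨101, by omega, by rw [h]; decide +kernel, fun z hz e => (hC z hz).2.2.1.resolve_left fun c => c e⟩
      rw [hrA] at hl
      refine ⟨l * g, ?_, ?_⟩
      · have hle : A.map (MulAut.conj (l * g)).toMonoidHom ≤ A := by
          rintro _ ⟨b, hb, rfl⟩
          have hbB : g * b * g⁻¹ ∈ B := ⟨b, hb, rfl⟩
          show l * g * b * (l * g)⁻¹ ∈ A
          rw [show l * g * b * (l * g)⁻¹ = l * (g * b * g⁻¹) * l⁻¹ by group]
          obtain ⟨z, hz, hzb⟩ := K.surj (l * (g * b * g⁻¹) * l⁻¹) (by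
            have hls' : l * s * l⁻¹ = s := mul_inv_eq_iff_eq_mul.2 hls
            rw [← hls', conj_mul, conj_mul, hBcomm _ hbB s hsB])
          refine ⟨z, hz, hrC z hz ((K.comm_iff h4 hz hr).1 ?_), hzb⟩
          rw [hzb, ← hl, conj_mul, conj_mul, hBcomm _ hbB _ hyB]
        have heq := eq_of_le_of_card_ge hle (by rw [card_map_of_injective (MulAut.conj (l * g)).injective])
        refine mem_normalizer_iff.2 fun b => ⟨fun hb => hle ⟨b, hb, rfl⟩, fun hb => ?_⟩
        rw [← heq] at hb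
        obtain ⟨c, hc, hcb⟩ := hb
        exact (MulAut.conj (l * g)).injective hcb ▸ hc
      · rw [show l * g * K.el x * (l * g)⁻¹ = l * (g * K.el x * g⁻¹) * l⁻¹ by group, hg]
        exact mul_inv_eq_iff_eq_mul.2 hls
    · exfalso
      push Not at hout'
      have hQ : ∀ b ∈ B, ∃ y < 32, K.el y = b := fun b hb => by
        obtain ⟨y, hy, rfl⟩ := hBcode b hb
        exact ⟨y, (lt_or_ge y 32).resolve_right fun h => hout' y hy h hb, rfl⟩
      obtain ⟨b, hbB, hb1, hbs⟩ : ∃ b ∈ B, b ≠ 1 ∧ b ≠ s := by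
        by_contra hc
        push Not at hc
        have hle : B ≤ zpowers s := fun b hb => by
          by_cases e : b = 1
          · rw [e]; exact one_mem _
          · rw [hc b hb e]; exact mem_zpowers s
        have h := card_le_of_le hle
        rw [hBcard, Nat.card_zpowers] at h
        have := orderOf_le_of_pow_eq_one (x := s) (n := 2) (by norm_num) (by rw [pow_two, K.s_sq h4])
        omega
      obtain ⟨y, hy, rfl⟩ := hQ b hbB
      have hy2 : 1 < cls 0 y := by
        have h1 := inv_class y (by omega) hb1 (hBsq _ hbB)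
        have key : ∀ y < 32, cls 0 y = 1 → y = 16 := by decide +kernel
        by_contra hc
        exact hbs (by rw [key y hy (by omega), K.el_s])
      rcases hQcase y hy with h | ⟨hcount, hnc⟩
      · exact h hy2
      refine hnc fun u hu v hv => ?_
      rintro ⟨⟨hyu, hyv⟩, huv⟩
      have hcent : ∀ z < 32, mulC 0 y z = mulC 0 z y → K.el z ∈ B := by
        let T : Set G := {g | ∃ z < 32, mulC 0 y z = mulC 0 z y ∧ K.el z = g}
        have hBT : (B : Set G) ⊆ T := fun c hc => by
          obtain ⟨z, hz, rfl⟩ := hQ c hc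
          exact ⟨z, hz, (K.comm_iff h4 (by omega) (by omega)).1 (hBcomm _ hbB _ hc), rfl⟩
        have hTc : Nat.card T = 16 := by
          rw [← hcount]
          exact card_eq_countBelow K.el 32 _ (· ∈ T)
            (fun a ha b hb h => K.el_inj a (by omega) b (by omega) h)
            (fun j hj => by
              rw [Nat.beq_eq]
              exact ⟨fun h => ⟨j, hj, h, rfl⟩, fun ⟨z, hz, h, e⟩ => by
                rwa [← K.el_inj z (by omega) j (by omega) e]⟩)
            fun g ⟨z, hz, _, e⟩ => ⟨z, hz, e⟩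
        intro z hz he
        have heq : (B : Set G) = T := Set.eq_of_subset_of_ncard_le hBT
          (by rw [← Nat.card_coe_set_eq, ← Nat.card_coe_set_eq, hTc]; exact hBcard.ge) (Set.toFinite T)
        exact heq.ge ⟨z, hz, he, rfl⟩
      exact huv ((K.comm_iff h4 (by omega) (by omega)).1 (hBcomm _ (hcent u hu hyu) _ (hcent v hv hyv)))
  -- the normaliser
  set N := normalizer (A : Set G) with hN
  have conj_A : ∀ n ∈ N, ∀ a ∈ A, n * a * n⁻¹ ∈ A := fun n hn a ha => (mem_normalizer_iff.1 hn a).1 ha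
  have code_iff : ∀ g < 192, (inN g = true ↔ K.el g ∈ N) := by
    intro g hg
    have hconj : ∀ x < 192, ∀ y < 192, (mulC 0 g x = mulC 0 y g ↔ K.el g * K.el x * (K.el g)⁻¹ = K.el y) :=
      fun x hx y hy => by
        rw [mul_inv_eq_iff_eq_mul, K.el_mul g hg x hx, K.el_mul y hy g hg]
        exact ⟨fun e => by rw [e], K.el_inj _ (mulC_lt h4 hg hx) _ (mulC_lt h4 hy hg)⟩
    simp only [inN, allBelow_spec, Bool.and_eq_true, Bool.or_eq_true, Bool.not_eq_true', Bool.eq_false_iff,
      ne_eq, Nat.beq_eq]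
    constructor
    · intro h
      have hle : A.map (MulAut.conj (K.el g)).toMonoidHom ≤ A := by
        rintro _ ⟨_, ⟨x, hx, hxA, rfl⟩, rfl⟩
        rcases h x hx with h' | h'
        · exact absurd hxA h'
        · push Not at h'
          obtain ⟨y, hy, hyA, e⟩ := h'
          exact ⟨y, hy, hyA, ((hconj x hx y hy).1 e).symm⟩
      have heq := eq_of_le_of_card_ge hle (by rw [card_map_of_injective (MulAut.conj (K.el g)).injective])
      refine mem_normalizer_iff.2 fun b => ⟨fun hb => hle ⟨b, hb, rfl⟩, fun hb => ?_⟩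
      rw [← heq] at hb
      obtain ⟨c, hc, hcb⟩ := hb
      exact (MulAut.conj (K.el g)).injective hcb ▸ hc
    · intro hgN x hx
      by_cases hxA : inA x = true
      · right
        obtain ⟨y, hy, hyA, e⟩ := conj_A _ hgN _ ⟨x, hx, hxA, rfl⟩
        exact fun h => h y hy ⟨hyA, (hconj x hx y hy).2 e.symm⟩
      · exact Or.inl hxA
  have hAN : A ≤ N := le_normalizer
  haveI hAnorm : (A.subgroupOf N).Normal := normal_in_normalizer
  set C := (centralizer ({s} : Set G)).subgroupOf N with hCdef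
  have hCcard : Nat.card C = 64 := by
    rw [← hN64]
    refine (Nat.card_congr ?_).trans (card_eq_countBelow K.el 192 _ (fun g => g ∈ N ∧ g * s = s * g)
      (fun a ha b hb h => K.el_inj a ha b hb h)
      (fun j hj => ⟨fun h => ⟨(code_iff j hj).1 h, K.mem j hj⟩, fun h => (code_iff j hj).2 h.1⟩)
      fun g hg => K.surj g hg.2)
    exact { toFun := fun g => ⟨g.1.1, g.1.2, mem_centralizer_singleton_iff.1 g.2⟩
            invFun := fun g => ⟨⟨g.1, g.2.1⟩, mem_centralizer_singleton_iff.2 g.2.2⟩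
            left_inv := fun g => rfl
            right_inv := fun g => rfl }
  have hindex : C.index = 15 := by
    have e : N ⧸ C ≃ {a : A // a ≠ 1} := by
      refine Equiv.ofBijective (Quotient.lift
        (fun g : N => (⟨⟨g * s * (g : G)⁻¹, conj_A g g.2 s hsA⟩, fun h => K.s_ne_one h4 (by
          have h' : (g : G) * s * (g : G)⁻¹ = 1 := congrArg Subtype.val h
          rw [mul_inv_eq_one] at h'
          exact mul_eq_left.1 h')⟩ : {a : A // a ≠ 1})) ?_) ⟨?_, ?_⟩
      · intro a b hab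
        have h : ((a : G)⁻¹ * b) * s = s * ((a : G)⁻¹ * b) :=
          mem_centralizer_singleton_iff.1 (mem_subgroupOf.1 (QuotientGroup.leftRel_apply.1 hab))
        refine Subtype.ext (Subtype.ext ?_)
        show (a : G) * s * (a : G)⁻¹ = (b : G) * s * (b : G)⁻¹
        rw [show (b : G) * s * (b : G)⁻¹ = a * ((a : G)⁻¹ * b * s) * (b : G)⁻¹ by group, h]
        group
      · rintro ⟨a⟩ ⟨b⟩ hab
        refine Quotient.sound (QuotientGroup.leftRel_apply.2 (mem_subgroupOf.2 ?_))
        have h : (a : G) * s * (a : G)⁻¹ = (b : G) * s * (b : G)⁻¹ :=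
          congrArg (fun z : {a : A // a ≠ 1} => ((z : A) : G)) hab
        rw [mem_centralizer_singleton_iff, Subgroup.coe_mul, Subgroup.coe_inv,
          show (a : G)⁻¹ * b * s = (a : G)⁻¹ * (b * s * (b : G)⁻¹) * b by group, ← h]
        group
      · rintro ⟨⟨a, ha⟩, hne⟩
        obtain ⟨h, hh, hha⟩ := move a ha fun e => hne (Subtype.ext e)
        refine ⟨((⟨h, hh⟩ : N)⁻¹ : N), Subtype.ext (Subtype.ext ?_)⟩
        show h⁻¹ * s * (h⁻¹)⁻¹ = a
        rw [← hha]; group
    haveI := Fintype.ofFinite A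
    classical
    rw [index_eq_card, Nat.card_congr e, Nat.card_eq_fintype_card, Fintype.card_subtype_compl,
      Fintype.card_subtype_eq, ← Nat.card_eq_fintype_card, hcardA]
  have hW : Nat.card (N ⧸ A.subgroupOf N) = 60 := by
    have h := card_eq_card_quotient_mul_card_subgroup (A.subgroupOf N)
    rw [Nat.card_congr (subgroupOfEquivOfLe hAN).toEquiv, hcardA, ← C.index_mul_card, hindex, hCcard] at h
    omega
  set π := QuotientGroup.mk' (A.subgroupOf N) with hπ
  set P := C.map π with hPdef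
  have hAC : A.subgroupOf N ≤ C := fun g hg =>
    mem_subgroupOf.2 (mem_centralizer_singleton_iff.2 (hcommA g (mem_subgroupOf.1 hg) s hsA))
  have hcomap : P.comap π = C := by
    rw [hPdef, comap_map_eq, QuotientGroup.ker_mk', sup_eq_left]
    exact hAC
  have memP : ∀ n : N, π n ∈ P ↔ (n : G) * s = s * n := fun n => by
    rw [← mem_comap, hcomap, hCdef, mem_subgroupOf, mem_centralizer_singleton_iff]
  have hP4 : Nat.card P = 4 := by
    have hi : P.index = 15 := by
      rw [← hindex, ← hcomap, index_comap_of_surjective _ (QuotientGroup.mk'_surjective _)]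
    have h := P.index_mul_card
    rw [hi, hW] at h
    omega
  have liftC : ∀ a ∈ P, ∃ n : N, ∃ g < 192, inN g = true ∧ K.el g = n ∧ π n = a := by
    rintro _ ⟨n, hn, rfl⟩
    obtain ⟨g, hg, e⟩ := K.surj (n : G) (mem_centralizer_singleton_iff.1 (mem_subgroupOf.1 hn))
    exact ⟨n, g, hg, (code_iff g hg).2 (e ▸ n.2), e, rfl⟩
  have hcommP : ∀ a ∈ P, ∀ b ∈ P, a * b = b * a := by
    intro a ha b hb
    obtain ⟨m, g, hg, hgN, eg, rfl⟩ := liftC a ha
    obtain ⟨n, h, hh, hhN, eh, rfl⟩ := liftC b hb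
    rw [← map_mul, ← map_mul, eq_comm, hπ, QuotientGroup.mk'_eq_mk']
    rcases hNcomm g hg with r | r
    · exact absurd hgN r
    rcases r h hh with r' | r'
    · exact absurd hhN r'
    push Not at r'
    obtain ⟨c, hc, hcA, e⟩ := r'
    refine ⟨((n * m)⁻¹ * (m * n)), mem_subgroupOf.2 ?_, by group⟩
    have hc' : ((m * n : N) : G) = K.el c * ((n * m : N) : G) := by
      rw [Subgroup.coe_mul, Subgroup.coe_mul, ← eg, ← eh, K.el_mul g hg h hh, K.el_mul h hh g hg,
        K.el_mul c hc _ (mulC_lt h4 hh hg), e]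
    rw [Subgroup.coe_mul, Subgroup.coe_inv, hc', ← mul_assoc]
    simpa using conj_A _ (N.inv_mem (n * m).2) _ ((mem_el c hc).2 hcA)
  have hexpP : ∀ a ∈ P, a * a = 1 := by
    intro a ha
    obtain ⟨m, g, hg, hgN, eg, rfl⟩ := liftC a ha
    rw [← map_mul, hπ, QuotientGroup.mk'_apply, QuotientGroup.eq_one_iff, mem_subgroupOf,
      Subgroup.coe_mul, ← eg, K.el_mul g hg g hg]
    rcases hNsq g hg with r | r
    · exact absurd hgN r
    · exact (mem_el _ (mulC_lt h4 hg hg)).2 r.1
  have hnormP : ∀ n, (∀ a ∈ P, n * a * n⁻¹ ∈ P) → n ∈ P := by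
    intro a ha
    obtain ⟨n, rfl⟩ := QuotientGroup.mk'_surjective _ a
    rw [memP]
    have hinA := conj_A n n.2 s hsA
    obtain ⟨y, hy, hyA, e⟩ := hinA
    rcases hfixN y hy with r | r | r | r
    · exact absurd hyA r
    · exfalso
      rw [r, K.el_zero h4] at e
      have h1 := e.symm
      rw [mul_inv_eq_one] at h1
      exact K.s_ne_one h4 (mul_eq_left.1 h1)
    · rw [r, K.el_s] at e
      exact mul_inv_eq_iff_eq_mul.1 e.symm
    · exfalso
      refine r fun g hg => ?_
      by_cases hgN : inN g = true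
      · right
        refine (K.comm_iff h4 hg hy).1 ?_
        have hgP : π ⟨K.el g, (code_iff g hg).1 hgN⟩ ∈ P := (memP _).2 (K.mem g hg)
        have h' := ha _ hgP
        rw [hPdef] at h'
        have hback : ∀ q ∈ P, (π n)⁻¹ * q * π n ∈ P := by
          intro q hq
          let F : P → P := fun p => ⟨π n * p * (π n)⁻¹, ha p p.2⟩
          have hF : Function.Injective F := fun p p' hpp => by
            have h2 : π n * p * (π n)⁻¹ = π n * p' * (π n)⁻¹ := congrArg Subtype.val hpp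
            exact Subtype.ext (mul_left_cancel (mul_right_cancel h2))
          obtain ⟨p, hp⟩ := (hF.bijective_of_nat_card_le le_rfl).2 ⟨q, hq⟩
          have hp' : π n * p * (π n)⁻¹ = q := congrArg Subtype.val hp
          rw [← hp', show (π n)⁻¹ * (π n * p * (π n)⁻¹) * π n = (p : N ⧸ A.subgroupOf N) by group]
          exact p.2
        have h2 := (memP (n⁻¹ * ⟨K.el g, (code_iff g hg).1 hgN⟩ * n)).1 (by
          rw [map_mul, map_mul, map_inv]; exact hback _ hgP)
        rw [Subgroup.coe_mul, Subgroup.coe_mul, Subgroup.coe_inv] at h2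
        rw [e]
        calc K.el g * ((n : G) * s * (n : G)⁻¹) = n * ((n : G)⁻¹ * K.el g * n * s) * (n : G)⁻¹ := by group
          _ = n * (s * ((n : G)⁻¹ * K.el g * n)) * (n : G)⁻¹ := by rw [h2]
          _ = n * s * (n : G)⁻¹ * K.el g := by group
      · exact Or.inl hgN
  obtain ⟨σ, hσP, hσ1, f, hf5, hσf⟩ := exists_commuting_five hW P hP4 hcommP hexpP hnormP
  -- the orbit of five fixed points
  obtain ⟨m, g, hg, hgN, eg, rfl⟩ := liftC σ hσP
  obtain ⟨φ, rfl⟩ := QuotientGroup.mk'_surjective _ f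
  have hgA : ¬ inA g = true := fun h => hσ1 (by
    rw [hπ, QuotientGroup.mk'_apply, QuotientGroup.eq_one_iff, mem_subgroupOf, ← eg]
    exact (mem_el g hg).2 h)
  have hcount := ((hNsq g hg).resolve_left fun r => r hgN).2.resolve_left hgA
  have hmφ : ((m : G) * φ * (m : G)⁻¹) * (φ : G)⁻¹ ∈ A := by
    have h : π (m * φ * m⁻¹ * φ⁻¹) = 1 := by
      rw [map_mul, map_mul, map_mul, map_inv, map_inv, hσf, mul_inv_cancel]
    rw [hπ, QuotientGroup.mk'_apply, QuotientGroup.eq_one_iff, mem_subgroupOf] at h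
    simpa using h
  have hstep : ∀ x ∈ A, (m : G) * ((φ : G) * x * (φ : G)⁻¹) * (m : G)⁻¹ =
      φ * ((m : G) * x * (m : G)⁻¹) * (φ : G)⁻¹ := by
    intro x hx
    set c := (m : G) * φ * (m : G)⁻¹ * (φ : G)⁻¹ with hc
    have hy : (φ : G) * ((m : G) * x * (m : G)⁻¹) * (φ : G)⁻¹ ∈ A := conj_A _ φ.2 _ (conj_A _ m.2 _ hx)
    calc (m : G) * ((φ : G) * x * (φ : G)⁻¹) * (m : G)⁻¹
        = c * ((φ : G) * ((m : G) * x * (m : G)⁻¹) * (φ : G)⁻¹) * c⁻¹ := by rw [hc]; group
      _ = _ := by rw [hcommA c hmφ _ hy, mul_inv_cancel_right]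
  have hfixed : ∀ k : ℕ, (φ : G) ^ k * s * ((φ : G) ^ k)⁻¹ ∈ A ∧
      (m : G) * ((φ : G) ^ k * s * ((φ : G) ^ k)⁻¹) * (m : G)⁻¹ = (φ : G) ^ k * s * ((φ : G) ^ k)⁻¹ := by
    intro k
    induction k with
    | zero =>
      rw [pow_zero, one_mul, inv_one, mul_one]
      exact ⟨hsA, mul_inv_eq_iff_eq_mul.2 ((memP m).1 hσP)⟩
    | succ k ih =>
      have e : (φ : G) ^ (k + 1) * s * ((φ : G) ^ (k + 1))⁻¹ = φ * ((φ : G) ^ k * s * ((φ : G) ^ k)⁻¹) * (φ : G)⁻¹ := by
        rw [pow_succ']; group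
      rw [e]
      exact ⟨conj_A _ φ.2 _ ih.1, by rw [hstep _ ih.1, ih.2]⟩
  have hdiff : ∀ j < 4, ∀ k < 4, (φ : G) ^ j * s * ((φ : G) ^ j)⁻¹ = (φ : G) ^ k * s * ((φ : G) ^ k)⁻¹ →
      j = k := by
    have key : ∀ j k : ℕ, j < k → k < 4 →
        (φ : G) ^ j * s * ((φ : G) ^ j)⁻¹ ≠ (φ : G) ^ k * s * ((φ : G) ^ k)⁻¹ := by
      intro j k hjk hk e
      have hd : k = j + (k - j) := by omega
      rw [hd, pow_add] at e
      have e' : s = (φ : G) ^ (k - j) * s * ((φ : G) ^ (k - j))⁻¹ := by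
        have := congrArg (fun z => ((φ : G) ^ j)⁻¹ * z * (φ : G) ^ j) e
        simpa [mul_assoc] using this
      have hmem : π φ ^ (k - j) ∈ P := by
        rw [← map_pow, memP, Subgroup.coe_pow]
        exact (mul_inv_eq_iff_eq_mul.1 e'.symm)
      have h5 := Subgroup.orderOf_dvd_natCard P hmem
      rw [hP4] at h5
      have hpow : orderOf (π φ ^ (k - j)) = 5 := by
        rw [orderOf_pow, hf5]
        rcases (by omega : k - j = 1 ∨ k - j = 2 ∨ k - j = 3) with r | r | r <;> rw [r] <;> norm_num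
      rw [hpow] at h5
      norm_num at h5
    intro j hj k hk e
    rcases Nat.lt_trichotomy j k with h | h | h
    · exact absurd e (key j k h hk)
    · exact h
    · exact absurd e.symm (key k j h hj)
  let T := {a : G // a ∈ A ∧ a ≠ 1 ∧ (m : G) * a * (m : G)⁻¹ = a}
  let F : Fin 4 → T := fun k => ⟨(φ : G) ^ (k : ℕ) * s * ((φ : G) ^ (k : ℕ))⁻¹, (hfixed k).1, fun h => by
    rw [mul_inv_eq_one] at h
    exact K.s_ne_one h4 (mul_eq_left.1 h), (hfixed k).2⟩
  have hF : Function.Injective F := fun j k h => Fin.ext (hdiff _ j.2 _ k.2 (congrArg Subtype.val h))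
  have hT : Nat.card T = 3 := by
    rw [← hcount]
    refine card_eq_countBelow K.el 192 _ _ (fun a ha b hb h => K.el_inj a ha b hb h) (fun j hj => ?_)
      fun a ⟨⟨x, hx, _, e⟩, _, _⟩ => ⟨x, hx, e⟩
    rw [mem_el j hj, ← eg, mul_inv_eq_iff_eq_mul, K.comm_iff h4 hg hj]
    simp only [Bool.and_eq_true, Bool.not_eq_true', Bool.eq_false_iff, ne_eq, Nat.beq_eq]
    exact and_congr Iff.rfl (and_congr (not_congr
      ⟨fun h => by rw [h, K.el_zero h4], fun h => K.el_inj j hj 0 (by omega) (h.trans (K.el_zero h4).symm)⟩) Iff.rfl)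
  haveI : Finite T := Subtype.finite
  have := Nat.card_le_card_of_injective F hF
  rw [Nat.card_fin, hT] at this
  omega

end Coord

end CfsgLib.Recog.ExtraThirtyTwo
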