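import Mathlib.GroupTheory.Perm.Fin
import Mathlib.GroupTheory.SpecificGroups.Alternating

set_option autoImplicit false

/-!
Six involutions of `A8` for the letters of the branch of `A8` and `A9` (owner: helper22).
-/

namespace CfsgLib.Recog.ExtraThirtyTwo

open Equiv

/-- The involutions: the letters 0 to 4 and the two possible values of letter 5. -/
def octFun (second : Bool) : ℕ → Fin 8 → Fin 8
  | 0 => ![2, 3, 0, 1, 6, 7, 4, 5]
  | 1 => ![2, 3, 0, 1, 7, 6, 5, 4]
  | 2 => ![3, 2, 1, 0, 5, 4, 7, 6]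
  | 3 => ![5, 4, 3, 2, 1, 0, 7, 6]
  | 4 => ![4, 6, 5, 7, 0, 2, 1, 3]
  | 5 => if second then ![7, 5, 4, 6, 2, 1, 3, 0] else ![4, 6, 7, 5, 0, 3, 1, 2]
  | _ => id

theorem octFun_invol : ∀ b : Bool, ∀ j : ℕ, ∀ i : Fin 8, octFun b j (octFun b j i) = i
  | b, 0 => by decide +revert
  | b, 1 => by decide +revert
  | b, 2 => by decide +revert
  | b, 3 => by decide +revert
  | b, 4 => by decide +revert
  | b, 5 => by decide +revert
  | b, n + 6 => fun _ => rfl

/-- The permutation of a letter. -/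
def octPerm (second : Bool) (j : ℕ) : Perm (Fin 8) :=
  ⟨octFun second j, octFun second j, octFun_invol second j, octFun_invol second j⟩

/-- The permutation of a word. -/
def octWord (second : Bool) (w : List ℕ) : Perm (Fin 8) := (w.map (octPerm second)).prod

/-- Five generators, as words, of a subgroup of order 32. -/
def octWords : List (List ℕ) := [[0], [1], [0, 3, 1, 3, 0, 3, 1, 3], [2], [3, 1, 3]]

/-- The product of the generators chosen by the bits. -/
def octList (b : ℕ) : List ℕ :=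
  ((List.range 5).map fun i => if b / 2 ^ i % 2 = 1 then octWords.getD i [] else []).flatten

/-- The product table of that subgroup. -/
def octTable : ℕ := 0x30c8111c05625cb4354fb4e9195e15e67dbc775f388a0198246a1ea4b16ebcab09da34ee3facf37e204c30144772d8953d0da46d385657f6f99d7f1d280e2090667a9a85b92cac2f28d276febb8dfb3c11c0530c814354f625cb95e15b4e91c775fe67db19824388a04b16e6a1ea9da34bcab0cf37eee3fa01447204c353d0d72d8985657a46d3d7f1df6f9909066280e25b92c7a9a88d276ac2f2dfb3cfebb872d8953d0d204c301447f6f99d7f1da46d3856577a9a85b92c280e209066febb8dfb3cac2f28d276625cb4354f30c8111c05e67dbc775fb4e9195e156a1ea4b16e388a019824ee3facf37ebcab09da3453d0d72d8901447204c3d7f1df6f9985657a46d35b92c7a9a809066280e2dfb3cfebb88d276ac2f24354f625cb11c0530c81c775fe67db95e15b4e914b16e6a1ea19824388a0cf37eee3fa9da34bcab084653a56d7c675be77df00443214c74254b635cf8c272ad2f6ce37aef3fe08062290e64a16a6b1ee94e11b5e95d6f19f7f9d10c0131c8552d0973d8d9ca30bdab4deb38ffbbc18820398a45a9287b9aca56d784653e77dfc675b214c700443635cf4254bad2f68c272ef3fece37a290e6080626b1ee4a16ab5e9594e11f7f9dd6f1931c8510c0173d8d52d09bdab49ca30ffbbcdeb38398a4188207b9ac5a928c675be77df84653a56d74254b635cf00443214c7ce37aef3fe8c272ad2f64a16a6b1ee08062290e6d6f19f7f9d94e11b5e9552d0973d8d10c0131c85deb38ffbbc9ca30bdab45a9287b9ac18820398a4e77dfc675ba56d784653635cf4254b214c700443ef3fece37aad2f68c2726b1ee4a16a290e608062f7f9dd6f19b5e9594e1173d8d52d0931c8510c01ffbbcdeb38bdab49ca307b9ac5a928398a418820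

end CfsgLib.Recog.ExtraThirtyTwo
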