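import Cfsg.Agent.Lib.Recog.ExtraThirtyTwo.LetterCheck
import Cfsg.Agent.Lib.Recog.ExtraThirtyTwo.AltEightData
import Cfsg.Agent.Lib.Recog.SporBound.AEightA.Valid
import Cfsg.Agent.Lib.Recog.SporBound.AEightB.Valid
import Cfsg.Agent.Lib.Recog.SporBound.AEightL.Valid

set_option autoImplicit false
set_option maxRecDepth 100000

/-!
Checks for gluing the two sides (owner: helper22).
-/

namespace CfsgLib.Recog.ExtraThirtyTwo

open Equiv
open CfsgLib.Recog.Held (countBelow allBelow)

/-- Four alternating conjugations bring a generator of `A` back. -/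
noncomputable def backA (g : ℕ) : Bool :=
  !(allBelow 16 fun c => !(Nat.beq (imgProd 1 g) (prodA c)) || allBelow 16 fun d =>
    !(Nat.beq (imgProd 0 c) (prodA d)) || allBelow 16 fun e => !(Nat.beq (imgProd 1 d) (prodA e)) ||
      !(Nat.beq (imgProd 0 e) (prodA g)))

theorem backA_ok : backA 1 = true ∧ backA 2 = true ∧ backA 4 = true ∧ backA 8 = true := by decide +kernel

theorem prodA_gens : prodA 1 = 1 ∧ prodA 2 = 4 ∧ prodA 4 = 16 ∧ prodA 8 = 96 := by decide +kernel

theorem certA_rels : ∀ w ∈ SporBound.AEightA.cert.rels,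
    w ∈ relInner ∨ w ∈ relFirst ∨ w ∈ relSecond ∨ w = [4, 5, 4, 5] := by decide +kernel

theorem certB_rels : ∀ w ∈ SporBound.AEightB.cert.rels,
    w ∈ relInner ∨ w ∈ relFirst ∨ w ∈ relSecond ∨ w = [4, 5, 4, 5, 2, 1] := by decide +kernel

theorem certL_rels : ∀ w ∈ SporBound.AEightL.cert.rels, w ∈ relInner := by decide +kernel

theorem letters_inner : ∀ w ∈ relInner, ∀ j ∈ w, j < 4 := by decide +kernel

theorem letters_first : ∀ w ∈ relFirst, ∀ j ∈ w, j < 4 ∨ j = 4 := by decide +kernel

theorem letters_second : ∀ w ∈ relSecond, ∀ j ∈ w, j < 4 ∨ j = 5 := by decide +kernel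

theorem squares : [4, 4] ∈ relFirst ∧ [5, 5] ∈ relSecond ∧ codeW [2, 1] = 100 := by decide +kernel

theorem certA_oct : ∀ w ∈ SporBound.AEightA.cert.rels, octWord false w = 1 := by decide +kernel

theorem certB_oct : ∀ w ∈ SporBound.AEightB.cert.rels, octWord true w = 1 := by decide +kernel

theorem certL_oct : ∀ b : Bool, ∀ w ∈ SporBound.AEightL.cert.rels, octWord b w = 1 := by decide +kernel

theorem oct_sign : ∀ b : Bool, ∀ j : Fin 6, Perm.sign (octPerm b j.val) = 1 := by decide +kernel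

theorem oct_seven : ∀ b : Bool, octWord b [0, 3, 5] ≠ 1 ∧ octWord b [0, 3, 5] ^ 7 = 1 := by decide +kernel

theorem oct_fifteen : ∀ b : Bool, let g := octWord b (if b then [0, 4, 3, 5] else [0, 3, 4, 5])
    g ^ 3 ≠ 1 ∧ g ^ 5 ≠ 1 ∧ g ^ 15 = 1 := by decide +kernel

theorem oct_table : ∀ b : Bool, ∀ i j : Fin 32, fld 5 octTable (32 * i.val + j.val) < 32 ∧
    octWord b (octList i.val) * octWord b (octList j.val) = octWord b (octList (fld 5 octTable (32 * i.val + j.val))) := by
  decide +kernel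

theorem oct_inj : ∀ b : Bool, ∀ i j : Fin 32, octWord b (octList i.val) = octWord b (octList j.val) → i = j := by
  decide +kernel

theorem octList_lt : ∀ i : Fin 32, ∀ j ∈ octList i.val, j < 4 := by decide +kernel

end CfsgLib.Recog.ExtraThirtyTwo
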