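import Cfsg.Agent.Lib.Recog.ExtraThirtyTwo.Affine
import Cfsg.Agent.Lib.Recog.ExtraThirtyTwo.AltEightCheck
import Cfsg.Agent.Lib.Known.GLFourTwoOrders

set_option autoImplicit false
set_option linter.style.haveILetI false

/-!
The pattern of `A8` and `A9` contains `A8` (owner: helper22).

The square of the product of the two new letters centralises the elementary group of order sixteen and is fixed by both,
so it is `1` or the code 100; either value gives a presentation with 105 cosets over `C(s)`, satisfied in `A8`.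
-/

namespace CfsgLib.Recog.ExtraThirtyTwo

open Subgroup
open CfsgLib.Recog.Held (countBelow allBelow allBelow_spec card_eq_countBelow)
open CfsgLib.Recog.SporBound
open CfsgLib.ThreeTrans.CosetIndex (eqLetter)

theorem gen_lt : ∀ b : Fin 16, prodA b.val < 192 ∧ imgProd 0 b.val < 192 ∧ imgProd 1 b.val < 192 := by decide +kernel

theorem imgA_lt : ∀ i : Fin 4, imgA 0 i.val < 192 ∧ imgA 1 i.val < 192 := by decide +kernel

theorem bit_cases (b i : ℕ) : fld 1 b i = 0 ∨ fld 1 b i = 1 := by
  rw [fld_one]; omega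

/-- Closure under products gives inverses in a finite group. -/
theorem inv_mem_of_mul_mem {X : Type*} [Group X] [Finite X] {S : Set X} (h1 : (1 : X) ∈ S)
    (hmul : ∀ a ∈ S, ∀ b ∈ S, a * b ∈ S) {a : X} (ha : a ∈ S) : a⁻¹ ∈ S := by
  have hpow : ∀ n : ℕ, a ^ n ∈ S := fun n => by
    induction n with
    | zero => rwa [pow_zero]
    | succ n ih => rw [pow_succ]; exact hmul _ ih _ ha
  rw [inv_eq_of_mul_eq_one_right (show a * a ^ (orderOf a - 1) = 1 by
    rw [← pow_succ', Nat.sub_add_cancel (orderOf_pos a), pow_orderOf_eq_one])]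
  exact hpow _

namespace Coord

variable {G : Type*} [Group G] {s : G} (K : Coord s 0)

theorem lett_sq : ∀ j < 4, K.el (letC j) * K.el (letC j) = 1 := by
  intro j hj
  have key : ∀ j : Fin 4, mulC 0 (letC j.val) (letC j.val) = 0 := by decide +kernel
  rw [K.el_mul _ (letC_lt j hj) _ (letC_lt j hj), key ⟨j, hj⟩, K.el_zero (by omega)]

theorem prod_reverse (m : G) {w : List ℕ} (hw : ∀ j ∈ w, j < 4) :
    (w.reverse.map (K.lett m)).prod = ((w.map (K.lett m)).prod)⁻¹ := by
  induction w with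
  | nil => simp
  | cons j w ih =>
    have hj : j < 4 := hw j List.mem_cons_self
    rw [List.reverse_cons, List.map_append, List.prod_append, ih fun i hi => hw i (List.mem_cons_of_mem _ hi),
      List.map_cons, List.map_nil, List.prod_cons, List.prod_nil, mul_one, List.map_cons, List.prod_cons, mul_inv_rev,
      lett, if_pos hj, inv_eq_of_mul_eq_one_right (K.lett_sq j hj)]

/-- Conjugation of `A` by a new letter. -/
theorem conj_prodA {k : ℕ} (hk : k < 2) {m : G} (hm : ∀ w ∈ relSide k, (w.map (K.lett m)).prod = 1) :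
    m * m = 1 ∧ ∀ b < 16, m * K.el (prodA b) * m = K.el (imgProd k b) := by
  have h4 : (0 : ℕ) < 4 := by omega
  have hlett : K.lett m (4 + k) = m := if_neg (by omega)
  have hsq : m * m = 1 := by
    have hmem : [4 + k, 4 + k] ∈ relSide k := by
      obtain rfl | rfl : k = 0 ∨ k = 1 := by omega
      exacts [squares.1, squares.2.1]
    simpa [hlett] using hm _ hmem
  have hinner : ∀ i < 4, (∀ j ∈ wordsA.getD i [], j < 4) ∧ ∀ j ∈ (wordsImg k).getD i [], j < 4 := by
    have key : ∀ k : Fin 2, ∀ i : Fin 4, (∀ j ∈ wordsA.getD i.val [], j < 4) ∧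
        ∀ j ∈ (wordsImg k.val).getD i.val [], j < 4 := by decide +kernel
    exact fun i hi => key ⟨k, hk⟩ ⟨i, hi⟩
  have hconv : convA k = true := by
    obtain rfl | rfl : k = 0 ∨ k = 1 := by omega
    exacts [convA_ok.1, convA_ok.2]
  simp only [convA, Bool.and_eq_true, allBelow_spec, Nat.beq_eq, List.contains_iff_mem] at hconv
  have hgen : ∀ i < 4, m * K.el (fld 8 0x60100401 i) * m = K.el (imgA k i) := by
    intro i hi
    obtain ⟨hA, hI, hmem⟩ := hconv i hi
    have h := hm _ hmem
    rw [List.map_append, List.map_append, List.map_append, List.prod_append, List.prod_append, List.prod_append,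
      List.map_cons, List.map_nil, List.prod_cons, List.prod_nil, mul_one, hlett,
      (K.prod_inner m _ (hinner i hi).1).1, hA, K.prod_reverse m (hinner i hi).2,
      (K.prod_inner m _ (hinner i hi).2).1, hI, mul_inv_eq_one] at h
    exact h
  refine ⟨hsq, fun b hb => ?_⟩
  have hbit : ∀ i < 4, fld 1 b i * fld 8 0x60100401 i < 192 ∧ fld 1 b i * imgA k i < 192 ∧
      m * K.el (fld 1 b i * fld 8 0x60100401 i) * m = K.el (fld 1 b i * imgA k i) := by
    intro i hi
    rcases bit_cases b i with e | e <;> rw [e]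
    · rw [zero_mul, zero_mul, K.el_zero h4, mul_one]
      exact ⟨by omega, by omega, hsq⟩
    · rw [one_mul, one_mul]
      have key : ∀ i : Fin 4, fld 8 0x60100401 i.val < 192 := by decide +kernel
      refine ⟨key ⟨i, hi⟩, ?_, hgen i hi⟩
      obtain rfl | rfl : k = 0 ∨ k = 1 := by omega
      exacts [(imgA_lt ⟨i, hi⟩).1, (imgA_lt ⟨i, hi⟩).2]
  have hmul : ∀ x y x' y', x < 192 → y < 192 → x' < 192 → y' < 192 → m * K.el x * m = K.el x' →
      m * K.el y * m = K.el y' → m * K.el (mulC 0 x y) * m = K.el (mulC 0 x' y') := by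
    intro x y x' y' hx hy hx' hy' e e'
    rw [← K.el_mul x hx y hy, ← K.el_mul x' hx' y' hy', ← e, ← e']
    calc m * (K.el x * K.el y) * m = m * K.el x * (m * m) * (K.el y * m) := by rw [hsq]; group
      _ = _ := by group
  obtain ⟨a0, b0, e0⟩ := hbit 0 (by omega)
  obtain ⟨a1, b1, e1⟩ := hbit 1 (by omega)
  obtain ⟨a2, b2, e2⟩ := hbit 2 (by omega)
  obtain ⟨a3, b3, e3⟩ := hbit 3 (by omega)
  exact hmul _ _ _ _ (mulC_lt h4 a0 a1) (mulC_lt h4 a2 a3) (mulC_lt h4 b0 b1) (mulC_lt h4 b2 b3)
    (hmul _ _ _ _ a0 a1 b0 b1 e0 e1) (hmul _ _ _ _ a2 a3 b2 b3 e2 e3)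

/-- The square of the product of the two new letters. -/
theorem cross_cases {m₁ m₂ : G} (h₁ : ∀ w ∈ relSide 0, (w.map (K.lett m₁)).prod = 1)
    (h₂ : ∀ w ∈ relSide 1, (w.map (K.lett m₂)).prod = 1) :
    m₁ * m₂ * m₁ * m₂ = 1 ∨ m₁ * m₂ * m₁ * m₂ = K.el 100 := by
  have h4 : (0 : ℕ) < 4 := by omega
  obtain ⟨s₁, c₁⟩ := K.conj_prodA (k := 0) (by omega) h₁
  obtain ⟨s₂, c₂⟩ := K.conj_prodA (k := 1) (by omega) h₂
  set w := m₁ * m₂ * m₁ * m₂ with hw
  have hback : ∀ g < 16, backA g = true → Commute w (K.el (prodA g)) := by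
    intro g hg hb
    simp only [backA, Bool.not_eq_true', Bool.eq_false_iff, ne_eq, allBelow_spec, Bool.or_eq_true, Nat.beq_eq] at hb
    push Not at hb
    obtain ⟨c, hc, e1, d, hd, e2, e, he, e3, e4⟩ := hb
    have h : m₁ * (m₂ * (m₁ * (m₂ * K.el (prodA g) * m₂) * m₁) * m₂) * m₁ = K.el (prodA g) := by
      rw [c₂ g hg, e1, c₁ c hc, e2, c₂ d hd, e3, c₁ e he, e4]
    show w * K.el (prodA g) = K.el (prodA g) * w
    conv_rhs => rw [← h]
    rw [hw]
    calc m₁ * m₂ * m₁ * m₂ * K.el (prodA g)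
        = m₁ * m₂ * m₁ * m₂ * K.el (prodA g) * (m₂ * ((m₁ * (m₂ * (m₁ * m₁) * m₂)) * m₁) * m₂) := by
          simp only [s₁, mul_one, s₂]
      _ = _ := by group
  obtain ⟨g1, g2, g4, g8⟩ := backA_ok
  obtain ⟨p1, p2, p4, p8⟩ := prodA_gens
  have k1 := hback 1 (by omega) g1
  have k2 := hback 2 (by omega) g2
  have k4 := hback 4 (by omega) g4
  have k8 := hback 8 (by omega) g8
  rw [p1] at k1; rw [p2] at k2; rw [p4] at k4; rw [p8] at k8
  obtain ⟨z, hz, hze⟩ := K.surj w (by have h := k4.eq; rwa [K.el_s] at h)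
  have hfix := fixA_ok
  simp only [fixA, com0, Bool.and_eq_true, Bool.or_eq_true, Bool.not_eq_true', Bool.eq_false_iff, ne_eq,
    allBelow_spec, Nat.beq_eq] at hfix
  obtain ⟨hcent, hfix⟩ := hfix
  rw [← hze] at k1 k2 k4 k8
  have hA := (hcent z hz).resolve_left fun r => r ⟨(K.comm_iff h4 hz (by omega)).1 k1,
    (K.comm_iff h4 hz (by omega)).1 k2, (K.comm_iff h4 hz (by omega)).1 k4, (K.comm_iff h4 hz (by omega)).1 k8⟩
  push Not at hA
  obtain ⟨b, hb, hbz⟩ := hA
  have hlt := gen_lt ⟨b, hb⟩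
  have hwb : K.el (prodA b) = w := by rw [hbz, hze]
  have hww : w * w = 1 := by
    have key : ∀ b : Fin 16, mulC 0 (prodA b.val) (prodA b.val) = 0 := by decide +kernel
    rw [← hwb, K.el_mul _ hlt.1 _ hlt.1, key ⟨b, hb⟩, K.el_zero h4]
  have hwi : m₂ * m₁ * m₂ * m₁ = w := by
    have h : w * (m₂ * m₁ * m₂ * m₁) = 1 := by
      rw [hw]
      calc m₁ * m₂ * m₁ * m₂ * (m₂ * m₁ * m₂ * m₁) = m₁ * m₂ * (m₁ * (m₂ * m₂) * m₁) * m₂ * m₁ := by group
        _ = 1 := by rw [s₂, mul_one, s₁, mul_one, mul_assoc m₁ m₂ m₂, s₂, mul_one, s₁]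
    rw [← inv_eq_of_mul_eq_one_right h, inv_eq_of_mul_eq_one_right hww]
  have e₁ : imgProd 0 b = prodA b := K.el_inj _ hlt.2.1 _ hlt.1 (by
    rw [← c₁ b hb, hwb]
    calc m₁ * w * m₁ = m₁ * m₁ * (m₂ * m₁ * m₂ * m₁) := by rw [hw]; group
      _ = w := by rw [s₁, one_mul, hwi])
  have e₂ : imgProd 1 b = prodA b := K.el_inj _ hlt.2.2 _ hlt.1 (by
    rw [← c₂ b hb, hwb]
    calc m₂ * w * m₂ = m₂ * m₁ * m₂ * m₁ * (m₂ * m₂) := by rw [hw]; group
      _ = w := by rw [s₂, mul_one, hwi])
  rcases (hfix b hb).resolve_left (fun r => r ⟨e₁, e₂⟩) with r | r <;> rw [r] at hwb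
  · exact Or.inl (by rw [← hwb, K.el_zero h4])
  · exact Or.inr hwb.symm

end Coord

namespace PairPattern

variable {G : Type*} [Group G] [Finite G] {s : G} {K : Coord s 0}

/-- `G` contains `A8` around `C(s)`. -/
theorem exists_alt_eight (hK : PairPattern K) :
    ∃ f : alternatingGroup (Fin 8) →* G, Function.Injective f ∧ centralizer ({s} : Set G) ≤ f.range := by
  classical
  have h4 : (0 : ℕ) < 4 := by omega
  have hm := hK.mask_eq
  obtain ⟨m₁, h₁⟩ := K.exists_letter hm (k := 0) (by omega)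
  obtain ⟨m₂, h₂⟩ := K.exists_letter hm (k := 1) (by omega)
  obtain ⟨sq₁, -⟩ := K.conj_prodA (k := 0) (by omega) h₁
  obtain ⟨sq₂, -⟩ := K.conj_prodA (k := 1) (by omega) h₂
  let gl : ℕ → G := fun j => if j < 4 then K.el (letC j) else if j = 4 then m₁ else if j = 5 then m₂ else 1
  have gl_sq : ∀ j, gl j * gl j = 1 := by
    intro j
    simp only [gl]
    split_ifs with a b c
    exacts [K.lett_sq j a, sq₁, sq₂, one_mul 1]
  have hglw : ∀ (m : G) (w : List ℕ), (∀ j ∈ w, gl j = K.lett m j) → (w.map gl).prod = (w.map (K.lett m)).prod :=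
    fun m w hw => by rw [List.map_congr_left hw]
  have hI : ∀ w ∈ relInner, (w.map gl).prod = 1 := by
    intro w hw
    have htree := letTree_ok
    simp only [letTree, Bool.and_eq_true, List.all_eq_true, Nat.beq_eq] at htree
    rw [hglw 1 w fun j hj => by simp only [gl, Coord.lett, if_pos (letters_inner w hw j hj)],
      (K.prod_inner 1 w (letters_inner w hw)).1, htree.2.2.2.2.2.2 w hw, K.el_zero h4]
  have hF : ∀ w ∈ relFirst, (w.map gl).prod = 1 := by
    intro w hw
    rw [hglw m₁ w fun j hj => ?_]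
    · exact h₁ w hw
    · rcases letters_first w hw j hj with r | r
      · simp only [gl, Coord.lett, if_pos r]
      · subst r; simp [gl, Coord.lett]
  have hS : ∀ w ∈ relSecond, (w.map gl).prod = 1 := by
    intro w hw
    rw [hglw m₂ w fun j hj => ?_]
    · exact h₂ w hw
    · rcases letters_second w hw j hj with r | r
      · simp only [gl, Coord.lett, if_pos r]
      · subst r; simp [gl, Coord.lett]
  obtain ⟨second, C, hC, hrelG, hrelP, hsubs, hkl, hn⟩ : ∃ (second : Bool) (C : SporBound.Cert), C.OK ∧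
      (∀ w ∈ C.rels, (w.map gl).prod = 1) ∧ (∀ w ∈ C.rels, octWord second w = 1) ∧
      C.subs = [[0], [1], [2], [3]] ∧ C.kl = [0, 1, 2, 3, 4, 5] ∧ C.n = 105 := by
    rcases K.cross_cases h₁ h₂ with r | r
    · refine ⟨false, _, AEightA.ok, fun w hw => ?_, certA_oct, rfl, rfl, rfl⟩
      rcases certA_rels w hw with h | h | h | h
      exacts [hI w h, hF w h, hS w h, by subst h; simpa [gl, mul_assoc] using r]
    · refine ⟨true, _, AEightB.ok, fun w hw => ?_, certB_oct, rfl, rfl, rfl⟩
      rcases certB_rels w hw with h | h | h | h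
      · exact hI w h
      · exact hF w h
      · exact hS w h
      · subst h
        have key : mulC 0 100 100 = 0 ∧ mulC 0 (letC 2) (letC 1) = 100 := by decide +kernel
        rw [show (List.map gl [4, 5, 4, 5, 2, 1]).prod = m₁ * m₂ * m₁ * m₂ * (K.el (letC 2) * K.el (letC 1)) by
          simp [gl, mul_assoc], r, K.el_mul _ (letC_lt 2 (by omega)) _ (letC_lt 1 (by omega)), key.2,
          K.el_mul 100 (by omega) 100 (by omega), key.1, K.el_zero h4]
  let a : ℕ → G × Equiv.Perm (Fin 8) := fun j => (gl j, octPerm second j)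
  have hinv : ∀ j, a j * a j = 1 := fun j =>
    Prod.ext (gl_sq j) (Equiv.ext fun i => octFun_invol second j i)
  have he : a eqLetter = 1 := Prod.ext rfl (Equiv.ext fun i => rfl)
  have hprod : ∀ w : List ℕ, (w.map a).prod = ((w.map gl).prod, octWord second w) := by
    intro w
    induction w with
    | nil => rfl
    | cons j w ih => rw [List.map_cons, List.prod_cons, ih]; rfl
  set H := closure {g | ∃ j ∈ [0, 1, 2, 3], g = a j}
  obtain ⟨hHfin, hH⟩ := Cert.card_le hinv he AEightL.ok (⊥ : Subgroup (G × Equiv.Perm (Fin 8))) H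
    (fun w hw => by rw [hprod, hI w (certL_rels w hw), certL_oct second w hw]; rfl) (fun w hw => by simp [AEightL.cert] at hw)
    le_rfl
  rw [card_bot, mul_one, show AEightL.cert.n = 192 from rfl] at hH
  set D := closure {g | ∃ j ∈ C.kl, g = a j}
  have hsubH : Cert.WordsIn a H C.subs := by
    intro w hw
    rw [hsubs] at hw
    simp only [List.mem_cons, List.not_mem_nil, or_false] at hw
    rcases hw with rfl | rfl | rfl | rfl <;>
      simp only [List.map_cons, List.map_nil, List.prod_cons, List.prod_nil, mul_one] <;>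
      exact subset_closure ⟨_, by simp, rfl⟩
  obtain ⟨hDfin, hD⟩ := Cert.card_le hinv he hC H D (fun w hw => by rw [hprod, hrelG w hw, hrelP w hw]; rfl) hsubH le_rfl
  have hDle : Nat.card D ≤ 20160 := by
    rw [hn] at hD
    exact hD.trans (by omega)
  -- the image in the permutations
  set π := (MonoidHom.snd G (Equiv.Perm (Fin 8))).comp D.subtype
  have hmemD : ∀ w : List ℕ, (∀ j ∈ w, j < 6) → (w.map a).prod ∈ D := fun w hw =>
    list_prod_mem fun x hx => by
      obtain ⟨j, hj, rfl⟩ := List.mem_map.1 hx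
      refine subset_closure ⟨j, ?_, rfl⟩
      rw [hkl]
      have := hw j hj
      simp only [List.mem_cons, List.not_mem_nil, or_false]
      omega
  have hword : ∀ w : List ℕ, (∀ j ∈ w, j < 6) → octWord second w ∈ π.range := fun w hw =>
    ⟨⟨_, hmemD w hw⟩, by show ((w.map a).prod).2 = _; rw [hprod]⟩
  have hRA : π.range ≤ alternatingGroup (Fin 8) := by
    rintro _ ⟨⟨g, hg⟩, rfl⟩
    show g.2 ∈ alternatingGroup (Fin 8)
    induction hg using closure_induction with
    | mem x hx =>
      obtain ⟨j, hj, rfl⟩ := hx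
      rw [hkl] at hj
      have h6 : j < 6 := by simp only [List.mem_cons, List.not_mem_nil, or_false] at hj; omega
      exact Equiv.Perm.mem_alternatingGroup.2 (oct_sign second ⟨j, h6⟩)
    | one => exact one_mem _
    | mul x y _ _ hx hy => exact mul_mem hx hy
    | inv x _ hx => exact inv_mem hx
  have h7 : 7 ∣ Nat.card π.range := by
    haveI : Fact (Nat.Prime 7) := ⟨by norm_num⟩
    have hd := Subgroup.orderOf_dvd_natCard π.range (hword [0, 3, 5] (by decide))
    rwa [orderOf_eq_prime (oct_seven second).2 (oct_seven second).1] at hd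
  have h15 : 15 ∣ Nat.card π.range := by
    obtain ⟨h3, h5, h15⟩ := oct_fifteen second
    have hd := Subgroup.orderOf_dvd_natCard π.range (hword (if second then [0, 4, 3, 5] else [0, 3, 4, 5])
      (by cases second <;> decide))
    rcases (by decide : ∀ d ∈ Nat.divisors 15, d = 1 ∨ d = 3 ∨ d = 5 ∨ d = 15) _
      (Nat.mem_divisors.2 ⟨orderOf_dvd_of_pow_eq_one h15, by omega⟩) with r | r | r | r
    · refine absurd ?_ h3
      rw [orderOf_eq_one_iff.1 r, one_pow]
    · have h' := pow_orderOf_eq_one (octWord second (if second then [0, 4, 3, 5] else [0, 3, 4, 5]))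
      rw [r] at h'
      exact absurd h' h3
    · have h' := pow_orderOf_eq_one (octWord second (if second then [0, 4, 3, 5] else [0, 3, 4, 5]))
      rw [r] at h'
      exact absurd h' h5
    · rwa [r] at hd
  have h32 : 32 ∣ Nat.card π.range := by
    have hone : octList 0 = [] := by decide +kernel
    let S : Set (Equiv.Perm (Fin 8)) := {g | ∃ i : Fin 32, octWord second (octList i.val) = g}
    have hS1 : (1 : Equiv.Perm (Fin 8)) ∈ S := ⟨0, by show octWord second (octList 0) = 1; rw [hone]; rfl⟩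
    have hSmul : ∀ p ∈ S, ∀ q ∈ S, p * q ∈ S := by
      rintro _ ⟨i, rfl⟩ _ ⟨j, rfl⟩
      exact ⟨⟨_, (oct_table second i j).1⟩, (oct_table second i j).2.symm⟩
    let P : Subgroup (Equiv.Perm (Fin 8)) :=
      { carrier := S
        one_mem' := hS1
        mul_mem' := fun {p q} hp hq => hSmul p hp q hq
        inv_mem' := fun {p} hp => inv_mem_of_mul_mem hS1 hSmul hp }
    have hP : Nat.card P = 32 := by
      refine (Nat.card_congr (Equiv.ofBijective (fun i : Fin 32 => (⟨_, i, rfl⟩ : P)) ⟨?_, ?_⟩)).symm.trans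
        (Nat.card_fin 32)
      · exact fun i j e => oct_inj second i j (congrArg Subtype.val e)
      · rintro ⟨_, i, rfl⟩
        exact ⟨i, rfl⟩
    rw [← hP]
    refine card_dvd_of_le ?_
    rintro _ ⟨i, rfl⟩
    exact hword _ fun j hj => lt_trans (octList_lt i j hj) (by omega)
  have htop : π.range.subgroupOf (alternatingGroup (Fin 8)) = ⊤ := by
    by_contra hne
    have hi := CfsgLib.Known.GLFourTwo.index_A8_ge _ hne
    have hmulc := (π.range.subgroupOf (alternatingGroup (Fin 8))).index_mul_card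
    rw [CfsgLib.Known.GLFourTwo.card_A8, Nat.card_congr (subgroupOfEquivOfLe hRA).toEquiv] at hmulc
    have h3360 : 3360 ∣ Nat.card π.range := by
      rw [show (3360 : ℕ) = 7 * 15 * 32 by norm_num]
      exact Nat.Coprime.mul_dvd_of_dvd_of_dvd (by norm_num) (Nat.Coprime.mul_dvd_of_dvd_of_dvd (by norm_num) h7 h15) h32
    have hpos : 0 < Nat.card π.range := Nat.card_pos
    have hle : 3360 ≤ Nat.card π.range := Nat.le_of_dvd hpos h3360
    nlinarith
  have hR : π.range = alternatingGroup (Fin 8) := le_antisymm hRA (subgroupOf_eq_top.1 htop)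
  have hcardR : Nat.card π.range = 20160 := by rw [hR, CfsgLib.Known.GLFourTwo.card_A8]
  haveI : Finite D := hDfin
  have hπ : Function.Bijective π.rangeRestrict := by
    refine ⟨?_, π.rangeRestrict_surjective⟩
    exact (π.rangeRestrict_surjective.bijective_of_nat_card_le (hDle.trans hcardR.ge)).1
  let e : D ≃* alternatingGroup (Fin 8) := (MulEquiv.ofBijective _ hπ).trans (MulEquiv.subgroupCongr hR)
  let f : alternatingGroup (Fin 8) →* G :=
    ((MonoidHom.fst G (Equiv.Perm (Fin 8))).comp D.subtype).comp e.symm.toMonoidHom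
  have hle : centralizer ({s} : Set G) ≤ f.range := by
    refine K.cent_le_closure.trans ((closure_le _).2 ?_)
    rintro _ ⟨j, hj, rfl⟩
    have hja : a j ∈ D := subset_closure ⟨j, by rw [hkl]; simp only [List.mem_cons]; omega, rfl⟩
    refine ⟨e ⟨a j, hja⟩, ?_⟩
    show (((e.symm (e ⟨a j, hja⟩)) : D) : G × Equiv.Perm (Fin 8)).1 = _
    rw [e.symm_apply_apply]
    show gl j = _
    simp only [gl, if_pos hj]
  refine ⟨f, ?_, hle⟩
  haveI : IsSimpleGroup (alternatingGroup (Fin 8)) := alternatingGroup.isSimpleGroup (by simp)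
  rcases (MonoidHom.normal_ker f).eq_bot_or_eq_top with h | h
  · exact f.ker_eq_bot_iff.1 h
  · exfalso
    obtain ⟨x, hx⟩ := hle (mem_centralizer_singleton_iff.2 (rfl : s * s = s * s))
    have hx1 : f x = 1 := f.mem_ker.1 (h ▸ mem_top x)
    exact K.s_ne_one h4 (hx.symm.trans hx1)

end PairPattern

end CfsgLib.Recog.ExtraThirtyTwo
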