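import Cfsg.Agent.Lib.Recog.ExtraThirtyTwo.MTwelveData
import Cfsg.Agent.Lib.Recog.ExtraThirtyTwo.Colour
import Cfsg.Agent.Lib.Recog.MTwelveCent.Main
import Cfsg.Agent.Lib.Sporadic.SporMathieu
import Cfsg.Agent.S0421

set_option autoImplicit false

/-!
A simple group in the third candidate is `M₁₂` (owner: helper22).
-/

namespace CfsgLib.Recog.ExtraThirtyTwo

open CfsgLib.Recog.Held (allBelow allBelow_spec)

/-- The code of a table index. -/
noncomputable def isoF (i : ℕ) : ℕ := fld 8 isoData i

/-- The table is that of the third candidate. -/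
noncomputable def isoOK : Bool :=
  allBelow 192 (fun i => Nat.blt (isoF i) 192 &&
    (Nat.blt (MTwelveCent.inv i) 192 &&
    allBelow 192 fun j => Nat.blt (MTwelveCent.mul i j) 192 &&
      Nat.beq (isoF (MTwelveCent.mul i j)) (mulC 2 (isoF i) (isoF j)))) &&
  (Nat.beq (isoF MTwelveCent.iz) 16 &&
    allBelow 192 fun i => allBelow 192 fun j => Nat.beq i j || !(Nat.beq (isoF i) (isoF j)))

set_option maxRecDepth 100000

theorem isoOK_true : isoOK = true := by decide +kernel

namespace Coord

variable {G : Type*} [Group G] {s : G}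

theorem isoM12_of_simple [Finite G] [IsSimpleGroup G] (K : Coord s 2) : Cfsg.Spor.IsoM12 G := by
  have hi : 2 < 4 := by omega
  have h := isoOK_true
  simp only [isoOK, Bool.and_eq_true, allBelow_spec, Nat.blt_eq, Nat.beq_eq, Bool.or_eq_true, Bool.not_eq_true',
    Bool.eq_false_iff, ne_eq] at h
  obtain ⟨hmain, hiz, hinj⟩ := h
  let f : Fin 192 → Fin 192 := fun j => ⟨isoF j, (hmain j j.2).1⟩
  have hf : Function.Bijective f := Finite.injective_iff_bijective.1 fun a b e =>
    Fin.ext ((hinj a a.2 b b.2).resolve_right fun r => r (congrArg Fin.val e))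
  let S : MTwelveCent.Setting s :=
    { ι := fun j => K.el (isoF j)
      map_mul := fun {a b} ha hb => by
        rw [K.el_mul _ (hmain a ha).1 _ (hmain b hb).1, ← ((hmain a ha).2.2 b hb).2]
      inj := fun {a b} ha hb e => (hinj a ha b hb).resolve_right fun r =>
        r (K.el_inj _ (hmain a ha).1 _ (hmain b hb).1 e)
      mem_iff := fun g => by
        rw [Subgroup.mem_centralizer_singleton_iff]
        constructor
        · intro hg
          obtain ⟨x, hx, rfl⟩ := K.surj g hg
          obtain ⟨j, hj⟩ := hf.2 ⟨x, hx⟩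
          exact ⟨j, j.2, congrArg K.el (congrArg Fin.val hj)⟩
        · rintro ⟨j, hj, rfl⟩
          exact K.mem _ (hmain j hj).1
      map_iz := by rw [hiz, K.el_s] }
  have hna : ¬ IsMulCommutative G := fun hc => by
    have h' := (K.comm_iff hi (a := 32) (b := 96) (by omega) (by omega)).1 (hc.is_comm.comm _ _)
    have key : mulC 2 32 96 ≠ mulC 2 96 32 := by decide +kernel
    exact key h'
  obtain ⟨φ⟩ := Cfsg.Agent.S0421.result ⟨inferInstance, MTwelveCent.card_eq S hna⟩
    Cfsg.Spor.squareDodecad CfsgLib.Sporadic.squareDodecad_mem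
  exact ⟨φ.trans CfsgLib.Sporadic.sporM12Equiv⟩

end Coord

end CfsgLib.Recog.ExtraThirtyTwo
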