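import Cfsg.Agent.Lib.Recog.ExtraThirtyTwo.ColourCheck

set_option autoImplicit false

/-!
The four-group patterns with a pure elementary abelian subgroup of order eight (owner: helper22).
-/

namespace CfsgLib.Recog.ExtraThirtyTwo

open CfsgLib.Recog.Held (countBelow allBelow)

/-- The code of the pure subgroup. -/
noncomputable def inE (i m x : ℕ) : Bool := Nat.beq x 0 || colOn m (cls i x)

/-- The transvection. -/
noncomputable def transV (i m : ℕ) : ℕ := cond (Nat.beq i 0 && Nat.beq m 1) 4 1

/-- The square of a code. -/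
noncomputable def sqC (i x : ℕ) : ℕ := mulC i x x

/-- A pure elementary abelian subgroup with a transvection outside it. -/
noncomputable def pureOK (i m : ℕ) : Bool :=
  let v := transV i m
  Nat.beq (countBelow 192 (inE i m)) 8 &&
  (allBelow 192 (fun x => !(inE i m x) || (allBelow 192 fun y => !(inE i m y) ||
    (inE i m (mulC i x y) && Nat.beq (mulC i x y) (mulC i y x)))) &&
  (!(inE i m v) && Nat.beq (mulC i v v) 0 &&
  (allBelow 192 (fun x => !(inE i m x) || (Nat.beq (mulC i (mulC i (mulC i v x) v) x) 0 ||
    Nat.beq (mulC i (mulC i (mulC i v x) v) x) 16)) &&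
  (!(allBelow 192 fun x => !(inE i m x && Nat.beq (mulC i (mulC i (mulC i v x) v) x) 16)) &&
  (!(allBelow 192 fun x => !(inE i m x && Nat.beq (mulC i x v) (mulC i v x) && !(Nat.beq x 0) && !(Nat.beq x 16))) &&
  (allBelow 192 (fun n => !(Nat.beq (mulC i n v) (mulC i v n)) ||
    !(allBelow 192 fun x => !(inE i m x && Nat.beq (mulC i x v) (mulC i v x)) ||
      Nat.beq (mulC i n x) (mulC i x n)) || Nat.beq (sqC i (sqC i (sqC i n))) 0) &&
  allBelow 192 (fun n => !(allBelow 192 fun x => !(inE i m x) || Nat.beq (mulC i n x) (mulC i x n)) ||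
    inE i m n)))))))

set_option maxRecDepth 100000

theorem pure01 : pureOK 0 1 = true := by decide +kernel
theorem pure02 : pureOK 0 2 = true := by decide +kernel
theorem pure04 : pureOK 0 4 = true := by decide +kernel
theorem pure22 : pureOK 2 2 = true := by decide +kernel

end CfsgLib.Recog.ExtraThirtyTwo
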