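import Cfsg.Agent.Lib.Recog.ExtraThirtyTwo.CliqueConj
import Cfsg.Agent.Lib.Recog.ExtraThirtyTwo.PureCheck
import Cfsg.Agent.Lib.Recog.ExtraThirtyTwo.Colour
import Cfsg.Agent.Lib.TwoGroups.RankFourQuotient.Embeddings

set_option autoImplicit false
set_option linter.style.haveILetI false

/-!
A single fused class: `G` has a normal subgroup of order eight with quotient `L₃(2)` (owner: helper22).
-/

namespace CfsgLib.Recog.ExtraThirtyTwo

open Subgroup CfsgLib.Recog.HeldTri
open CfsgLib.Recog.Held (countBelow allBelow allBelow_spec card_eq_countBelow)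

/-- Automorphisms of an elementary abelian group of order eight. -/
theorem exists_hom_gl_three {E : Type*} [Group E] [Finite E] (hcomm : ∀ a b : E, a * b = b * a)
    (hexp : ∀ x : E, x ^ 2 = 1) (hE : Nat.card E = 8) :
    ∃ f : MulAut E →* GL (Fin 3) (ZMod 2), Function.Injective f := by
  letI : CommGroup E := { ‹Group E› with mul_comm := hcomm }
  letI : Module (ZMod 2) (Additive E) :=
    AddCommGroup.zmodModule (fun x => by
      show Additive.ofMul (x.toMul ^ 2) = 0
      rw [hexp]; rfl)
  set V := Additive E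
  have hW : Module.finrank (ZMod 2) V = 3 := by
    have h := Module.natCard_eq_pow_finrank (K := ZMod 2) (V := V)
    rw [Nat.card_zmod] at h
    have h' : 2 ^ Module.finrank (ZMod 2) V = 2 ^ 3 := by rw [← h]; exact hE
    exact Nat.pow_right_injective le_rfl h'
  let bW : Module.Basis (Fin 3) (ZMod 2) V := Module.finBasisOfFinrankEq (ZMod 2) V hW
  let lin : MulAut E →* (V →ₗ[ZMod 2] V) :=
    { toFun := fun a => (MulEquiv.toAdditive a).toAddMonoidHom.toZModLinearMap 2
      map_one' := LinearMap.ext fun _ => rfl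
      map_mul' := fun _ _ => LinearMap.ext fun _ => rfl }
  let toGL : MulAut E →* GL (Fin 3) (ZMod 2) :=
    (((LinearMap.toMatrixAlgEquiv bW).toAlgHom.toMonoidHom).comp lin).toHomUnits
  refine ⟨toGL, fun a b h => MulEquiv.ext fun v => ?_⟩
  have h1 : lin a = lin b := (LinearMap.toMatrixAlgEquiv bW).injective (congrArg Units.val h)
  exact Additive.ofMul.injective (LinearMap.congr_fun h1 (Additive.ofMul v))

namespace Coord

variable {G : Type*} [Group G] {s : G} {i : ℕ} (K : Coord s i)

include K

/-- The pure case. -/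
theorem normal_of_pure [Finite G] (hi : i < 4) (hpure : pureOK i K.mask = true) :
    ∃ (N : Subgroup G) (hN : N.Normal), IsMulCommutative N ∧ (∀ n ∈ N, n ^ 2 = 1) ∧ Nat.card N = 8 ∧
      Nonempty (G ⧸ N ≃* Matrix.ProjectiveSpecialLinearGroup (Fin 3) (ZMod 2)) := by
  simp only [pureOK, Bool.and_eq_true, Bool.or_eq_true, Bool.not_eq_true', allBelow_spec, Nat.beq_eq] at hpure
  obtain ⟨hcount, hclosed, ⟨hvE, hv2⟩, hact, hact', hfour, htwo, hcent⟩ := hpure
  set v := transV i K.mask
  have hv : v < 192 := by show transV i K.mask < 192; unfold transV; cases (Nat.beq i 0 && Nat.beq K.mask 1) <;> simp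
  have nfalse : ∀ {p : Bool}, (p = false) → ¬ p = true := fun h => by rw [h]; simp
  have in_iff : ∀ x < 192, (inE i K.mask x = true ↔ K.el x = 1 ∨ IsConj (K.el x) s) := by
    intro x hx
    rw [inE, Bool.or_eq_true, Nat.beq_eq, K.mask_spec hi hx, ← K.el_zero hi]
    exact or_congr ⟨fun h => by rw [h], K.el_inj x hx 0 (by omega)⟩ Iff.rfl
  have closed : ∀ x < 192, ∀ y < 192, inE i K.mask x = true → inE i K.mask y = true →
      inE i K.mask (mulC i x y) = true ∧ mulC i x y = mulC i y x := by
    intro x hx y hy hxE hyE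
    rcases hclosed x hx with h | h
    · exact absurd hxE (nfalse h)
    · rcases h y hy with h' | h'
      · exact absurd hyE (nfalse h')
      · exact h'
  have code : ∀ g : G, g = 1 ∨ (Commute g s ∧ IsConj g s) → ∃ x < 192, inE i K.mask x = true ∧ K.el x = g := by
    rintro g (rfl | ⟨hg, hgs⟩)
    · exact ⟨0, by omega, (in_iff 0 (by omega)).2 (Or.inl (K.el_zero hi)), K.el_zero hi⟩
    · obtain ⟨x, hx, hxg⟩ := K.surj g hg.eq
      exact ⟨x, hx, (in_iff x hx).2 (Or.inr (by rwa [hxg])), hxg⟩
  have mem_of : ∀ x < 192, inE i K.mask x = true → K.el x = 1 ∨ (Commute (K.el x) s ∧ IsConj (K.el x) s) :=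
    fun x hx h => ((in_iff x hx).1 h).imp id fun h' => ⟨K.mem x hx, h'⟩
  let A : Subgroup G :=
    { carrier := {g | g = 1 ∨ (Commute g s ∧ IsConj g s)}
      one_mem' := Or.inl rfl
      mul_mem' := by
        intro a b ha hb
        obtain ⟨x, hx, hxE, rfl⟩ := code a ha
        obtain ⟨y, hy, hyE, rfl⟩ := code b hb
        rw [Set.mem_setOf_eq, K.el_mul x hx y hy]
        exact mem_of _ (mulC_lt hi hx hy) (closed x hx y hy hxE hyE).1
      inv_mem' := by
        rintro a (rfl | ⟨ha, has⟩)
        · exact Or.inl inv_one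
        · rw [Set.mem_setOf_eq, inv_eq_of_mul_eq_one_right (K.inv_of_isConj hi has).2]
          exact Or.inr ⟨ha, has⟩ }
  have hcommA : ∀ a ∈ A, ∀ b ∈ A, Commute a b := by
    intro a ha b hb
    obtain ⟨x, hx, hxE, rfl⟩ := code a ha
    obtain ⟨y, hy, hyE, rfl⟩ := code b hb
    exact (K.comm_iff hi hx hy).2 (closed x hx y hy hxE hyE).2
  have hexp : ∀ a ∈ A, a ^ 2 = 1 := by
    rintro a (rfl | ⟨-, has⟩)
    · exact one_pow 2
    · rw [pow_two]; exact (K.inv_of_isConj hi has).2
  have conj_el : ∀ x < 192, K.el v * K.el x * K.el v * K.el x = K.el (mulC i (mulC i (mulC i v x) v) x) := by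
    intro x hx
    rw [K.el_mul v hv x hx, K.el_mul _ (mulC_lt hi hv hx) v hv, K.el_mul _ (mulC_lt hi (mulC_lt hi hv hx) hv) x hx]
  have hcl : Clique A s (K.el v) := by
    refine ⟨K.s_ne_one hi, K.s_sq hi, fun x => Iff.rfl, hcommA, K.mem v hv, ?_, ?_, ?_, ?_, ?_, ?_⟩
    · rw [K.el_mul v hv v hv, hv2, K.el_zero hi]
    · intro h
      exact nfalse hvE ((in_iff v hv).2 (h.imp id And.right))
    · intro a ha
      obtain ⟨x, hx, hxE, rfl⟩ := code a ha
      rcases hact x hx with h | h
      · exact absurd hxE (nfalse h)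
      · rw [conj_el x hx]
        exact h.imp (fun e => by rw [e, K.el_zero hi]) fun e => by rw [e, K.el_s]
    · by_contra hc
      push Not at hc
      refine nfalse hact' (allBelow_spec.2 fun x hx => ?_)
      rw [Bool.not_eq_true', Bool.eq_false_iff]
      intro h
      rw [Bool.and_eq_true, Nat.beq_eq] at h
      exact hc (K.el x) (mem_of x hx h.1) (by rw [conj_el x hx, h.2, K.el_s])
    · by_contra hc
      push Not at hc
      refine nfalse hfour (allBelow_spec.2 fun x hx => ?_)
      rw [Bool.not_eq_true', Bool.eq_false_iff]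
      intro h
      simp only [Bool.and_eq_true, Nat.beq_eq, Bool.not_eq_true', Bool.eq_false_iff, ne_eq] at h
      obtain ⟨⟨⟨hxE, hxv⟩, hx0⟩, hx16⟩ := h
      refine hx16 (K.el_inj x hx 16 (by omega) ((hc _ (mem_of x hx hxE) ((K.comm_iff hi hx hv).2 hxv) ?_).trans K.el_s.symm))
      exact fun e => hx0 (K.el_inj x hx 0 (by omega) (e.trans (K.el_zero hi).symm))
    · intro n hns hnv hfix
      obtain ⟨j, hj, rfl⟩ := K.surj n hns.eq
      refine ⟨3, ?_⟩
      have hz : sqC i (sqC i (sqC i j)) = 0 := by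
        rcases htwo j hj with (h | h) | h
        · exact absurd ((K.comm_iff hi hj hv).1 hnv) (fun e => nfalse h (by rw [e]; exact Nat.beq_refl _))
        · exfalso
          refine nfalse h (allBelow_spec.2 fun x hx => ?_)
          rw [Bool.or_eq_true, Bool.not_eq_true']
          by_cases hxE : (inE i K.mask x && Nat.beq (mulC i x v) (mulC i v x)) = true
          · right
            rw [Bool.and_eq_true, Nat.beq_eq] at hxE
            rw [(K.comm_iff hi hj hx).1 (hfix _ (mem_of x hx hxE.1) ((K.comm_iff hi hx hv).2 hxE.2))]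
            exact Nat.beq_refl _
          · exact Or.inl (Bool.eq_false_iff.2 hxE)
        · exact h
      have hsq : ∀ y < 192, K.el y ^ 2 = K.el (sqC i y) ∧ sqC i y < 192 := fun y hy =>
        ⟨by rw [pow_two, K.el_mul y hy y hy, sqC], mulC_lt hi hy hy⟩
      have h1 := hsq j hj
      have h2 := hsq _ h1.2
      have h3 := hsq _ h2.2
      rw [show (2 : ℕ) ^ 3 = 2 * 2 * 2 from rfl, pow_mul, pow_mul, h1.1, h2.1, h3.1, hz, K.el_zero hi]
  have hall : ∀ g : G, g * s * g⁻¹ ∈ A := fun g =>
    Or.inr ⟨commute_conj hcl g, (isConj_iff.2 ⟨g, rfl⟩).symm⟩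
  have hAn : A.Normal := ⟨by
    rintro a (rfl | ⟨-, has⟩) g
    · rw [mul_one, mul_inv_cancel]; exact A.one_mem
    · obtain ⟨k, hk⟩ := isConj_iff.1 has.symm
      rw [← hk, show g * (k * s * k⁻¹) * g⁻¹ = g * k * s * (g * k)⁻¹ by group]
      exact hall _⟩
  have hA8 : Nat.card A = 8 := by
    rw [← hcount]
    exact card_eq_countBelow K.el 192 _ _ (fun a ha b hb h => K.el_inj a ha b hb h)
      (fun j hj => ⟨mem_of j hj, fun h => (in_iff j hj).2 (h.imp id And.right)⟩) fun a ha =>
      (code a ha).imp fun x h => ⟨h.1, h.2.2⟩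
  have hsA : s ∈ A := Or.inr ⟨Commute.refl s, IsConj.refl s⟩
  -- the index of `C(s)`
  have hindex : (centralizer ({s} : Set G)).index = 7 := by
    have e : G ⧸ centralizer ({s} : Set G) ≃ {a : A // a ≠ 1} := by
      refine Equiv.ofBijective (Quotient.lift
        (fun g => (⟨⟨g * s * g⁻¹, hall g⟩, fun h => K.s_ne_one hi (by
          have h' := congrArg Subtype.val h
          simp only [OneMemClass.coe_one] at h'
          rw [mul_inv_eq_one] at h'
          exact mul_eq_left.1 h')⟩ : {a : A // a ≠ 1})) ?_) ⟨?_, ?_⟩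
      · intro a b hab
        have h : a⁻¹ * b ∈ centralizer ({s} : Set G) := QuotientGroup.leftRel_apply.1 hab
        refine Subtype.ext (Subtype.ext ?_)
        show a * s * a⁻¹ = b * s * b⁻¹
        rw [show b * s * b⁻¹ = a * (a⁻¹ * b * s) * b⁻¹ by group, mem_centralizer_singleton_iff.1 h]
        group
      · rintro ⟨a⟩ ⟨b⟩ hab
        refine Quotient.sound (QuotientGroup.leftRel_apply.2 ?_)
        have h : a * s * a⁻¹ = b * s * b⁻¹ := congrArg (fun z : {a : A // a ≠ 1} => ((z : A) : G)) hab
        rw [mem_centralizer_singleton_iff, show a⁻¹ * b * s = a⁻¹ * (b * s * b⁻¹) * b by group, ← h]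
        group
      · rintro ⟨⟨a, ha⟩, hne⟩
        have hne' : a ≠ 1 := fun h => hne (Subtype.ext h)
        obtain ⟨k, hk⟩ := isConj_iff.1 ((ha.resolve_left hne').2.symm)
        exact ⟨(k : G ⧸ centralizer ({s} : Set G)), Subtype.ext (Subtype.ext hk)⟩
    rw [index_eq_card, Nat.card_congr e]
    haveI := Fintype.ofFinite A
    classical
    rw [Nat.card_eq_fintype_card, Fintype.card_subtype_compl, Fintype.card_subtype_eq, ← Nat.card_eq_fintype_card, hA8]
  have hcard : Nat.card G = 7 * 192 := by
    rw [← (centralizer ({s} : Set G)).index_mul_card, hindex]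
    refine congrArg (7 * ·) ?_
    have h := card_eq_countBelow K.el 192 (fun _ => true) (fun g => g ∈ centralizer ({s} : Set G))
      (fun a ha b hb h => K.el_inj a ha b hb h)
      (fun j hj => iff_of_true rfl (mem_centralizer_singleton_iff.2 (K.mem j hj)))
      (fun g hg => K.surj g (mem_centralizer_singleton_iff.1 hg))
    rw [h, CfsgLib.Recog.Held.countBelow_eq]; simp
  haveI := hAn
  have hcentA : centralizer (A : Set G) = A := by
    refine le_antisymm (fun g hg => ?_) fun a ha => mem_centralizer_iff.2 fun b hb => (hcommA b hb a ha).eq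
    obtain ⟨n, hn, rfl⟩ := K.surj g (mem_centralizer_iff.1 hg s hsA).symm
    rcases hcent n hn with h | h
    · exfalso
      refine nfalse h (allBelow_spec.2 fun x hx => ?_)
      rw [Bool.or_eq_true, Bool.not_eq_true']
      by_cases hxE : inE i K.mask x = true
      · right
        rw [(K.comm_iff hi hn hx).1 (mem_centralizer_iff.1 hg (K.el x) (mem_of x hx hxE)).symm]
        exact Nat.beq_refl _
      · exact Or.inl (Bool.eq_false_iff.2 hxE)
    · exact mem_of n hn h
  obtain ⟨f, hf⟩ := exists_hom_gl_three (E := A) (fun a b => Subtype.ext (hcommA a a.2 b b.2).eq)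
    (fun a => Subtype.ext (hexp a a.2)) hA8
  let c : G →* GL (Fin 3) (ZMod 2) := f.comp (MulAut.conjNormal : G →* MulAut A)
  have hker : c.ker = A := by
    refine SetLike.ext fun g => ?_
    rw [MonoidHom.mem_ker]
    constructor
    · intro h
      have h' : (MulAut.conjNormal g : MulAut A) = 1 := hf (h.trans (map_one f).symm)
      rw [← hcentA, mem_centralizer_iff]
      intro a ha
      have h2 : g * a * g⁻¹ = a := by
        simpa using congrArg Subtype.val (DFunLike.congr_fun h' (⟨a, ha⟩ : A))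
      exact (mul_inv_eq_iff_eq_mul.1 h2).symm
    · intro ha
      show f (MulAut.conjNormal g) = 1
      rw [show (MulAut.conjNormal g : MulAut A) = 1 from MulEquiv.ext fun b => Subtype.ext (by
        show g * b * g⁻¹ = (b : G)
        exact mul_inv_eq_iff_eq_mul.2 (hcommA g ha b b.2).eq), map_one]
  have hq : Nat.card (G ⧸ A) = 168 := by
    have h := card_eq_card_quotient_mul_card_subgroup A
    rw [hcard, hA8] at h
    omega
  let φ : G ⧸ A →* GL (Fin 3) (ZMod 2) :=
    (QuotientGroup.kerLift c).comp (QuotientGroup.quotientMulEquivOfEq hker.symm).toMonoidHom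
  have hφ : Function.Bijective φ := by
    refine ((QuotientGroup.kerLift_injective c).comp (MulEquiv.injective _)).bijective_of_nat_card_le ?_
    rw [hq, Matrix.card_GL_field, Fin.prod_univ_three, ZMod.card]
    decide
  obtain ⟨eL⟩ := CfsgLib.RankFourQuotient.nonempty_gl_three_two
  exact ⟨A, hAn, ⟨⟨fun a b => Subtype.ext (hcommA a a.2 b b.2).eq⟩⟩, hexp, hA8, ⟨(MulEquiv.ofBijective φ hφ).trans eL⟩⟩

end Coord

end CfsgLib.Recog.ExtraThirtyTwo
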