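import Cfsg.Agent.Lib.Recog.ExtraThirtyTwo.Defs
import Mathlib.Algebra.Group.Conj

set_option autoImplicit false

/-!
The interface between the start of the recognition and its branches (owner: helper22).
-/

namespace CfsgLib.Recog.ExtraThirtyTwo

variable {G : Type*} [Group G] {s : G}

/-- The colours of two pure four-groups: `W1`, `W2` and the outer involution `w` are fused to `s`. -/
structure PairPattern (K : Coord s 0) : Prop where
  x1 : IsConj (K.el 1) s
  y1 : IsConj (K.el 4) s
  w : IsConj (K.el 96) s
  diag : ¬ IsConj (K.el 5) s
  out : ¬ IsConj (K.el 101) s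

/-- The colours of `M12`: the orbit of six and the outer involutions are fused to `s`. -/
structure MathieuPattern (K : Coord s 2) : Prop where
  five : IsConj (K.el 5) s
  w : IsConj (K.el 96) s
  one : ¬ IsConj (K.el 1) s

end CfsgLib.Recog.ExtraThirtyTwo
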