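import Cfsg.Agent.Lib.Recog.ExtraThirtyTwo.RelabelCheck
import Cfsg.Agent.Lib.Recog.ExtraThirtyTwo.Pattern
import Cfsg.Agent.Lib.Recog.ExtraThirtyTwo.Colour

set_option autoImplicit false

/-!
The standard patterns from the surviving ones (owner: helper22).
-/

namespace CfsgLib.Recog.ExtraThirtyTwo

open CfsgLib.Recog.Held (allBelow allBelow_spec)

namespace Coord

variable {G : Type*} [Group G] {s : G}

/-- The three inner classes are not fused without an outer one. -/
theorem not_inner (K : Coord s 0) (hm : K.mask = 7) : False := by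
  have h4 : (0 : ℕ) < 4 := by omega
  have h := innerOK_true
  simp only [innerOK, Bool.and_eq_true, allBelow_spec, Bool.or_eq_true, Bool.not_eq_true', Bool.eq_false_iff,
    ne_eq, Nat.beq_eq, Nat.blt_eq] at h
  obtain ⟨hQ, hab, c1, c2, c4, e21, e41, e24⟩ := h
  have col : ∀ x < 192, colOn 7 (cls 0 x) = true → IsConj (K.el x) s := fun x hx h =>
    (K.mask_spec h4 hx).2 (by rw [hm]; exact h)
  obtain ⟨g, hg⟩ := isConj_iff.1 (col 1 (by omega) c1)
  have move : ∀ x < 192, mulC 0 x 1 = mulC 0 1 x → colOn 7 (cls 0 x) = true →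
      ∃ y < 32, K.el y = g * K.el x * g⁻¹ := by
    intro x hx hcx hox
    obtain ⟨y, hy, hyx⟩ := K.surj (g * K.el x * g⁻¹) (by
      have h := (K.comm_iff h4 hx (b := 1) (by omega)).2 hcx
      have h' : g * (K.el x * K.el 1) * g⁻¹ = g * (K.el 1 * K.el x) * g⁻¹ := by rw [h]
      rw [← conj_mul, ← conj_mul, hg] at h'
      exact h')
    refine ⟨y, (hQ y hy).resolve_left fun hn => hn ?_, hyx⟩
    rw [← hm, ← K.mask_spec h4 hy, hyx]
    exact (isConj_iff.2 ⟨g, rfl⟩ : IsConj (K.el x) _).symm.trans (col x hx hox)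
  obtain ⟨a, ha, ea⟩ := move 2 (by omega) e21 c2
  obtain ⟨b, hb, eb⟩ := move 4 (by omega) e41 c4
  have hlt := fun x y (hx : x < 192) (hy : y < 192) => mulC_lt (i := 0) h4 hx hy
  have hs16 : ∀ x < 192, K.el x * s = K.el (mulC 0 x 16) := fun x hx =>
    (congrArg (K.el x * ·) K.el_s).symm.trans (K.el_mul x hx 16 (by omega))
  have h24 : K.el 2 * K.el 4 = K.el 4 * K.el 2 * s := by
    rw [K.el_mul 2 (by omega) 4 (by omega), e24, K.el_mul 4 (by omega) 2 (by omega),
      hs16 _ (hlt 4 2 (by omega) (by omega))]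
  have hAB : K.el a * K.el b = K.el b * K.el a * (g * s * g⁻¹) := by
    rw [ea, eb, conj_mul, conj_mul, h24, conj_mul]
  rcases hab a ha b hb with e | e
  · rw [(K.comm_iff h4 (by omega) (by omega)).2 e, left_eq_mul, mul_inv_eq_one] at hAB
    exact K.s_ne_one h4 (mul_eq_left.1 hAB)
  · have h' : K.el a * K.el b = K.el b * K.el a * s := by
      rw [K.el_mul a (by omega) b (by omega), e, K.el_mul b (by omega) a (by omega),
        hs16 _ (hlt b a (by omega) (by omega))]
    rw [h'] at hAB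
    have hs : g * s * g⁻¹ = g * K.el 1 * g⁻¹ := (mul_left_cancel hAB).symm.trans hg.symm
    have h16 := K.el_inj 1 (by omega) 16 (by omega)
      ((mul_left_cancel (mul_right_cancel hs)).symm.trans K.el_s.symm)
    omega

/-- Six patterns are the standard one after a change of coordinates. -/
theorem pair_of_mask (K : Coord s 0)
    (hm : K.mask = 11 ∨ K.mask = 13 ∨ K.mask = 14 ∨ K.mask = 19 ∨ K.mask = 21 ∨ K.mask = 22) :
    ∃ K' : Coord s 0, PairPattern K' := by
  have h4 : (0 : ℕ) < 4 := by omega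
  obtain ⟨j, hj, hjm⟩ : ∃ j < 6, relMask j = K.mask := by
    have key : relMask 0 = 11 ∧ relMask 1 = 13 ∧ relMask 2 = 14 ∧ relMask 3 = 19 ∧ relMask 4 = 21 ∧
        relMask 5 = 22 := by decide +kernel
    rcases hm with e | e | e | e | e | e <;> rw [e]
    exacts [⟨0, by omega, key.1⟩, ⟨1, by omega, key.2.1⟩, ⟨2, by omega, key.2.2.1⟩, ⟨3, by omega, key.2.2.2.1⟩,
      ⟨4, by omega, key.2.2.2.2.1⟩, ⟨5, by omega, key.2.2.2.2.2⟩]
  have h : relOK j = true := by
    rcases (by omega : j = 0 ∨ j = 1 ∨ j = 2 ∨ j = 3 ∨ j = 4 ∨ j = 5) with e | e | e | e | e | e <;> subst e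
    exacts [relOK0, relOK1, relOK2, relOK3, relOK4, relOK5]
  simp only [relOK, Bool.and_eq_true, allBelow_spec, Bool.or_eq_true, Bool.not_eq_true', Bool.eq_false_iff,
    ne_eq, Nat.beq_eq, Nat.blt_eq] at h
  obtain ⟨hhom, hinj, h16, c1, c4, c96, c5, c101⟩ := h
  let f : Fin 192 → Fin 192 := fun x => ⟨relF j x, (hhom x x.2).1⟩
  have hf : Function.Bijective f := Finite.injective_iff_bijective.1 fun a b e =>
    Fin.ext ((hinj a a.2 b b.2).resolve_right fun r => r (congrArg Fin.val e))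
  have hcol : ∀ x < 192, (IsConj (K.el (relF j x)) s ↔ colOn (relMask j) (cls 0 (relF j x)) = true) :=
    fun x hx => by rw [K.mask_spec h4 (hhom x hx).1, hjm]
  refine ⟨{ el := fun x => K.el (relF j x)
            mem := fun x hx => K.mem _ (hhom x hx).1
            el_mul := fun x hx y hy => by rw [K.el_mul _ (hhom x hx).1 _ (hhom y hy).1, (hhom x hx).2 y hy]
            el_inj := fun x hx y hy e => (hinj x hx y hy).resolve_right fun r =>
              r (K.el_inj _ (hhom x hx).1 _ (hhom y hy).1 e)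
            surj := fun g hg => by
              obtain ⟨x, hx, rfl⟩ := K.surj g hg
              obtain ⟨y, hy⟩ := hf.2 ⟨x, hx⟩
              exact ⟨y, y.2, congrArg K.el (congrArg Fin.val hy)⟩
            el_s := by rw [h16, K.el_s] }, ?_, ?_, ?_, ?_, ?_⟩
  · exact (hcol 1 (by omega)).2 c1
  · exact (hcol 4 (by omega)).2 c4
  · exact (hcol 96 (by omega)).2 c96
  · exact fun h => c5 ((hcol 5 (by omega)).1 h)
  · exact fun h => c101 ((hcol 101 (by omega)).1 h)

/-- The pattern of `M₁₂`. -/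
theorem mathieu_of_mask (K : Coord s 2) (hm : K.mask = 6) : MathieuPattern K := by
  have h4 : (2 : ℕ) < 4 := by omega
  have key : colOn 6 (cls 2 5) = true ∧ colOn 6 (cls 2 96) = true ∧ ¬ colOn 6 (cls 2 1) = true := by
    decide +kernel
  refine ⟨?_, ?_, ?_⟩ <;> rw [K.mask_spec h4 (by omega), hm]
  exacts [key.1, key.2.1, key.2.2]

end Coord

end CfsgLib.Recog.ExtraThirtyTwo
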