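import Cfsg.Agent.Lib.Recog.ExtraThirtyTwo.SimpleCheck
import Cfsg.Agent.Lib.Recog.ExtraThirtyTwo.Colour
import Cfsg.Agent.Lib.Recog.ExtraThirtyTwo.Pattern
import Cfsg.Agent.Lib.PGroups.Basic
import Mathlib.GroupTheory.Sylow
import Mathlib.GroupTheory.Subgroup.Simple

set_option autoImplicit false
set_option linter.style.haveILetI false

/-!
With a fused class outside the extraspecial group `G` is simple (owner: helper22).
-/

namespace CfsgLib.Recog.ExtraThirtyTwo

open Subgroup
open CfsgLib.Recog.Held (countBelow allBelow allBelow_spec card_eq_countBelow)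

variable {G : Type*} [Group G] [Finite G]

/-- Odd order and exponent four. -/
theorem eq_one_of_odd_four {z : G} (h2 : Odd (orderOf z)) (h4 : z * z * (z * z) = 1) : z = 1 := by
  have hd : orderOf z ∣ 2 ^ 2 := orderOf_dvd_of_pow_eq_one (by rw [show (2 : ℕ) ^ 2 = 2 + 2 from rfl, pow_add, pow_two, h4])
  obtain ⟨k, -, hk⟩ := (Nat.dvd_prime_pow Nat.prime_two).1 hd
  rw [hk] at h2
  rcases k with _ | k
  · rwa [pow_zero, orderOf_eq_one_iff] at hk
  · exact absurd h2 (Nat.not_odd_iff_even.2 (by simp [Nat.even_pow]))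

namespace Coord

variable {s : G} {i : ℕ} (K : Coord s i)

include K

/-- A Sylow two-subgroup of `G` lies in `C(s)` and has centre `<s>`. -/
theorem exists_sylow (hi : i < 4) (hok : groupOK i = true) :
    ∃ P : Sylow 2 G, (P : Subgroup G) ≤ centralizer ({s} : Set G) ∧ s ∈ (P : Subgroup G) ∧
      ∀ z ∈ (P : Subgroup G), (∀ y ∈ (P : Subgroup G), Commute z y) → z = 1 ∨ z = s := by
  haveI : Fact (Nat.Prime 2) := ⟨Nat.prime_two⟩
  simp only [groupOK, Bool.and_eq_true, allBelow_spec, Bool.or_eq_true, Bool.not_eq_true', Bool.eq_false_iff,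
    ne_eq, Nat.beq_eq] at hok
  obtain ⟨h64, hclosed, hcen, -, -⟩ := hok
  have hmul : ∀ x < 192, ∀ y < 192, inS x = true → inS y = true → inS (mulC i x y) = true := fun x hx y hy hxS hyS =>
    ((hclosed x hx).resolve_left (fun r => r hxS) y hy).resolve_left (fun r => r hyS)
  let M : Submonoid G :=
    { carrier := {g | ∃ x < 192, inS x = true ∧ K.el x = g}
      one_mem' := ⟨0, by omega, rfl, K.el_zero hi⟩
      mul_mem' := by
        rintro _ _ ⟨x, hx, hxS, rfl⟩ ⟨y, hy, hyS, rfl⟩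
        exact ⟨_, mulC_lt hi hx hy, hmul x hx y hy hxS hyS,
          (K.el_mul x hx y hy).symm⟩ }
  let S₀ : Subgroup G :=
    { M with
      inv_mem' := fun {a} ha => by
        have h : a⁻¹ = a ^ (orderOf a - 1) := inv_eq_of_mul_eq_one_right
          (by rw [← pow_succ', Nat.sub_add_cancel (orderOf_pos a), pow_orderOf_eq_one])
        rw [h]
        exact M.pow_mem ha _ }
  have hS : Nat.card S₀ = 2 ^ 6 := by
    show Nat.card S₀ = 64
    rw [← h64]
    exact card_eq_countBelow K.el 192 _ (· ∈ S₀) (fun a ha b hb h => K.el_inj a ha b hb h)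
      (fun j hj => ⟨fun h => ⟨j, hj, h, rfl⟩, by
        rintro ⟨y, hy, hyS, e⟩
        rwa [← K.el_inj y hy j hj e]⟩)
      (by
        rintro g ⟨x, hx, -, e⟩
        exact ⟨x, hx, e⟩)
  have hsS : s ∈ S₀ := ⟨16, by omega, rfl, K.el_s⟩
  have hle : S₀ ≤ centralizer ({s} : Set G) := by
    rintro g ⟨x, hx, -, rfl⟩
    exact mem_centralizer_singleton_iff.2 (K.mem x hx)
  have centre : ∀ z ∈ S₀, (∀ y ∈ S₀, Commute z y) → z = 1 ∨ z = s := by
    rintro _ ⟨x, hx, hxS, rfl⟩ hcm
    rcases hcen x hx with r | r | r | r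
    · exact absurd hxS r
    · exact Or.inl (by rw [r, K.el_zero hi])
    · exact Or.inr (by rw [r, K.el_s])
    · refine absurd (fun y hy => ?_) r
      by_cases hyS : inS y = true
      · exact Or.inr ((K.comm_iff hi hx hy).1 (hcm _ ⟨y, hy, hyS, rfl⟩))
      · exact Or.inl hyS
  obtain ⟨P, hP⟩ := (IsPGroup.of_card hS).exists_le_sylow
  have hPC : (P : Subgroup G) ⊓ centralizer ({s} : Set G) = S₀ := by
    refine (eq_of_le_of_card_ge (le_inf hP hle) ?_).symm
    obtain ⟨n, hn⟩ := IsPGroup.iff_card.1 (P.2.to_le (inf_le_left (b := centralizer ({s} : Set G))))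
    have hd : Nat.card ((P : Subgroup G) ⊓ centralizer ({s} : Set G) : Subgroup G) ∣ 192 := by
      refine (card_dvd_of_le inf_le_right).trans (dvd_of_eq ?_)
      have h := card_eq_countBelow K.el 192 (fun _ => true) (fun g => g ∈ centralizer ({s} : Set G))
        (fun a ha b hb h => K.el_inj a ha b hb h)
        (fun j hj => iff_of_true rfl (mem_centralizer_singleton_iff.2 (K.mem j hj)))
        (fun g hg => K.surj g (mem_centralizer_singleton_iff.1 hg))
      rw [h, CfsgLib.Recog.Held.countBelow_eq]; simp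
    rw [hn] at hd ⊢
    rw [hS]
    refine Nat.pow_le_pow_right (by omega) ?_
    by_contra hc
    have h128 : 2 ^ 7 ∣ 192 := (Nat.pow_dvd_pow 2 (by omega : 7 ≤ n)).trans hd
    norm_num at h128
  have heq : (P : Subgroup G) = S₀ := by
    by_contra hne
    have hlt : S₀.subgroupOf (P : Subgroup G) < ⊤ :=
      lt_top_iff_ne_top.2 fun h => hne (le_antisymm (subgroupOf_eq_top.1 h) hP)
    haveI : Group.IsNilpotent (P : Subgroup G) := P.2.isNilpotent
    obtain ⟨⟨n, hnP⟩, hnN, hn0⟩ := SetLike.exists_of_lt (Group.normalizerCondition_of_isNilpotent _ hlt)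
    rw [mem_subgroupOf] at hn0
    have hconj : ∀ y ∈ S₀, n * y * n⁻¹ ∈ S₀ := fun y hy => by
      have := (mem_normalizer_iff.1 hnN ⟨y, hP hy⟩).1 (mem_subgroupOf.2 hy)
      simpa [mem_subgroupOf] using this
    have hback : ∀ y ∈ S₀, n⁻¹ * y * n ∈ S₀ := fun y hy => by
      have := (mem_normalizer_iff.1 ((normalizer _).inv_mem hnN) ⟨y, hP hy⟩).1 (mem_subgroupOf.2 hy)
      simpa [mem_subgroupOf] using this
    rcases centre _ (hconj s hsS) (fun y hy => by
      have h : Commute (n * s * n⁻¹) (n * (n⁻¹ * y * n) * n⁻¹) :=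
        (Commute.symm (mem_centralizer_singleton_iff.1 (hle (hback y hy)) : Commute (n⁻¹ * y * n) s)).map (MulAut.conj n).toMonoidHom
      rwa [show n * (n⁻¹ * y * n) * n⁻¹ = y by group] at h) with e | e
    · rw [mul_inv_eq_one] at e
      exact K.s_ne_one hi (mul_eq_left.1 e)
    · exact hn0 (hPC ▸ mem_inf.2 ⟨hnP, mem_centralizer_singleton_iff.2 (mul_inv_eq_iff_eq_mul.1 e)⟩)
  exact ⟨P, heq ▸ hle, heq ▸ hsS, heq ▸ centre⟩

/-- `C(s)` meets no normal subgroup of odd order. -/
theorem eq_one_of_odd (hi : i < 4) (hok : groupOK i = true) {N : Subgroup G} [N.Normal] (hodd : Odd (Nat.card N))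
    {n : G} (hn : n ∈ N) (hns : Commute n s) : n = 1 := by
  simp only [groupOK, Bool.and_eq_true, allBelow_spec, Bool.or_eq_true, Bool.not_eq_true', Bool.eq_false_iff,
    ne_eq, Nat.beq_eq] at hok
  obtain ⟨-, -, -, hthree, -⟩ := hok
  have oddOrd : ∀ z ∈ N, Odd (orderOf z) := fun z hz =>
    hodd.of_dvd_nat (Subgroup.orderOf_dvd_natCard N hz)
  have h3 : orderOf n ∣ 3 := by
    have h192 : orderOf n ∣ 192 := by
      have hd := Subgroup.orderOf_dvd_natCard (centralizer ({s} : Set G)) (mem_centralizer_singleton_iff.2 hns.eq)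
      have h := card_eq_countBelow K.el 192 (fun _ => true) (fun g => g ∈ centralizer ({s} : Set G))
        (fun a ha b hb h => K.el_inj a ha b hb h)
        (fun j hj => iff_of_true rfl (mem_centralizer_singleton_iff.2 (K.mem j hj)))
        (fun g hg => K.surj g (mem_centralizer_singleton_iff.1 hg))
      rw [h, CfsgLib.Recog.Held.countBelow_eq] at hd
      simpa using hd
    exact (Nat.Coprime.pow_right 6 (Nat.coprime_two_right.2 (oddOrd n hn))).dvd_of_dvd_mul_left
      (by rw [show (2 : ℕ) ^ 6 * 3 = 192 by norm_num]; exact h192)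
  obtain ⟨x, hx, rfl⟩ := K.surj n hns.eq
  by_contra hx1
  have hx3 : mulC i (mulC i x x) x = 0 := by
    refine K.el_inj _ (mulC_lt hi (mulC_lt hi hx hx) hx) 0 (by omega) ?_
    rw [← K.el_mul _ (mulC_lt hi hx hx) x hx, ← K.el_mul x hx x hx, K.el_zero hi, ← pow_two, ← pow_succ]
    exact orderOf_dvd_iff_pow_eq_one.1 h3
  rcases hthree x hx with r | r
  · exact r ⟨fun e => hx1 (by rw [e, K.el_zero hi]), hx3⟩
  refine r fun q hq => ?_
  rintro ⟨hq2, hz0, hz4⟩
  have hxx := mulC_lt hi hx hx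
  have hz1 := mulC_lt hi hx (show q < 192 by omega)
  have hz2 := mulC_lt hi hz1 hxx
  have hz3 := mulC_lt hi hz2 (show q < 192 by omega)
  set z := mulC i (mulC i (mulC i x q) (mulC i x x)) q
  have hzel : K.el z = K.el x * K.el q * (K.el x * K.el x) * K.el q := by
    rw [K.el_mul x hx q (by omega), K.el_mul x hx x hx, K.el_mul _ hz1 _ hxx, K.el_mul _ hz2 q (by omega)]
  have hzN : K.el z ∈ N := by
    rw [hzel]
    have hxinv : K.el x * K.el x = (K.el x)⁻¹ := eq_inv_of_mul_eq_one_left (by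
      rw [K.el_mul x hx x hx, K.el_mul _ hxx x hx, hx3, K.el_zero hi])
    rw [hxinv, mul_assoc (K.el x), mul_assoc (K.el x)]
    refine N.mul_mem hn ?_
    have := Subgroup.Normal.conj_mem (H := N) inferInstance _ (N.inv_mem hn) (K.el q)
    rwa [inv_eq_of_mul_eq_one_right (show K.el q * K.el q = 1 by
      rw [K.el_mul q (by omega) q (by omega), hq2, K.el_zero hi])] at this
  have h1 := eq_one_of_odd_four (oddOrd _ hzN) (by
    rw [K.el_mul z hz3 z hz3, K.el_mul _ (mulC_lt hi hz3 hz3) _ (mulC_lt hi hz3 hz3), hz4, K.el_zero hi])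
  exact hz0 (K.el_inj z hz3 0 (by omega) (h1.trans (K.el_zero hi).symm))

/-- The involutions fused to `s` generate; hence simplicity. -/
theorem isSimple (hi : i < 4) (hok : groupOK i = true) {u : ℕ} (hu : u < 192)
    (hu1 : IsConj (K.el u) s) (hu2 : IsConj (K.el (mulC i u 16)) s)
    (hgen : ∀ N : Subgroup G, (∀ g, IsConj g s → g ∈ N) →
      K.el 1 ∈ N ∧ K.el 2 ∈ N ∧ K.el 4 ∈ N ∧ K.el 8 ∈ N ∧ K.el 32 ∈ N ∧ K.el 96 ∈ N) :
    IsSimpleGroup G := by
  haveI : Fact (Nat.Prime 2) := ⟨Nat.prime_two⟩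
  obtain ⟨P, hPC, hsP, hcentre⟩ := K.exists_sylow hi hok
  haveI : Nontrivial G := ⟨⟨s, 1, K.s_ne_one hi⟩⟩
  refine { eq_bot_or_eq_top_of_normal := fun N hN => ?_ }
  haveI := hN
  by_cases hodd : Odd (Nat.card N)
  · left
    have fpf : ∀ v, IsConj v s → ∀ n ∈ N, Commute n v → n = 1 := by
      intro v hv n hn hnv
      obtain ⟨g, hg⟩ := isConj_iff.1 hv
      have h := K.eq_one_of_odd hi hok hodd (Subgroup.Normal.conj_mem inferInstance n hn g)
        (by rw [← hg]; exact hnv.map (MulAut.conj g).toMonoidHom)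
      simpa using h
    have inverts : ∀ v, IsConj v s → ∀ m ∈ N, v * m * v = m⁻¹ := by
      intro v hv m hm
      have hv2 := (K.inv_of_isConj hi hv).2
      have hvi : v⁻¹ = v := inv_eq_of_mul_eq_one_right hv2
      let F : N → N := fun n => ⟨(n : G)⁻¹ * (v * n * v), N.mul_mem (N.inv_mem n.2) (by
        have := Subgroup.Normal.conj_mem (H := N) inferInstance n n.2 v
        rwa [hvi] at this)⟩
      have hF : Function.Injective F := fun a b hab => by
        have hab' : (a : G)⁻¹ * (v * a * v) = (b : G)⁻¹ * (v * b * v) := congrArg Subtype.val hab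
        have h1 : (b : G) * (a : G)⁻¹ = 1 := by
          refine fpf v hv _ (N.mul_mem b.2 (N.inv_mem a.2)) ?_
          show (b : G) * (a : G)⁻¹ * v = v * ((b : G) * (a : G)⁻¹)
          calc (b : G) * (a : G)⁻¹ * v = b * ((a : G)⁻¹ * (v * a * v)) * (v⁻¹ * (a : G)⁻¹) := by group
            _ = b * ((b : G)⁻¹ * (v * b * v)) * (v⁻¹ * (a : G)⁻¹) := by rw [hab']
            _ = v * ((b : G) * (a : G)⁻¹) := by group
        exact Subtype.ext (mul_inv_eq_one.1 h1).symm
      obtain ⟨n, hn⟩ := (hF.bijective_of_nat_card_le le_rfl).2 ⟨m, hm⟩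
      have hn' : (n : G)⁻¹ * (v * n * v) = m := congrArg Subtype.val hn
      rw [← hn', mul_inv_rev, mul_inv_rev, mul_inv_rev, inv_inv, hvi]
      calc v * ((n : G)⁻¹ * (v * n * v)) * v = v * (n : G)⁻¹ * v * n * (v * v) := by group
        _ = _ := by rw [hv2, mul_one]; group
    rw [eq_bot_iff]
    intro m hm
    rw [mem_bot]
    refine fpf _ hu2 m hm ?_
    have hus : K.el (mulC i u 16) = K.el u * s :=
      (K.el_mul u hu 16 (by omega)).symm.trans (congrArg (K.el u * ·) K.el_s)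
    rw [hus]
    show m * (K.el u * s) = K.el u * s * m
    have h1 := inverts _ hu1 m hm
    have h2 := inverts s (IsConj.refl s) m hm
    have hu22 := (K.inv_of_isConj hi hu1).2
    have hm1 : K.el u * m⁻¹ * K.el u = m := by
      have := inverts _ hu1 m⁻¹ (N.inv_mem hm)
      rwa [inv_inv] at this
    calc m * (K.el u * s) = K.el u * m⁻¹ * (K.el u * K.el u) * s := by
          conv_lhs => rw [← hm1]
          simp only [mul_assoc]
      _ = K.el u * (s * m * s) * s := by rw [hu22, mul_one, h2]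
      _ = K.el u * s * m * (s * s) := by simp only [mul_assoc]
      _ = K.el u * s * m := by rw [K.s_sq hi, mul_one]
  right
  have hsN : s ∈ N := by
    have h2 : 2 ∣ Nat.card N := even_iff_two_dvd.1 (Nat.not_odd_iff_even.1 hodd)
    obtain ⟨x, hx⟩ := exists_prime_orderOf_dvd_card' 2 h2
    have hx2 : IsPGroup 2 (zpowers (x : G)) := IsPGroup.of_card (n := 1) (by
      rw [Nat.card_zpowers, Subgroup.orderOf_coe, hx, pow_one])
    obtain ⟨T, hT⟩ := hx2.exists_le_sylow
    obtain ⟨g, hg⟩ := MulAction.exists_smul_eq G T P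
    have hxP : g * x * g⁻¹ ∈ (P : Subgroup G) := by
      rw [← hg]
      exact ⟨x, hT (mem_zpowers _), rfl⟩
    set NP := N.subgroupOf (P : Subgroup G) with hNP
    have hne : NP ≠ ⊥ := fun h => by
      have h1 : (⟨g * x * g⁻¹, hxP⟩ : (P : Subgroup G)) ∈ NP :=
        mem_subgroupOf.2 (Subgroup.Normal.conj_mem inferInstance (x : G) x.2 g)
      rw [h, mem_bot] at h1
      have h1' : g * (x : G) * g⁻¹ = 1 := congrArg Subtype.val h1
      rw [mul_inv_eq_one, mul_eq_left] at h1'
      rw [← Subgroup.orderOf_coe, h1', orderOf_one] at hx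
      omega
    obtain ⟨⟨z, hzP⟩, hz, hz1⟩ := (NP ⊓ center (P : Subgroup G)).bot_or_exists_ne_one.resolve_left
      (CfsgLib.PGroups.inf_center_ne_bot P.2 hne)
    rcases hcentre z hzP (fun y hy =>
      (congrArg Subtype.val (mem_center_iff.1 (mem_inf.1 hz).2 ⟨y, hy⟩) : y * z = z * y).symm) with e | e
    · exact absurd (Subtype.ext e) hz1
    · exact e ▸ mem_subgroupOf.1 (mem_inf.1 hz).1
  have hconjN : ∀ g, IsConj g s → g ∈ N := fun g hg => by
    obtain ⟨k, hk⟩ := isConj_iff.1 hg.symm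
    exact hk ▸ Subgroup.Normal.conj_mem inferInstance s hsN k
  obtain ⟨g1, g2, g4, g8, g32, g96⟩ := hgen N hconjN
  have hLN : centralizer ({s} : Set G) ≤ N := by
    intro g hg
    obtain ⟨x, hx, rfl⟩ := K.surj g (mem_centralizer_singleton_iff.1 hg)
    simp only [groupOK, Bool.and_eq_true, allBelow_spec, Bool.or_eq_true, Bool.not_eq_true', Bool.eq_false_iff,
      ne_eq, Nat.beq_eq] at hok
    rw [← hok.2.2.2.2 x hx, splitCode]
    have part : ∀ k c, k < 2 → c < 192 → K.el c ∈ N → K.el (c * k) ∈ N ∧ c * k < 192 := by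
      intro k c hk hc hcN
      rcases (by omega : k = 0 ∨ k = 1) with r | r <;> subst r
      · rw [Nat.mul_zero, K.el_zero hi]; exact ⟨N.one_mem, by omega⟩
      · rw [Nat.mul_one]; exact ⟨hcN, hc⟩
    have step : ∀ a b, a < 192 → b < 192 → K.el a ∈ N → K.el b ∈ N → mulC i a b < 192 ∧ K.el (mulC i a b) ∈ N :=
      fun a b ha hb haN hbN => ⟨mulC_lt hi ha hb, K.el_mul a ha b hb ▸ N.mul_mem haN hbN⟩
    have p1 : K.el (x % 2) ∈ N := by simpa using (part (x % 2) 1 (by omega) (by omega) g1).1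
    have p2 := part (x / 2 % 2) 2 (by omega) (by omega) g2
    have p4 := part (x / 4 % 2) 4 (by omega) (by omega) g4
    have p8 := part (x / 8 % 2) 8 (by omega) (by omega) g8
    have p16 := part (x / 16 % 2) 16 (by omega) (by omega) (K.el_s.symm ▸ hsN)
    have p32 : K.el (32 * (x / 32 % 3)) ∈ N ∧ 32 * (x / 32 % 3) < 192 := by
      refine ⟨?_, by omega⟩
      rcases (by omega : x / 32 % 3 = 0 ∨ x / 32 % 3 = 1 ∨ x / 32 % 3 = 2) with r | r | r <;> rw [r]
      · rw [Nat.mul_zero, K.el_zero hi]; exact N.one_mem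
      · exact g32
      · have h := (step 32 32 (by omega) (by omega) g32 g32).2
        have key : ∀ i < 4, mulC i 32 32 = 32 * 2 := by decide +kernel
        rwa [key i hi] at h
    have p96 := part (x / 96) 96 (by omega) (by omega) g96
    obtain ⟨a1, b1⟩ := step _ _ (by omega) p2.2 p1 p2.1
    obtain ⟨a2, b2⟩ := step _ _ a1 p4.2 b1 p4.1
    obtain ⟨a3, b3⟩ := step _ _ a2 p8.2 b2 p8.1
    obtain ⟨a4, b4⟩ := step _ _ a3 p16.2 b3 p16.1
    obtain ⟨a5, b5⟩ := step _ _ a4 p32.2 b4 p32.1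
    exact (step _ _ a5 p96.2 b5 p96.1).2
  have hPN : (P : Subgroup G) ≤ N := hPC.trans hLN
  have h := Sylow.normalizer_sup_eq_top' P hPN
  rw [eq_top_iff, ← h]
  refine sup_le (fun n hn => hLN ?_) le_rfl
  rcases hcentre (n * s * n⁻¹) ((mem_normalizer_iff.1 hn s).1 hsP) (fun y hy => by
    have hy' : n⁻¹ * y * n ∈ (P : Subgroup G) := by
      have := (mem_normalizer_iff.1 ((normalizer _).inv_mem hn) y).1 hy
      simpa using this
    have h : Commute (n * s * n⁻¹) (n * (n⁻¹ * y * n) * n⁻¹) :=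
      (Commute.symm (mem_centralizer_singleton_iff.1 (hPC hy') : Commute (n⁻¹ * y * n) s)).map (MulAut.conj n).toMonoidHom
    rwa [show n * (n⁻¹ * y * n) * n⁻¹ = y by group] at h) with e | e
  · rw [mul_inv_eq_one] at e
    exact absurd (mul_eq_left.1 e) (K.s_ne_one hi)
  · exact mem_centralizer_singleton_iff.2 (mul_inv_eq_iff_eq_mul.1 e)

end Coord

theorem genFacts : groupOK 0 = true ∧ groupOK 2 = true := ⟨groupOK0, groupOK2⟩

namespace PairPattern

variable {s : G} {K : Coord s 0}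

theorem mask_eq (hK : PairPattern K) : K.mask = 11 := by
  have h4 : (0 : ℕ) < 4 := by omega
  have key : ∀ m < 32, colOn m (cls 0 1) = true → colOn m (cls 0 4) = true → colOn m (cls 0 96) = true →
      colOn m (cls 0 5) ≠ true → colOn m (cls 0 101) ≠ true → m = 11 := by
    set_option synthInstance.maxSize 1000 in
    decide +kernel
  refine key _ (lt_of_lt_of_le K.mask_lt (by decide +kernel)) ((K.mask_spec h4 (by omega)).1 hK.x1)
    ((K.mask_spec h4 (by omega)).1 hK.y1) ((K.mask_spec h4 (by omega)).1 hK.w)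
    (fun h => hK.diag ((K.mask_spec h4 (by omega)).2 h)) (fun h => hK.out ((K.mask_spec h4 (by omega)).2 h))

theorem isSimple (hK : PairPattern K) : IsSimpleGroup G := by
  have h4 : (0 : ℕ) < 4 := by omega
  have hm := hK.mask_eq
  have h := genOK_true
  simp only [genOK, Bool.and_eq_true, Nat.beq_eq] at h
  obtain ⟨⟨⟨⟨c1, c2⟩, c4, c8⟩, ⟨c17, c160⟩, c96, e32⟩, -, ⟨-, -⟩, ⟨-, -⟩, -, e17⟩ := h
  have col : ∀ x < 192, colOn 11 (cls 0 x) = true → IsConj (K.el x) s := fun x hx h =>
    (K.mask_spec h4 hx).2 (by rw [hm]; exact h)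
  refine K.isSimple h4 groupOK0 (u := 1) (by omega) hK.x1 (by rw [e17]; exact col 17 (by omega) c17)
    fun N hN => ⟨hN _ (col 1 (by omega) c1), hN _ (col 2 (by omega) c2), hN _ (col 4 (by omega) c4),
      hN _ (col 8 (by omega) c8), ?_, hN _ (col 96 (by omega) c96)⟩
  rw [← e32, ← K.el_mul 96 (by omega) 160 (by omega)]
  exact N.mul_mem (hN _ (col 96 (by omega) c96)) (hN _ (col 160 (by omega) c160))

/-- A Sylow two-subgroup lies in `C(s)`. -/
theorem exists_sylow_le (_hK : PairPattern K) : ∃ P : Sylow 2 G, (P : Subgroup G) ≤ centralizer ({s} : Set G) :=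
  (K.exists_sylow (by omega) groupOK0).imp fun _ h => h.1

end PairPattern

namespace MathieuPattern

variable {s : G} {K : Coord s 2}

theorem isSimple (hK : MathieuPattern K) (hm : K.mask = 6) : IsSimpleGroup G := by
  have h4 : (2 : ℕ) < 4 := by omega
  have h := genOK_true
  simp only [genOK, Bool.and_eq_true, Nat.beq_eq] at h
  obtain ⟨-, ⟨⟨⟨c10, c96⟩, c107, c5⟩, ⟨c160, c167⟩, c126, c189⟩, ⟨⟨c21, e21⟩, e1, e2⟩, ⟨e4, e8⟩, e32, -⟩ := h
  have col : ∀ x < 192, colOn 6 (cls 2 x) = true → IsConj (K.el x) s := fun x hx h =>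
    (K.mask_spec h4 hx).2 (by rw [hm]; exact h)
  refine K.isSimple h4 groupOK2 (u := 5) (by omega) hK.five (by rw [e21]; exact col 21 (by omega) c21)
    fun N hN => ?_
  have f : ∀ x < 192, colOn 6 (cls 2 x) = true → K.el x ∈ N := fun x hx h => hN _ (col x hx h)
  have prod3 : ∀ a b c r, a < 192 → b < 192 → c < 192 → colOn 6 (cls 2 a) = true → colOn 6 (cls 2 b) = true →
      colOn 6 (cls 2 c) = true → mulC 2 (mulC 2 a b) c = r → K.el r ∈ N := by
    intro a b c r ha hb hc h1 h2 h3 e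
    rw [← e, ← K.el_mul _ (mulC_lt h4 ha hb) c hc, ← K.el_mul a ha b hb]
    exact N.mul_mem (N.mul_mem (f a ha h1) (f b hb h2)) (f c hc h3)
  refine ⟨prod3 10 96 107 1 (by omega) (by omega) (by omega) c10 c96 c107 e1,
    prod3 5 160 167 2 (by omega) (by omega) (by omega) c5 c160 c167 e2,
    prod3 10 96 126 4 (by omega) (by omega) (by omega) c10 c96 c126 e4,
    prod3 5 160 189 8 (by omega) (by omega) (by omega) c5 c160 c189 e8, ?_, f 96 (by omega) c96⟩
  rw [← e32, ← K.el_mul 96 (by omega) 160 (by omega)]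
  exact N.mul_mem (f 96 (by omega) c96) (f 160 (by omega) c160)

end MathieuPattern

end CfsgLib.Recog.ExtraThirtyTwo
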