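import Cfsg.Agent.Lib.Recog.ExtraThirtyTwo.FrameCoord
import Cfsg.Agent.Lib.Recog.ExtraThirtyTwo.Pure
import Cfsg.Agent.Lib.Recog.ExtraThirtyTwo.AllFused
import Cfsg.Agent.Lib.Recog.ExtraThirtyTwo.Reduce
import Cfsg.Agent.Lib.Recog.ExtraThirtyTwo.Simple
import Cfsg.Agent.Lib.Recog.ExtraThirtyTwo.Mathieu

set_option autoImplicit false

/-!
The cases of an involution centraliser `2^{1+4}.Sym(3)` (owner: helper22).
-/

namespace CfsgLib.Recog.ExtraThirtyTwo

variable {G : Type*} [Group G] [Finite G] {s : G} {Q : Subgroup G}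

/-- Either a normal subgroup of order eight, or `M₁₂`, or simple with the pattern of `A₈`, `A₉`. -/
theorem cases (S : Setting s Q) (t : G) (htQ : t ∈ Q) (hts : IsConj t s) (hne : t ≠ s) :
    (∃ (N : Subgroup G) (hN : N.Normal), IsMulCommutative N ∧ (∀ n ∈ N, n ^ 2 = 1) ∧ Nat.card N = 8 ∧
      Nonempty (G ⧸ N ≃* Matrix.ProjectiveSpecialLinearGroup (Fin 3) (ZMod 2))) ∨ Cfsg.Spor.IsoM12 G ∨
    (IsSimpleGroup G ∧ ∃ K : Coord s 0, PairPattern K) := by
  have ht : t ≠ 1 ∧ t * t = 1 := by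
    obtain ⟨g, hg⟩ := isConj_iff.1 hts.symm
    refine ⟨fun e => S.s1 ?_, ?_⟩
    · rw [e, mul_inv_eq_one] at hg; exact mul_eq_left.1 hg
    · rw [← hg, conj_mul, S.s2, mul_one, mul_inv_cancel]
  obtain ⟨i, hi, K, hKQ⟩ := exists_coord S t htQ ht.2 ht.1 hne
  obtain ⟨q, hq, hqt⟩ := (hKQ t).1 htQ
  have hsurv := K.survives_mask hi hq (by rw [hqt]; exact hts) (by rw [hqt]; exact hne)
  simp only [survives] at hsurv
  rcases (by omega : i = 0 ∨ i = 1 ∨ i = 2 ∨ i = 3) with e | e | e | e <;> subst e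
  · simp only [show Nat.beq 0 0 = true from rfl, cond_true, Bool.or_eq_true, Nat.beq_eq] at hsurv
    rcases hsurv with e | e | e | e | e | e | e | e | e | e | e
    · exact Or.inl (K.normal_of_pure hi (by rw [e]; exact pure01))
    · exact Or.inl (K.normal_of_pure hi (by rw [e]; exact pure02))
    · exact Or.inl (K.normal_of_pure hi (by rw [e]; exact pure04))
    · exact (K.not_inner e).elim
    all_goals try exact (K.not_all_fused e).elim
    all_goals
      obtain ⟨K', hK'⟩ := K.pair_of_mask (by omega)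
      exact Or.inr (Or.inr ⟨hK'.isSimple, K', hK'⟩)
  · simp [show Nat.beq 1 0 = false from rfl, show Nat.beq 1 2 = false from rfl] at hsurv
  · simp only [show Nat.beq 2 0 = false from rfl, show Nat.beq 2 2 = true from rfl, cond_false, Bool.true_and,
      Bool.or_eq_true, Nat.beq_eq] at hsurv
    rcases hsurv with e | e
    · exact Or.inl (K.normal_of_pure hi (by rw [e]; exact pure22))
    · haveI := (K.mathieu_of_mask e).isSimple e
      exact Or.inr (Or.inl K.isoM12_of_simple)
  · simp [show Nat.beq 3 0 = false from rfl, show Nat.beq 3 2 = false from rfl] at hsurv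

end CfsgLib.Recog.ExtraThirtyTwo
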