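import Cfsg.Agent.Lib.Recog.HeldTri.Clique

set_option autoImplicit false
set_option linter.style.haveILetI false

/-!
A pure clique with a transvection above it contains all conjugates of `t` (owner: helper22).

This is the proof of `HeldTri.Clique.false_of_simple` without simplicity.
-/

namespace CfsgLib.Recog.ExtraThirtyTwo

open Subgroup CfsgLib.Recog.HeldTri

variable {G : Type*} [Group G] [Finite G] {A : Subgroup G} {t v : G}

theorem commute_conj (hA : Clique A t v) (g : G) : Commute (g * t * g⁻¹) t := by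
  by_contra hg
  set u := g * t * g⁻¹ with hu
  have hut : IsConj t u := isConj_iff.2 ⟨g, rfl⟩
  have hu2 : u * u = 1 := by
    rw [hu, show g * t * g⁻¹ * (g * t * g⁻¹) = g * (t * t) * g⁻¹ by group, hA.t2, mul_one, mul_inv_cancel]
  obtain ⟨w, hw2, hw1, hwu, hwv, hcase⟩ := exists_central_conj hu2 hA.v2 fun h =>
    hA.vA ((hA.mem v).2 (Or.inr ⟨hA.vt, (hut.trans h).symm⟩))
  have hwt : Commute w t := mem_centralizer_singleton_iff.1 (hA.centralizer_le
    (mem_centralizer_singleton_iff.2 hwv.eq))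
  -- what is coloured in `C(u)` lies in `g A g⁻¹`
  have hmove : ∀ x, Commute x u → IsConj x t → g⁻¹ * x * g ∈ A := fun x hx hxt => by
    refine (hA.mem _).2 (Or.inr ⟨?_, (isConj_iff.2 ⟨g, by group⟩ : IsConj (g⁻¹ * x * g) x).trans hxt⟩)
    calc g⁻¹ * x * g * t = g⁻¹ * (x * u) * g := by rw [hu]; group
      _ = g⁻¹ * (u * x) * g := by rw [hx.eq]
      _ = t * (g⁻¹ * x * g) := by rw [hu]; group
  have hwA : w ∉ A := by
    intro hwA
    obtain ⟨k, hk⟩ := isConj_iff.1 (((hA.mem w).1 hwA).resolve_left hw1).2.symm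
    have hku : k⁻¹ * u * k ∈ A := by
      refine (hA.mem _).2 (Or.inr ⟨?_, (isConj_iff.2 ⟨k, by group⟩ : IsConj (k⁻¹ * u * k) u).trans hut.symm⟩)
      calc k⁻¹ * u * k * t = k⁻¹ * (u * w) * k := by rw [← hk]; group
        _ = k⁻¹ * (w * u) * k := by rw [hwu.eq]
        _ = t * (k⁻¹ * u * k) := by rw [← hk]; group
    have huA := (hA.normalises (hk.symm ▸ hwA : k * t * k⁻¹ ∈ A) _).2 hku
    rw [show k * (k⁻¹ * u * k) * k⁻¹ = u by group] at huA
    exact hg (hA.commute_t huA)
  rcases hcase with h | h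
  · have h1 := hmove (u * w) ((Commute.refl u).mul_left hwu) (h.symm.trans hut.symm)
    rw [show g⁻¹ * (u * w) * g = t * (g⁻¹ * w * g) by rw [hu]; group] at h1
    have h2 := mul_mem hA.t_mem h1
    rw [← mul_assoc, hA.t2, one_mul] at h2
    have h3 : IsConj w t := (isConj_iff.2 ⟨g⁻¹, by group⟩ : IsConj w (g⁻¹ * w * g)).trans
      ((((hA.mem _).1 h2).resolve_left fun e => hw1 (by
        rw [show w = g * (g⁻¹ * w * g) * g⁻¹ by group, e, mul_one, mul_inv_cancel])).2)
    exact hwA ((hA.mem w).2 (Or.inr ⟨hwt, h3⟩))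
  · have ha : v * w ∈ A := (hA.mem _).2 (Or.inr ⟨hA.vt.mul_left hwt, h.symm.trans hut.symm⟩)
    have := (hA.mul_left ha ((Commute.refl v).mul_left hwv)).centralizer_le
      (mem_centralizer_singleton_iff.2 (show u * (v * (v * w)) = v * (v * w) * u by
        rw [← mul_assoc v v w, hA.v2, one_mul]; exact hwu.symm.eq))
    exact hg (mem_centralizer_singleton_iff.1 this)

end CfsgLib.Recog.ExtraThirtyTwo
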