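import Cfsg.Agent.Lib.Recog.ExtraThirtyTwo.Defs
import Mathlib.Tactic.IntervalCases

set_option autoImplicit false

/-!
Checks on the codes of the extraspecial group for the choice of a frame (owner: helper22).
-/

namespace CfsgLib.Recog.ExtraThirtyTwo

/-- Bit `j` of a code. -/
def bit (p j : ℕ) : Bool := Nat.testBit p j

/-- A code or the code of `1`. -/
def sel (b : Bool) (c : ℕ) : ℕ := cond b c 0

/-- The image of a code under the map sending `x1, x2, y1, y2` to four given codes. -/
noncomputable def img (c₁ c₂ c₃ c₄ p : ℕ) : ℕ :=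
  qMul (qMul (qMul (qMul (sel (bit p 0) c₁) (sel (bit p 1) c₂)) (sel (bit p 2) c₃)) (sel (bit p 3) c₄))
    (sel (bit p 4) 16)

/-- Conjugation by `a` on codes. -/
noncomputable def rot (p : ℕ) : ℕ := img 2 3 8 12 p

/-- The map attached to the images `c`, `d` of `x1`, `y1` under an inverting element. -/
noncomputable def wimg (c d p : ℕ) : ℕ := img c (rot (rot c)) d (rot (rot d)) p

/-- A code commutes with another. -/
noncomputable def qComm (p q : ℕ) : Bool := Nat.beq (qMul p q) (qMul q p)

/-- A noncentral involution whose orbit under `a` has product one. -/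
noncomputable def good (c : ℕ) : Bool :=
  !(Nat.beq (c % 16) 0) && Nat.beq (qMul c c) 0 && Nat.beq (qMul (qMul c (rot c)) (rot (rot c))) 0

/-- Two images which a frame admits. -/
noncomputable def wOk (c d : ℕ) : Bool :=
  good c && good d && qComm c d && Nat.beq (wimg c d c) 1 && Nat.beq (wimg c d d) 4

/-- A frame `u`, `v` of one of the two types. -/
noncomputable def newOk (c d u v : ℕ) : Bool :=
  good u && good v && qComm u v && !(qComm u (rot v)) &&
    ((Nat.beq (wimg c d u) u && Nat.beq (wimg c d v) v) || (Nat.beq (wimg c d u) v && Nat.beq (wimg c d v) u))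

set_option maxRecDepth 100000
set_option synthInstance.maxSize 1000

theorem qMul_bits : ∀ p < 32, ∀ q < 32,
    bit (qMul p q) 0 = Bool.xor (bit p 0) (bit q 0) ∧
    bit (qMul p q) 1 = Bool.xor (bit p 1) (bit q 1) ∧
    bit (qMul p q) 2 = Bool.xor (bit p 2) (bit q 2) ∧
    bit (qMul p q) 3 = Bool.xor (bit p 3) (bit q 3) ∧
    bit (qMul p q) 4 =
      Bool.xor (Bool.xor (Bool.xor (bit p 4) (bit p 3 && bit q 0)) (bit p 2 && bit q 1)) (bit q 4) := by
  decide +kernel

theorem qMul_lt : ∀ p < 32, ∀ q < 32, qMul p q < 32 := by decide +kernel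

theorem rot_lt : ∀ p < 32, rot p < 32 := by decide +kernel

theorem qMul_central : ∀ p < 32,
    qMul p 1 = qMul 1 p → qMul p 2 = qMul 2 p → qMul p 4 = qMul 4 p → qMul p 8 = qMul 8 p → p = 0 ∨ p = 16 := by
  decide +kernel

theorem qMul_sign : ∀ p < 32, ∀ q < 32, qMul p q = qMul q p ∨ qMul p q = qMul (qMul q p) 16 := by
  decide +kernel

theorem qMul_cancel : ∀ p < 32, ∀ q < 32, ∃ r < 32, qMul r p = 0 ∧ (qMul r q = 0 → p = q) := by
  decide +kernel

theorem exists_new : ∀ c < 32, ∀ d < 32, wOk c d = true → ∃ u < 32, ∃ v < 32, newOk c d u v = true := by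
  decide +kernel

theorem act_eq : ∀ i < 4, ∀ k < 3, ∀ e < 2, ∀ r < 32,
    act i k e r = (fun p => cond (Nat.beq k 0) p (cond (Nat.beq k 1) (rot p) (rot (rot p))))
      (cond (Nat.beq e 0) r (cond (Nat.beq (i / 2) 0) (wimg 1 4 r) (wimg 4 1 r))) := by
  decide +kernel

theorem act_lt : ∀ i < 4, ∀ k < 3, ∀ e < 2, ∀ r < 32, act i k e r < 32 := by decide +kernel

end CfsgLib.Recog.ExtraThirtyTwo
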