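import Cfsg.Agent.Lib.Recog.ExtraThirtyTwo.ColourData
import Cfsg.Agent.Lib.Recog.ExtraThirtyTwo.FrameCheck
import Cfsg.Agent.Lib.Recog.Held.Count

set_option autoImplicit false

/-!
Which sets of involution classes of a candidate can be fused to `s` (owner: helper22).

The pattern `m` is the number whose bit `k` says that class `k + 1` is fused to `s`; class `0` is `s` itself.
-/

namespace CfsgLib.Recog.ExtraThirtyTwo

open CfsgLib.Recog.Held (countBelow allBelow)

/-- Number of involution classes. -/
noncomputable def ncls (i : ℕ) : ℕ := fld 8 0x3040406 i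
/-- A representative. -/
noncomputable def rep (i k : ℕ) : ℕ :=
  fld 8 0x50110000060050110000005040110656005040110 (6 * i + k)

/-- The table entry of a code. -/
noncomputable def ent (i x : ℕ) : ℕ :=
  fld 12 (cond (Nat.beq (i / 2) 0) (cond (Nat.beq i 0) clsData0 clsData1) (cond (Nat.beq i 2) clsData2 clsData3)) x
/-- One more than the class of an involution. -/
noncomputable def cls (i x : ℕ) : ℕ := Nat.land (ent i x) 15

/-- The table is right at a code. -/
noncomputable def tblOK (i x : ℕ) : Bool :=
  cond (Nat.beq (cls i x) 0) (Nat.beq x 0 || !(Nat.beq (mulC i x x) 0))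
    (!(Nat.beq x 0) && Nat.beq (mulC i x x) 0 && Nat.ble (cls i x) (ncls i) && Nat.blt (ent i x / 16) 192 &&
      Nat.beq (mulC i (ent i x / 16) x) (mulC i (rep i (cls i x - 1)) (ent i x / 16)))

/-- The representatives lie in their classes. -/
noncomputable def repOK (i k : ℕ) : Bool := Nat.blt (rep i k) 192 && Nat.beq (cls i (rep i k)) (k + 1)

/-- A class is fused to `s`. -/
noncomputable def colOn (m c : ℕ) : Bool :=
  Nat.beq c 1 || (Nat.blt 1 c && Nat.beq (fld 1 m (c - 2)) 1)

/-- A count in the centraliser of a code. -/
noncomputable def stabCount (i u : ℕ) (f : ℕ → Bool) : ℕ :=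
  countBelow 192 fun j => Nat.beq (mulC i j u) (mulC i u j) && f j

/-- The order of a centraliser. -/
noncomputable def size (i u : ℕ) : ℕ := stabCount i u fun _ => true
/-- Square roots of `v` in the centraliser of `u`. -/
noncomputable def roots (i u v : ℕ) : ℕ := stabCount i u fun j => Nat.beq (mulC i j j) v
/-- Fused pairs with quotient `v` in the centraliser of `u`. -/
noncomputable def pairsN (i m u v : ℕ) : ℕ :=
  stabCount i u fun j => colOn m (cls i j) && colOn m (cls i (mulC i j v))

/-- The centralisers of two codes match with `s` and the codes exchanged. -/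
noncomputable def swaps (i m u d : ℕ) : Bool :=
  Nat.beq (size i u) (size i d) &&
  ((Nat.beq (roots i u u) (roots i d 16) && Nat.beq (roots i u 16) (roots i d d)) &&
  (Nat.beq (pairsN i m u u) (pairsN i m d 16) && Nat.beq (pairsN i m u 16) (pairsN i m d d)))

/-- Every fused class has a partner. -/
noncomputable def reversible (i m : ℕ) : Bool :=
  allBelow (ncls i - 1) fun a => !(colOn m (a + 2)) ||
    !(allBelow (ncls i - 1) fun d => !(colOn m (d + 2) && swaps i m (rep i (a + 1)) (rep i (d + 1))))

/-- A class inside the extraspecial group is fused. -/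
noncomputable def hasInner (i m : ℕ) : Bool :=
  !(allBelow (ncls i - 1) fun a => !(colOn m (a + 2) && Nat.blt (rep i (a + 1)) 32))

/-- The patterns left by the check. -/
noncomputable def survives (i m : ℕ) : Bool :=
  cond (Nat.beq i 0)
    (Nat.beq m 1 || (Nat.beq m 2 || (Nat.beq m 4 || (Nat.beq m 7 || (Nat.beq m 11 || (Nat.beq m 13 ||
      (Nat.beq m 14 || (Nat.beq m 19 || (Nat.beq m 21 || (Nat.beq m 22 || Nat.beq m 31))))))))))
    (Nat.beq i 2 && (Nat.beq m 2 || Nat.beq m 6))

set_option maxRecDepth 100000

theorem tbl_ok0 : allBelow 192 (tblOK 0) = true := by decide +kernel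
theorem tbl_ok1 : allBelow 192 (tblOK 1) = true := by decide +kernel
theorem tbl_ok2 : allBelow 192 (tblOK 2) = true := by decide +kernel
theorem tbl_ok3 : allBelow 192 (tblOK 3) = true := by decide +kernel

theorem rep_ok : allBelow 4 (fun i => allBelow (ncls i) (repOK i) && (Nat.beq (rep i 0) 16 &&
    Nat.beq (mulC i 0 0) 0)) = true := by decide +kernel

theorem pattern0 : allBelow 32 (fun m => !(hasInner 0 m && reversible 0 m) || survives 0 m) = true := by
  decide +kernel
theorem pattern1 : allBelow 8 (fun m => !(hasInner 1 m && reversible 1 m) || survives 1 m) = true := by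
  decide +kernel
theorem pattern2 : allBelow 8 (fun m => !(hasInner 2 m && reversible 2 m) || survives 2 m) = true := by
  decide +kernel
theorem pattern3 : allBelow 4 (fun m => !(hasInner 3 m && reversible 3 m) || survives 3 m) = true := by
  decide +kernel

end CfsgLib.Recog.ExtraThirtyTwo
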