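import Cfsg.Agent.Lib.Recog.ExtraThirtyTwo.Defs

set_option autoImplicit false

/-! Classes of involutions of the four candidates; generator `notes/s3344/colour.py` (owner: helper22). -/

namespace CfsgLib.Recog.ExtraThirtyTwo

/-- One more than the class and `16 *` a conjugator, in candidate 0. -/
def clsData0 : ℕ := 0x4a50004260000000000000004860004a60000000000000004060004850000000000000004250004052a50000002260000000000000000000000002860000002a62060000002850000000000000000000000002250000002050000000000000000000000000000000a50260000000860a6000000000000000000000000000000006085000000025005000000000000000000000000000000000000000000000000000000000000000000000000000000000000000000000000000000000000000000000000000000000000000000000000000000000000000000000000000000000000000000000000224000000223000424000423000000024023282482082001204000000203000404000403000000004003202402002000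

/-- One more than the class and `16 *` a conjugator, in candidate 1. -/
def clsData1 : ℕ := 0x224000000223000424000423000000024023282482082001204000000203000404000403000000004003202402002000

/-- One more than the class and `16 *` a conjugator, in candidate 2. -/
def clsData2 : ℕ := 0x4840000004a40000004940000000000000000004b40000004340000004140000004240000000000000000004042a40000000000000002940000002840000000000000002b42140000000000000002240000002340000000000000002040000940000000840000000000000000a40000000000000b4000024000000034000000000000000014000000000000004000000000000000000000000000000000000000000000000000000000000000000000000000000000000000000000000000000000000000000000000000000000000000000000000000000000000000000000000000000000000000000000000223000000a82000423000882000000023682282482082001203000000a02000403000802000000003602202402002000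

/-- One more than the class and `16 *` a conjugator, in candidate 3. -/
def clsData3 : ℕ := 0x223000000a82000423000882000000023682282482082001203000000a02000403000802000000003602202402002000

end CfsgLib.Recog.ExtraThirtyTwo
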