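import Mathlib.Algebra.Group.Defs
import Mathlib.Data.Nat.Bitwise

set_option autoImplicit false

/-!
Coordinates for an involution centraliser `2^{1+4}.Sym(3)` (owner: helper22).

A code below 192 is `q + 32 * k + 96 * e` for the element `Q(q) * a^k * w^e`.  The five bits of `q` are the exponents
of `x1 x2 y1 y2 s`; `W1 = <x1, x2>` and `W2 = <y1, y2>` are four-groups, `x_i` commutes with `y_i` only, `a` permutes
`x1, x2, x1x2` and `y1, y2, y1y2` cyclically.  Candidates: `i / 2 = 0`: `w` fixes `W1` and `W2`; `i / 2 = 1`: `w`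
exchanges them; `i % 2`: `w * w = s ^ (i % 2)`.  Generator: `notes/s3344`.
-/

namespace CfsgLib.Recog.ExtraThirtyTwo

/-- A field of a packed number. -/
noncomputable def fld (w x k : ℕ) : ℕ := Nat.land (Nat.shiftRight x (Nat.mul w k)) (2 ^ w - 1)

/-- The commutators of `W1` and `W2`. -/
def betData : ℕ := 0x6ac0

/-- The product in the extraspecial group. -/
noncomputable def qMul (p q : ℕ) : ℕ :=
  Nat.xor (Nat.xor p q) (Nat.mul 16 (fld 1 betData (4 * (Nat.land (Nat.shiftRight p 2) 3) + Nat.land q 3)))

/-- Conjugation of the extraspecial group by `a^k w^e`, first type. -/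
def actData0 : ℕ := 0x15161714191a1b181d1e1f1c1112131005060704090a0b080d0e0f0c010203001f1d1e1c171516141b191a18131112100f0d0e0c070506040b090a08030102001a1b19181e1f1d1c16171514121311100a0b09080e0f0d0c06070504020301001a191b18161517141e1d1f1c121113100a090b08060507040e0d0f0c02010300151716141d1f1e1c191b1a1811131210050706040d0f0e0c090b0a08010302001f1e1d1c1b1a191817161514131211100f0e0d0c0b0a09080706050403020100

/-- Conjugation of the extraspecial group by `a^k w^e`, second type. -/
def actData1 : ℕ := 0x15090d11061a0e12070b1f1314181c1005191d01160a1e02171b0f0304080c001f070b130d1509110e061a121c1418100f171b031d0519011e160a020c0408001a0e06120b1f0713090d1511181c14100a1e16021b0f1703191d0501080c04001a191b18161517141e1d1f1c121113100a090b08060507040e0d0f0c02010300151716141d1f1e1c191b1a1811131210050706040d0f0e0c090b0a08010302001f1e1d1c1b1a191817161514131211100f0e0d0c0b0a09080706050403020100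

/-- Conjugation of the extraspecial group by `a^k w^e`. -/
noncomputable def act (i k e q : ℕ) : ℕ :=
  fld 8 (cond (Nat.beq (i / 2) 0) actData0 actData1) (32 * (3 * e + k) + q)

/-- The quotient part of a product. -/
noncomputable def kMul (k e l : ℕ) : ℕ := (k + cond (Nat.beq e 0) l (2 * l)) % 3

/-- The product of two codes in candidate `i`. -/
noncomputable def mulC (i g h : ℕ) : ℕ :=
  qMul (qMul (Nat.land g 31) (act i (g / 32 % 3) (g / 96) (Nat.land h 31)))
      (16 * ((g / 96) * (h / 96) * (i % 2))) +
    32 * kMul (g / 32 % 3) (g / 96) (h / 32 % 3) + 96 * ((g / 96 + h / 96) % 2)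

/-- Coordinates on the centraliser of `s`. -/
structure Coord {G : Type*} [Group G] (s : G) (i : ℕ) where
  /-- the element of a code -/
  el : ℕ → G
  mem : ∀ x < 192, el x * s = s * el x
  el_mul : ∀ x < 192, ∀ y < 192, el x * el y = el (mulC i x y)
  el_inj : ∀ x < 192, ∀ y < 192, el x = el y → x = y
  surj : ∀ g : G, g * s = s * g → ∃ x < 192, el x = g
  el_s : el 16 = s

end CfsgLib.Recog.ExtraThirtyTwo
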