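import Cfsg.Agent.Lib.Recog.ExtraThirtyTwo.DiagCheck
import Cfsg.Agent.Lib.Recog.ExtraThirtyTwo.Simple
import Cfsg.Agent.Lib.Recog.HeldTri.Isolated
import Cfsg.Agent.Lib.TwoFusion.DihedralProduct.Nested
import Cfsg.Agent.Lib.LocalEvenB.CentralizerDEight
import Cfsg.Agent.Lib.Recog.TwoSymFourFacts
import Cfsg.Agent.Lib.Transfer.ThompsonTransfer

set_option autoImplicit false
set_option linter.style.haveILetI false

/-!
The centraliser of the uncoloured inner involution `u = x1 y1` (owner: helper22, after the pencil of helper25).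

`V = {1, u, v, u v}` is normal by the Z*-theorem modulo `u`, and `C(u)/V` has an involution with dihedral
centraliser of order eight.
-/

namespace CfsgLib.Recog.ExtraThirtyTwo

open Subgroup
open CfsgLib.Recog.Held (countBelow allBelow allBelow_spec card_eq_countBelow)

variable {G : Type*} [Group G] [Finite G] {s : G} {K : Coord s 0}

/-- What is proved about `C(el 5)`. -/
structure DiagFacts (K : Coord s 0) : Prop where
  normal : ∀ g : G, Commute g (K.el 5) → g * K.el 113 * g⁻¹ = K.el 113 ∨ g * K.el 113 * g⁻¹ = K.el 116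
  odd_core : ∀ N : Subgroup (centralizer ({K.el 5} : Set G)), N.Normal → Odd (Nat.card N) → N = ⊥
  card : Nat.card (centralizer ({K.el 5} : Set G)) = 32 ∨ Nat.card (centralizer ({K.el 5} : Set G)) = 96 ∨
    Nat.card (centralizer ({K.el 5} : Set G)) = 480
  small : Nat.card (centralizer ({K.el 5} : Set G)) = 32 → centralizer ({K.el 5} : Set G) ≤ centralizer ({s} : Set G)
  quotient : ∃ (V : Subgroup (centralizer ({K.el 5} : Set G))) (_ : V.Normal),
    (∀ x, x ∈ V ↔ (x : G) = 1 ∨ (x : G) = K.el 5 ∨ (x : G) = K.el 113 ∨ (x : G) = K.el 116) ∧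
    ((∀ x : centralizer ({K.el 5} : Set G), Commute (x : G) s) ∨
      Nonempty (centralizer ({K.el 5} : Set G) ⧸ V ≃* Equiv.Perm (Fin 4)) ∨
      Nonempty (centralizer ({K.el 5} : Set G) ⧸ V ≃* Equiv.Perm (Fin 5)))

/-- The label of an element of the dihedral group of order eight. -/
def dLab : DihedralGroup 4 → ℕ
  | .r i => i.val
  | .sr i => 4 + i.val

theorem dLab_lt (d : DihedralGroup 4) : dLab d < 8 := by
  revert d
  decide

theorem dLab_inj : Function.Injective dLab := by
  unfold Function.Injective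
  decide

theorem dLab_surj : ∀ k < 8, ∃ d, dLab d = k := by decide

theorem dLab_mul : ∀ a b : DihedralGroup 4, dLab (a * b) = dMul (dLab a) (dLab b) := by decide +kernel

namespace PairPattern

theorem diagFacts (hK : PairPattern K) : DiagFacts K := by
  have h4 : (0 : ℕ) < 4 := by omega
  have hm := hK.mask_eq
  haveI : Fact (Nat.Prime 2) := ⟨Nat.prime_two⟩
  have hR := diagR_ok
  simp only [diagR, Bool.and_eq_true, allBelow_spec, Bool.or_eq_true, Bool.not_eq_true', Bool.eq_false_iff, ne_eq,
    Nat.beq_eq] at hR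
  obtain ⟨hR32, hRmul, hRcol, hRnorm, hRcand⟩ := hR
  have hV := diagV_ok
  simp only [diagV, Bool.and_eq_true, allBelow_spec, Bool.or_eq_true, Bool.not_eq_true', Bool.eq_false_iff, ne_eq,
    Nat.beq_eq] at hV
  obtain ⟨⟨⟨⟨⟨⟨⟨r5, r113⟩, r16⟩, r1, r97⟩, ⟨⟨c1, c17⟩, c97⟩, c100, c5, c113, c116⟩, ⟨e17, e116⟩, e97, c21⟩,
    ⟨e55, e21⟩, ⟨e100, e113s⟩, e116s⟩, hdmul, hdsurj, hdR, hd5, cd2, cd4, cd6⟩ := hV
  have h3free := threeFree_ok
  simp only [threeFree, allBelow_spec, Bool.and_eq_true, Bool.or_eq_true, Bool.not_eq_true', Bool.eq_false_iff,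
    ne_eq, Nat.beq_eq] at h3free
  have col : ∀ x < 192, (IsConj (K.el x) s ↔ col0 x = true) := fun x hx => by
    rw [K.mask_spec h4 hx, hm, col0]
  set u := K.el 5
  have hus : Commute u s := K.mem 5 (by omega)
  have hsU : s ∈ centralizer ({u} : Set G) := mem_centralizer_singleton_iff.2 hus.symm.eq
  have hu2 : u * u = 1 := by rw [K.el_mul 5 (by omega) 5 (by omega), e55, K.el_zero h4]
  have hu1 : u ≠ 1 := fun e => by
    have := K.el_inj 5 (by omega) 0 (by omega) (e.trans (K.el_zero h4).symm)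
    omega
  have ucol : ¬ IsConj u s := fun h => c5 ((col 5 (by omega)).1 h)
  set U := centralizer ({u} : Set G) with hUdef
  have memU : ∀ g, g ∈ U ↔ Commute g u := fun g => mem_centralizer_singleton_iff
  have inR_iff : ∀ x < 192, (inR x = true ↔ K.el x ∈ U) := fun x hx => by
    rw [inR, Nat.beq_eq, memU, ← K.comm_iff h4 hx (by omega)]; rfl
  have codeR : ∀ g ∈ U, Commute g s → ∃ x < 192, inR x = true ∧ K.el x = g := fun g hg hgs => by
    obtain ⟨x, hx, rfl⟩ := K.surj g hgs.eq
    exact ⟨x, hx, (inR_iff x hx).2 hg, rfl⟩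
  set s' : U := ⟨s, hsU⟩
  set P₀ := centralizer ({s'} : Set U) with hP₀def
  have memP₀ : ∀ g : U, g ∈ P₀ ↔ Commute (g : G) s := fun g => by
    rw [hP₀def, mem_centralizer_singleton_iff]
    exact ⟨fun h => congrArg Subtype.val h, fun h => Subtype.ext h⟩
  have hP₀card : Nat.card P₀ = 2 ^ 5 := by
    show Nat.card P₀ = 32
    rw [← hR32]
    refine (Nat.card_congr ?_).trans (card_eq_countBelow K.el 192 _ (fun g => g ∈ U ∧ Commute g s)
      (fun a ha b hb h => K.el_inj a ha b hb h)
      (fun j hj => ⟨fun h => ⟨(inR_iff j hj).1 h, K.mem j hj⟩, fun h => (inR_iff j hj).2 h.1⟩)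
      fun g hg => K.surj g hg.2.eq)
    exact { toFun := fun g => ⟨g.1.1, g.1.2, (memP₀ g.1).1 g.2⟩
            invFun := fun g => ⟨⟨g.1, g.2.1⟩, (memP₀ ⟨g.1, g.2.1⟩).2 g.2.2⟩
            left_inv := fun g => rfl
            right_inv := fun g => rfl }
  obtain ⟨P, hP⟩ := (IsPGroup.of_card hP₀card).exists_le_sylow
  have hPeq : (P : Subgroup U) = P₀ := by
    by_contra hne
    have hlt : P₀.subgroupOf (P : Subgroup U) < ⊤ :=
      lt_top_iff_ne_top.2 fun h => hne (le_antisymm (subgroupOf_eq_top.1 h) hP)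
    haveI : Group.IsNilpotent (P : Subgroup U) := P.2.isNilpotent
    obtain ⟨⟨n, hnP⟩, hnN, hn0⟩ := SetLike.exists_of_lt (Group.normalizerCondition_of_isNilpotent _ hlt)
    rw [mem_subgroupOf] at hn0
    have hconj : ∀ y ∈ P₀, n * y * n⁻¹ ∈ P₀ := fun y hy => by
      have := (mem_normalizer_iff.1 hnN ⟨y, hP hy⟩).1 (mem_subgroupOf.2 hy)
      simpa [mem_subgroupOf] using this
    have hback : ∀ y ∈ P₀, n⁻¹ * y * n ∈ P₀ := fun y hy => by
      have := (mem_normalizer_iff.1 ((normalizer _).inv_mem hnN) ⟨y, hP hy⟩).1 (mem_subgroupOf.2 hy)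
      simpa [mem_subgroupOf] using this
    have hs' : s' ∈ P₀ := (memP₀ _).2 (Commute.refl s)
    have hns := hconj s' hs'
    obtain ⟨x, hx, hxR, hxe⟩ := codeR _ (n * s' * n⁻¹).2 ((memP₀ _).1 hns)
    have hxcol : col0 x = true := (col x hx).1 (by
      rw [hxe]; exact (isConj_iff.2 ⟨(n : G), rfl⟩ : IsConj s _).symm)
    rcases hRcol x hx with r | ⟨-, r | r⟩
    · exact r ⟨hxR, hxcol⟩
    · refine hn0 ((memP₀ n).2 ?_)
      rw [r, K.el_s] at hxe
      exact mul_inv_eq_iff_eq_mul.1 hxe.symm
    · refine r fun y hy => ?_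
      by_cases hyR : inR y = true
      · right
        refine (K.comm_iff h4 hx hy).1 ?_
        have hy' : (⟨K.el y, (inR_iff y hy).1 hyR⟩ : U) ∈ P₀ := (memP₀ _).2 (K.mem y hy)
        have h : Commute (n * s' * n⁻¹) (n * (n⁻¹ * ⟨K.el y, (inR_iff y hy).1 hyR⟩ * n) * n⁻¹) :=
          (Commute.symm (mem_centralizer_singleton_iff.1 (hback _ hy'))).map (MulAut.conj n).toMonoidHom
        rw [show n * (n⁻¹ * ⟨K.el y, (inR_iff y hy).1 hyR⟩ * n) * n⁻¹ = ⟨K.el y, (inR_iff y hy).1 hyR⟩ by group] at h
        rw [hxe]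
        exact congrArg Subtype.val h.eq
      · exact Or.inl hyR
  -- two-elements of a subgroup above `C_U(s)` move into it
  have sylow_move : ∀ H : Subgroup U, P₀ ≤ H → ∀ y ∈ H, y * y = 1 → ∃ h ∈ H, Commute ((h * y * h⁻¹ : U) : G) s := by
    intro H hPH y hy hy2
    have hPH' : (P : Subgroup U) ≤ H := hPeq ▸ hPH
    set P' := P.subtype hPH'
    have hy' : IsPGroup 2 (zpowers (⟨y, hy⟩ : H)) := by
      have hd : Nat.card (zpowers (⟨y, hy⟩ : H)) ∣ 2 := by
        rw [Nat.card_zpowers]; exact orderOf_dvd_of_pow_eq_one (Subtype.ext (by simpa [pow_two] using hy2))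
      rcases (Nat.dvd_prime Nat.prime_two).1 hd with r | r
      exacts [IsPGroup.of_card (n := 0) (by simpa using r), IsPGroup.of_card (n := 1) (by simpa using r)]
    obtain ⟨T, hT⟩ := hy'.exists_le_sylow
    obtain ⟨h, hh⟩ := MulAction.exists_smul_eq H T P'
    have hmem : h * ⟨y, hy⟩ * h⁻¹ ∈ (P' : Subgroup H) := by
      rw [← hh]; exact ⟨⟨y, hy⟩, hT (mem_zpowers _), rfl⟩
    refine ⟨h, h.2, (memP₀ _).1 ?_⟩
    rw [← hPeq]
    exact mem_subgroupOf.1 hmem
  -- odd elements commuting with a fused involution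
  have fpf : ∀ (n : U) (c : G), IsConj c s → Commute c u → Odd (orderOf n) → Commute (n : G) c → n = 1 := by
    intro n c hc hcu hodd hnc
    by_contra hn1
    obtain ⟨k, hk⟩ := isConj_iff.1 hc
    obtain ⟨x, hx, hxe⟩ := K.surj (k * n * k⁻¹) (by
      rw [← hk, conj_mul, conj_mul, hnc.eq])
    obtain ⟨y, hy, hye⟩ := K.surj (k * u * k⁻¹) (by
      rw [← hk, conj_mul, conj_mul, hcu.eq])
    have hx1 : K.el x ≠ 1 := fun e => hn1 (Subtype.ext (by
      rw [hxe, mul_inv_eq_one, mul_eq_left] at e; exact e))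
    have hord : orderOf (K.el x) ∣ 3 := by
      have h192 : orderOf (K.el x) ∣ 192 := by
        have hd := Subgroup.orderOf_dvd_natCard (centralizer ({s} : Set G)) (mem_centralizer_singleton_iff.2 (K.mem x hx))
        have h := card_eq_countBelow K.el 192 (fun _ => true) (fun g => g ∈ centralizer ({s} : Set G))
          (fun a ha b hb h => K.el_inj a ha b hb h)
          (fun j hj => iff_of_true rfl (mem_centralizer_singleton_iff.2 (K.mem j hj)))
          (fun g hg => K.surj g (mem_centralizer_singleton_iff.1 hg))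
        rw [h, CfsgLib.Recog.Held.countBelow_eq] at hd
        simpa using hd
      have ho : Odd (orderOf (K.el x)) := by
        rw [hxe, CfsgLib.Signalizer.orderOf_conj, Subgroup.orderOf_coe]; exact hodd
      exact (Nat.Coprime.pow_right 6 (Nat.coprime_two_right.2 ho)).dvd_of_dvd_mul_left
        (by rw [show (2 : ℕ) ^ 6 * 3 = 192 by norm_num]; exact h192)
    have hx3 : mulC 0 (mulC 0 x x) x = 0 := by
      refine K.el_inj _ (mulC_lt h4 (mulC_lt h4 hx hx) hx) 0 (by omega) ?_
      rw [← K.el_mul _ (mulC_lt h4 hx hx) x hx, ← K.el_mul x hx x hx, K.el_zero h4, ← pow_two, ← pow_succ]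
      exact orderOf_dvd_iff_pow_eq_one.1 hord
    have hx0 : x ≠ 0 := fun e => hx1 (by rw [e, K.el_zero h4])
    have hy0 : y ≠ 0 := fun e => hu1 (by
      rw [e, K.el_zero h4, eq_comm, mul_inv_eq_one, mul_eq_left] at hye; exact hye)
    have hy2 : mulC 0 y y = 0 := by
      rw [← K.mul_eq_iff h4 hy hy (by omega), hye, conj_mul, hu2, mul_one, mul_inv_cancel, K.el_zero h4]
    rcases h3free x hx with r | r
    · exact r ⟨hx0, hx3⟩
    rcases r y hy with r' | r' | r'
    · exact r' ⟨hy0, hy2⟩
    · rw [r', K.el_s] at hye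
      exact ucol (isConj_iff.2 ⟨k, hye.symm⟩)
    · refine r' ((K.comm_iff h4 hx hy).1 ?_)
      rw [hxe, hye, conj_mul, conj_mul, ((memU _).1 n.2).eq]
  -- an involution with no fixed point inverts
  have invert : ∀ {X : Type _} [Group X] [Finite X] (N : Subgroup X), N.Normal → ∀ c : X, c * c = 1 →
      (∀ n ∈ N, Commute n c → n = 1) → ∀ m ∈ N, c * m * c = m⁻¹ := by
    intro X _ _ N hN c hc2 hfix m hm
    have hci : c⁻¹ = c := inv_eq_of_mul_eq_one_right hc2
    let F : N → N := fun n => ⟨(n : X)⁻¹ * (c * n * c), N.mul_mem (N.inv_mem n.2) (by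
      have := hN.conj_mem n n.2 c
      rwa [hci] at this)⟩
    have hF : Function.Injective F := fun a b hab => by
      have hab' : (a : X)⁻¹ * (c * a * c) = (b : X)⁻¹ * (c * b * c) := congrArg Subtype.val hab
      have h1 : (b : X) * (a : X)⁻¹ = 1 := by
        refine hfix _ (N.mul_mem b.2 (N.inv_mem a.2)) ?_
        show (b : X) * (a : X)⁻¹ * c = c * ((b : X) * (a : X)⁻¹)
        calc (b : X) * (a : X)⁻¹ * c = b * ((a : X)⁻¹ * (c * a * c)) * (c⁻¹ * (a : X)⁻¹) := by group
          _ = b * ((b : X)⁻¹ * (c * b * c)) * (c⁻¹ * (a : X)⁻¹) := by rw [hab']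
          _ = c * ((b : X) * (a : X)⁻¹) := by group
      exact Subtype.ext (mul_inv_eq_one.1 h1).symm
    obtain ⟨n, hn⟩ := (hF.bijective_of_nat_card_le le_rfl).2 ⟨m, hm⟩
    have hn' : (n : X)⁻¹ * (c * n * c) = m := congrArg Subtype.val hn
    rw [← hn', mul_inv_rev, mul_inv_rev, mul_inv_rev, inv_inv, hci]
    calc c * ((n : X)⁻¹ * (c * n * c)) * c = c * (n : X)⁻¹ * c * n * (c * c) := by group
      _ = _ := by rw [hc2, mul_one]; group
  let uE : ∀ x, inR x = true ∧ x < 192 → U := fun x h => ⟨K.el x, (inR_iff x h.2).1 h.1⟩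
  have r17 : inR 17 = true := by
    rw [← e17]
    exact ((hRmul 1 (by omega)).resolve_left (fun r => r r1) 16 (by omega)).resolve_left fun r => r r16
  set c₁ := uE 1 ⟨r1, by omega⟩
  set c₁₇ := uE 17 ⟨r17, by omega⟩
  have hprod : c₁ * s' = c₁₇ := Subtype.ext (by
    show K.el 1 * s = K.el 17
    exact (congrArg (K.el 1 * ·) K.el_s).symm.trans ((K.el_mul 1 (by omega) 16 (by omega)).trans (by rw [e17])))
  have sq' : ∀ x (hx : x < 192) (hr : inR x = true), col0 x = true → uE x ⟨hr, hx⟩ * uE x ⟨hr, hx⟩ = 1 :=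
    fun x hx hr hc => Subtype.ext (K.inv_of_isConj h4 ((col x hx).2 hc)).2
  have hs'2 : s' * s' = 1 := Subtype.ext (K.s_sq h4)
  -- a normal subgroup inverted by three involutions of a four-group
  have three : ∀ {X : Type _} [Group X] [Finite X] (N : Subgroup X), N.Normal → ∀ a b : X,
      a * a = 1 → b * b = 1 → (∀ n ∈ N, Commute n a → n = 1) → (∀ n ∈ N, Commute n b → n = 1) →
      (∀ n ∈ N, Commute n (a * b) → n = 1) → N = ⊥ := by
    intro X _ _ N hN a b ha hb fa fb fab
    rw [eq_bot_iff]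
    intro m hm
    rw [mem_bot]
    refine fab m hm ?_
    have h1 := invert N hN a ha fa
    have hm1 : a * m⁻¹ * a = m := by rw [h1 _ (N.inv_mem hm), inv_inv]
    show m * (a * b) = a * b * m
    calc m * (a * b) = a * m⁻¹ * (a * a) * b := by
          conv_lhs => rw [← hm1]
          simp only [mul_assoc]
      _ = a * (b * m * b) * b := by rw [ha, mul_one, invert N hN b hb fb m hm]
      _ = a * b * m * (b * b) := by simp only [mul_assoc]
      _ = a * b * m := by rw [hb, mul_one]
  have hodd : ∀ N : Subgroup U, N.Normal → Odd (Nat.card N) → N = ⊥ := by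
    intro N hN hNodd
    have f : ∀ c : U, IsConj (c : G) s → ∀ n ∈ N, Commute n c → n = 1 := fun c hc n hn hnc =>
      fpf n c hc ((memU _).1 c.2) (hNodd.of_dvd_nat (Subgroup.orderOf_dvd_natCard N hn)) (hnc.map U.subtype)
    exact three N hN c₁ s' (sq' 1 (by omega) r1 c1) hs'2 (f _ ((col 1 (by omega)).2 c1))
      (f _ (IsConj.refl s)) (by rw [hprod]; exact f _ ((col 17 (by omega)).2 c17))
  -- `V` is normal
  set u' : U := ⟨u, (memU u).2 (Commute.refl u)⟩
  have hu'c : u' ∈ center U := mem_center_iff.2 fun g => Subtype.ext ((memU _).1 g.2).eq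
  set Z := zpowers u'
  have hu'2 : u' * u' = 1 := Subtype.ext hu2
  have hu'o : orderOf u' = 2 :=
    orderOf_eq_prime (by rw [pow_two, hu'2]) fun e => hu1 (congrArg Subtype.val e)
  have hZmem : ∀ z, z ∈ Z ↔ z = 1 ∨ z = u' := fun z => by
    refine ⟨fun hz => ?_, fun h => ?_⟩
    · obtain ⟨m, rfl⟩ := mem_zpowers_iff.1 hz
      rcases Int.even_or_odd m with ⟨r, rfl⟩ | ⟨r, rfl⟩
      · left; rw [← two_mul, zpow_mul, zpow_two, hu'2, one_zpow]
      · right; rw [zpow_add, zpow_mul, zpow_two, hu'2, one_zpow, one_mul, zpow_one]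
    · rcases h with rfl | rfl
      · exact one_mem _
      · exact mem_zpowers _
  haveI hZn : Z.Normal := ⟨fun z hz g => by
    rw [mem_center_iff.1 ((zpowers_le.2 hu'c) hz) g, mul_inv_cancel_right]; exact hz⟩
  set v := uE 113 ⟨r113, by omega⟩
  have r116 : inR 116 = true := by
    rw [← e116]
    exact ((hRmul 5 (by omega)).resolve_left (fun r => r r5) 113 (by omega)).resolve_left fun r => r r113
  set v' := uE 116 ⟨r116, by omega⟩
  have hv' : v' = u' * v := Subtype.ext (by
    show K.el 116 = u * K.el 113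
    rw [K.el_mul 5 (by omega) 113 (by omega), e116])
  have hnormal : ∀ g : U, g * v * g⁻¹ = v ∨ g * v * g⁻¹ = v' := by
    set π := QuotientGroup.mk' Z
    have hv'π : π v' = π v := by
      rw [hv', map_mul, show π u' = 1 from (QuotientGroup.eq_one_iff u').2 (mem_zpowers _), one_mul]
    have πeq : ∀ a b : U, π a = π b → a = b ∨ a = u' * b := fun a b h => by
      have h1 : a * b⁻¹ ∈ Z := by
        rw [← QuotientGroup.eq_one_iff, ← QuotientGroup.mk'_apply, map_mul, map_inv, h, mul_inv_cancel]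
      rcases (hZmem _).1 h1 with e | e
      · exact Or.inl (mul_inv_eq_one.1 e)
      · exact Or.inr (mul_inv_eq_iff_eq_mul.1 e)
    set X := (centralizer ({π v} : Set (U ⧸ Z))).comap π
    have memX : ∀ g : U, g ∈ X ↔ g * v * g⁻¹ = v ∨ g * v * g⁻¹ = v' := fun g => by
      rw [mem_comap, mem_centralizer_singleton_iff, ← mul_inv_eq_iff_eq_mul, ← map_inv, ← map_mul, ← map_mul, hv']
      refine ⟨fun h => πeq _ _ h, fun h => ?_⟩
      rcases h with e | e <;> rw [e]
      rw [← hv', hv'π]
    have hPX : P₀ ≤ X := fun g hg => by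
      obtain ⟨j, hj, hjR, hje⟩ := codeR g g.2 ((memP₀ g).1 hg)
      rw [memX]
      rcases hRnorm j hj with r | r | r
      · exact absurd hjR r
      · left
        refine mul_inv_eq_iff_eq_mul.2 (Subtype.ext ?_)
        show (g : G) * K.el 113 = K.el 113 * g
        rw [← hje]; exact (K.comm_iff h4 hj (by omega)).2 r
      · right
        refine mul_inv_eq_iff_eq_mul.2 (Subtype.ext ?_)
        show (g : G) * K.el 113 = K.el 116 * g
        rw [← hje, K.el_mul j hj 113 (by omega), r, K.el_mul 116 (by omega) j hj]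
    have hv2 : v * v = 1 := Subtype.ext (by
      show K.el 113 * K.el 113 = 1
      rw [K.el_mul 113 (by omega) 113 (by omega)]
      have : mulC 0 113 113 = 0 := by decide +kernel
      rw [this, K.el_zero h4])
    have hv1 : π v ≠ 1 := fun h => by
      rcases (hZmem v).1 ((QuotientGroup.eq_one_iff v).1 h) with e | e
      · have := K.el_inj 113 (by omega) 0 (by omega) ((congrArg Subtype.val e).trans (K.el_zero h4).symm)
        omega
      · have := K.el_inj 113 (by omega) 5 (by omega) (congrArg Subtype.val e)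
        omega
    have hπo : orderOf (π v) = 2 := orderOf_eq_prime (by rw [pow_two, ← map_mul, hv2, map_one]) hv1
    have hiso : ∀ g : U ⧸ Z, Commute (g * π v * g⁻¹) (π v) → g * π v * g⁻¹ = π v := by
      intro gq hgq
      obtain ⟨g, rfl⟩ := QuotientGroup.mk'_surjective Z gq
      rw [← map_inv, ← map_mul, ← map_mul] at hgq ⊢
      set w := g * v * g⁻¹ with hw
      have hwX : w ∈ X := mem_comap.2 (mem_centralizer_singleton_iff.2 hgq.eq)
      have hw2 : w * w = 1 := by rw [hw, conj_mul, hv2, mul_one, mul_inv_cancel]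
      obtain ⟨h, hhX, hhs⟩ := sylow_move X hPX w hwX hw2
      set k := h * g with hk
      have hkw : k * v * k⁻¹ = h * w * h⁻¹ := by rw [hk, hw]; group
      obtain ⟨x, hx, hxR, hxe⟩ := codeR _ (h * w * h⁻¹).2 hhs
      have hxv : IsConj (K.el x) (K.el 113) := by
        rw [hxe, ← hkw]
        exact (isConj_iff.2 ⟨(k : G), rfl⟩ : IsConj (v : G) _).symm
      have hx2 : mulC 0 x x = 0 := by
        rw [← K.mul_eq_iff h4 hx hx (by omega), hxe, K.el_zero h4, ← Subgroup.coe_mul, conj_mul, hw2, mul_one,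
          mul_inv_cancel, Subgroup.coe_one]
      have hπx : π (h * w * h⁻¹) ≠ 1 := by
        rw [← hkw, map_mul, map_mul, map_inv, ne_eq, mul_inv_eq_one, mul_eq_left]
        exact hv1
      have hx0 : x ≠ 0 := fun e => hπx (by
        rw [e, K.el_zero h4] at hxe
        rw [show h * w * h⁻¹ = 1 from Subtype.ext hxe.symm, map_one])
      have hx5 : x ≠ 5 := fun e => hπx (by
        rw [e] at hxe
        rw [show h * w * h⁻¹ = u' from Subtype.ext hxe.symm]
        exact (QuotientGroup.eq_one_iff u').2 (mem_zpowers _))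
      have hxc : ¬ col0 x = true := fun h' => c113 ((col 113 (by omega)).1 (hxv.symm.trans ((col x hx).2 h')))
      have hxc' : ¬ col0 (mulC 0 5 x) = true := fun h' => c116 ((col 116 (by omega)).1 (by
        have h'' : IsConj (u * K.el x) s := by
          rw [K.el_mul 5 (by omega) x hx]; exact (col _ (mulC_lt h4 (by omega) hx)).2 h'
        refine IsConj.trans (isConj_iff.2 ⟨(k : G), ?_⟩) h''
        rw [hxe, ← hkw, ← e116, ← K.el_mul 5 (by omega) 113 (by omega)]
        show (k : G) * (u * K.el 113) * (k : G)⁻¹ = u * ((k : G) * K.el 113 * (k : G)⁻¹)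
        rw [← conj_mul, mul_inv_eq_iff_eq_mul.2 ((memU _).1 k.2).eq]))
      rcases hRcand x hx with r | r | r | ⟨r, r'⟩
      · exact absurd ⟨hxR, hx0, hx5, hx2, hxc, hxc'⟩ r
      · have e : π (h * w * h⁻¹) = π v := congrArg π (Subtype.ext (by rw [← hxe, r]))
        rw [map_mul, map_mul, map_inv, mul_inv_eq_iff_eq_mul] at e
        refine mul_left_cancel (e.trans ?_)
        exact (mem_centralizer_singleton_iff.1 (mem_comap.1 hhX)).symm
      · have e : π (h * w * h⁻¹) = π v :=
          (congrArg π (show h * w * h⁻¹ = v' from Subtype.ext (by rw [← hxe, r]))).trans hv'π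
        rw [map_mul, map_mul, map_inv, mul_inv_eq_iff_eq_mul] at e
        refine mul_left_cancel (e.trans ?_)
        exact (mem_centralizer_singleton_iff.1 (mem_comap.1 hhX)).symm
      · exfalso
        set a := uE 97 ⟨r97, by omega⟩
        set z := k⁻¹ * a * k with hz
        have hzX : z ∈ X := by
          rw [memX]
          have hb : a * (k * v * k⁻¹) * a⁻¹ = k * v * k⁻¹ ∨ a * (k * v * k⁻¹) * a⁻¹ = u' * (k * v * k⁻¹) := by
            rw [hkw, mul_inv_eq_iff_eq_mul, mul_inv_eq_iff_eq_mul]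
            rcases r' with q | q
            · left
              refine Subtype.ext ?_
              show K.el 97 * ((h * w * h⁻¹ : U) : G) = ((h * w * h⁻¹ : U) : G) * K.el 97
              rw [← hxe, K.el_mul 97 (by omega) x hx, q, K.el_mul x hx 97 (by omega)]
            · right
              refine Subtype.ext ?_
              show K.el 97 * ((h * w * h⁻¹ : U) : G) = u * ((h * w * h⁻¹ : U) : G) * K.el 97
              rw [← hxe, K.el_mul 97 (by omega) x hx, q, K.el_mul 5 (by omega) x hx,
                K.el_mul _ (mulC_lt h4 (by omega) hx) 97 (by omega)]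
          rw [hv', show z * v * z⁻¹ = k⁻¹ * (a * (k * v * k⁻¹) * a⁻¹) * k by rw [hz]; group]
          rcases hb with q | q
          · left; rw [q]; group
          · right
            rw [q, ← mul_assoc k⁻¹ u', mem_center_iff.1 hu'c k⁻¹]; group
        have hz2 : z * z = 1 := by
          rw [hz, show k⁻¹ * a * k * (k⁻¹ * a * k) = k⁻¹ * (a * a) * k by group, sq' 97 (by omega) r97 c97]
          group
        obtain ⟨l, hlX, hls⟩ := sylow_move X hPX z hzX hz2
        obtain ⟨y, hy, hyR, hye⟩ := codeR _ (l * z * l⁻¹).2 hls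
        have hyc : col0 y = true := (col y hy).1 (by
          rw [hye]
          refine IsConj.trans (isConj_iff.2 ⟨((l * k⁻¹)⁻¹ : U), ?_⟩) ((col 97 (by omega)).2 c97)
          rw [← Subgroup.coe_inv, ← Subgroup.coe_mul, ← Subgroup.coe_mul]
          show ((_ : U) : G) = ((a : U) : G)
          congr 1
          rw [hz]; group)
        have hyv : Commute (l * z * l⁻¹) v := Subtype.ext (by
          show ((l * z * l⁻¹ : U) : G) * K.el 113 = K.el 113 * ((l * z * l⁻¹ : U) : G)
          rw [← hye]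
          exact (K.comm_iff h4 hy (by omega)).2 ((hRcol y hy).resolve_left fun q => q ⟨hyR, hyc⟩).1)
        have hyv' : Commute (l * z * l⁻¹) (l * v * l⁻¹) := by
          rcases (memX l).1 hlX with q | q <;> rw [q]
          · exact hyv
          · rw [hv']; exact (show Commute (l * z * l⁻¹) u' from mem_center_iff.1 hu'c _).mul_right hyv
        have hzv : Commute z v := by
          have := hyv'.map (MulAut.conj l⁻¹).toMonoidHom
          simpa [mul_assoc] using this
        have hax : Commute a (k * v * k⁻¹) := by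
          have := hzv.map (MulAut.conj k).toMonoidHom
          simpa [hz, mul_assoc] using this
        refine r ((K.comm_iff h4 (by omega) hx).1 ?_)
        rw [hxe, ← hkw]
        exact congrArg Subtype.val hax.eq
    have hcoreQ : Cfsg.oddCore (U ⧸ Z) = ⊥ := by
      refine CfsgLib.TwoFusion.DihedralProduct.oddCore_quotient_central Z (zpowers_le.2 hu'c)
        (IsPGroup.of_card (n := 1) (by rw [Nat.card_zpowers, hu'o, pow_one])) ?_
      exact hodd _ inferInstance (CfsgLib.ZStar.odd_card_oddCore U)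
    intro g
    have h := CfsgLib.Recog.HeldTri.commutator_mem_oddCore hπo hiso (π g)
    rw [hcoreQ, mem_bot, mul_inv_eq_one, mul_inv_eq_iff_eq_mul] at h
    refine (memX g).1 (mem_comap.2 (mem_centralizer_singleton_iff.2 h.symm))
  -- the quotient by `V`
  let V : Subgroup U :=
    { carrier := {x | (x : G) = 1 ∨ (x : G) = K.el 5 ∨ (x : G) = K.el 113 ∨ (x : G) = K.el 116}
      one_mem' := Or.inl rfl
      mul_mem' := by
        rintro a b ha hb
        have key : ∀ p < 192, ∀ q < 192, inV p = true → inV q = true → inV (mulC 0 p q) = true := by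
          decide +kernel
        have code : ∀ a : U, ((a : G) = 1 ∨ (a : G) = K.el 5 ∨ (a : G) = K.el 113 ∨ (a : G) = K.el 116) →
            ∃ p < 192, inV p = true ∧ K.el p = a := by
          rintro a (e | e | e | e) <;> rw [e]
          exacts [⟨0, by omega, rfl, K.el_zero h4⟩, ⟨5, by omega, rfl, rfl⟩, ⟨113, by omega, rfl, rfl⟩,
            ⟨116, by omega, rfl, rfl⟩]
        obtain ⟨p, hp, hpV, ep⟩ := code a ha
        obtain ⟨q, hq, hqV, eq'⟩ := code b hb
        have h := key p hp q hq hpV hqV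
        simp only [inV, Bool.or_eq_true, Nat.beq_eq] at h
        show (a : G) * b = 1 ∨ (a : G) * b = K.el 5 ∨ (a : G) * b = K.el 113 ∨ (a : G) * b = K.el 116
        rw [← ep, ← eq', K.el_mul p hp q hq]
        rcases h with e | e | e | e <;> rw [e]
        exacts [Or.inl (K.el_zero h4), Or.inr (Or.inl rfl), Or.inr (Or.inr (Or.inl rfl)), Or.inr (Or.inr (Or.inr rfl))]
      inv_mem' := by
        rintro a ha
        have hsq : ∀ p ∈ [5, 113, 116], (K.el p)⁻¹ = K.el p := fun p hp => by
          refine inv_eq_of_mul_eq_one_right ?_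
          have key : ∀ p ∈ [5, 113, 116], p < 192 ∧ mulC 0 p p = 0 := by decide +kernel
          rw [K.el_mul p (key p hp).1 p (key p hp).1, (key p hp).2, K.el_zero h4]
        show (a : G)⁻¹ = 1 ∨ (a : G)⁻¹ = K.el 5 ∨ (a : G)⁻¹ = K.el 113 ∨ (a : G)⁻¹ = K.el 116
        rcases ha with e | e | e | e <;> rw [e]
        · exact Or.inl inv_one
        · exact Or.inr (Or.inl (hsq 5 (by simp)))
        · exact Or.inr (Or.inr (Or.inl (hsq 113 (by simp))))
        · exact Or.inr (Or.inr (Or.inr (hsq 116 (by simp)))) }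
  have memV : ∀ x : U, x ∈ V ↔ x = 1 ∨ x = u' ∨ x = v ∨ x = v' := fun x => by
    show (x : G) = 1 ∨ _ ↔ _
    exact or_congr ⟨fun h => Subtype.ext h, congrArg Subtype.val⟩ (or_congr ⟨fun h => Subtype.ext h, congrArg Subtype.val⟩
      (or_congr ⟨fun h => Subtype.ext h, congrArg Subtype.val⟩ ⟨fun h => Subtype.ext h, congrArg Subtype.val⟩))
  haveI hVn : V.Normal := ⟨fun x hx g => by
    have hu'g : g * u' * g⁻¹ = u' := by rw [mem_center_iff.1 hu'c g, mul_inv_cancel_right]
    have hgv' : g * v' * g⁻¹ = u' * (g * v * g⁻¹) := by rw [hv', ← conj_mul, hu'g]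
    rw [memV] at hx ⊢
    rcases hx with rfl | rfl | rfl | rfl
    · simp
    · exact Or.inr (Or.inl hu'g)
    · exact Or.inr (Or.inr (hnormal g))
    · rw [hgv']
      rcases hnormal g with e | e <;> rw [e]
      · exact Or.inr (Or.inr (Or.inr hv'.symm))
      · rw [hv', ← mul_assoc, hu'2, one_mul]; exact Or.inr (Or.inr (Or.inl rfl))⟩
  set ρ := QuotientGroup.mk' V
  have ρeq : ∀ a b : U, ρ a = ρ b → a * b⁻¹ ∈ V := fun a b h => by
    rw [← QuotientGroup.eq_one_iff, ← QuotientGroup.mk'_apply, map_mul, map_inv, h, mul_inv_cancel]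
  have hρV : ∀ z ∈ V, ρ z = 1 := fun z hz => (QuotientGroup.eq_one_iff z).2 hz
  have cent_s : ∀ g : U, ρ g * ρ s' = ρ s' * ρ g → Commute (g : G) s := by
    intro g hg
    have h := ρeq (g * s' * g⁻¹) s' (by rw [map_mul, map_mul, map_inv]; exact mul_inv_eq_iff_eq_mul.2 hg)
    have hcol : IsConj ((g : G) * s * (g : G)⁻¹) s := (isConj_iff.2 ⟨(g : G), rfl⟩).symm
    have hgu : ((g : G) * u * (g : G)⁻¹) = u := mul_inv_eq_iff_eq_mul.2 ((memU _).1 g.2).eq
    have hmul : ∀ p < 192, ((g * s' * g⁻¹ * s'⁻¹ : U) : G) = K.el p →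
        (g : G) * s * (g : G)⁻¹ = K.el (mulC 0 p 16) := fun p hp e => by
      rw [← K.el_mul p hp 16 (by omega), K.el_s, ← e, Subgroup.coe_mul, Subgroup.coe_mul, Subgroup.coe_mul,
        Subgroup.coe_inv, Subgroup.coe_inv]
      simp [s']
    have bad : ∀ p q, p < 192 → q < 192 → (g : G) * s * (g : G)⁻¹ = K.el p → mulC 0 5 p = q → col0 q = true → False := by
      intro p q hp hq e eq' hc
      have h' : (g : G) * (u * s) * (g : G)⁻¹ = K.el q := by
        rw [← conj_mul, hgu, e, K.el_mul 5 (by omega) p hp, eq']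
      refine c21 ((col 21 (by omega)).1 ?_)
      rw [← e21, ← K.el_mul 5 (by omega) 16 (by omega), K.el_s]
      exact (isConj_iff.2 ⟨(g : G), h'⟩).trans ((col q hq).2 hc)
    rcases (memV _).1 h with e | e | e | e
    · exact mul_inv_eq_iff_eq_mul.1 (congrArg Subtype.val (mul_inv_eq_one.1 e))
    · exfalso
      have e' := hmul 5 (by omega) (congrArg Subtype.val e)
      rw [e21] at e'
      rw [e'] at hcol
      exact c21 ((col 21 (by omega)).1 hcol)
    · exfalso
      have e' := hmul 113 (by omega) (congrArg Subtype.val e)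
      rw [e113s] at e'
      exact bad 97 100 (by omega) (by omega) e' e100 c100
    · exfalso
      have e' := hmul 116 (by omega) (congrArg Subtype.val e)
      rw [e116s] at e'
      exact bad 100 97 (by omega) (by omega) e' e97 c97
  have hdR' : ∀ d : DihedralGroup 4, inR (dRep (dLab d)) = true ∧ dRep (dLab d) < 192 := fun d => by
    refine ⟨(hdR _ (dLab_lt d)).1.1, ?_⟩
    have key : ∀ k < 8, dRep k < 192 := by decide +kernel
    exact key _ (dLab_lt d)
  have eqV_iff : ∀ x y (hx : inR x = true ∧ x < 192) (hy : inR y = true ∧ y < 192), eqV x y = true ↔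
      ρ (uE x hx) = ρ (uE y hy) := by
    intro x y hx hy
    have hmul : ∀ p (hp : inR p = true ∧ p < 192), x = mulC 0 p y ↔ uE x hx = uE p hp * uE y hy := fun p hp => by
      rw [Subtype.ext_iff, Subgroup.coe_mul]
      show _ ↔ K.el x = K.el p * K.el y
      rw [K.el_mul p hp.2 y hy.2]
      exact ⟨fun e => by rw [← e], K.el_inj x hx.2 _ (mulC_lt h4 hp.2 hy.2)⟩
    simp only [eqV, Bool.or_eq_true, Nat.beq_eq]
    rw [hmul 5 ⟨r5, by omega⟩, hmul 113 ⟨r113, by omega⟩, hmul 116 ⟨r116, by omega⟩]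
    constructor
    · rintro (e | e | e | e)
      · subst e; rfl
      · rw [e, map_mul, hρV _ ((memV _).2 (Or.inr (Or.inl rfl))), one_mul]
      · rw [e, map_mul, hρV _ ((memV _).2 (Or.inr (Or.inr (Or.inl rfl)))), one_mul]
      · rw [e, map_mul, hρV _ ((memV _).2 (Or.inr (Or.inr (Or.inr rfl)))), one_mul]
    · intro e
      rcases (memV _).1 (ρeq _ _ e) with r | r | r | r
      · exact Or.inl (K.el_inj x hx.2 y hy.2 (congrArg Subtype.val (mul_inv_eq_one.1 r)))
      · exact Or.inr (Or.inl (mul_inv_eq_iff_eq_mul.1 r))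
      · exact Or.inr (Or.inr (Or.inl (mul_inv_eq_iff_eq_mul.1 r)))
      · exact Or.inr (Or.inr (Or.inr (mul_inv_eq_iff_eq_mul.1 r)))
  let δ : DihedralGroup 4 → U ⧸ V := fun d => ρ (uE _ (hdR' d))
  have hδmul : ∀ a b, δ (a * b) = δ a * δ b := by
    intro a b
    have hab : inR (mulC 0 (dRep (dLab a)) (dRep (dLab b))) = true ∧
        mulC 0 (dRep (dLab a)) (dRep (dLab b)) < 192 :=
      ⟨((hRmul _ (hdR' a).2).resolve_left (fun r => r (hdR' a).1) _ (hdR' b).2).resolve_left fun r => r (hdR' b).1,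
        mulC_lt h4 (hdR' a).2 (hdR' b).2⟩
    have h := hdmul _ (dLab_lt a) _ (dLab_lt b)
    show ρ _ = ρ _ * ρ _
    rw [← map_mul, show uE _ (hdR' a) * uE _ (hdR' b) = uE _ hab from
      Subtype.ext (K.el_mul _ (hdR' a).2 _ (hdR' b).2), eq_comm]
    refine ((eqV_iff _ _ hab (hdR' (a * b))).1 ?_)
    rw [dLab_mul a b]; exact h
  let Δ : DihedralGroup 4 →* U ⧸ V := MonoidHom.mk' δ hδmul
  have hs2 : δ (DihedralGroup.r 2) = ρ s' := by
    show ρ _ = ρ _
    congr 1
    refine Subtype.ext ?_
    show K.el (dRep (dLab (DihedralGroup.r 2))) = s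
    have : dRep (dLab (DihedralGroup.r 2)) = 16 := by decide +kernel
    rw [this, K.el_s]
  have hΔrange : Δ.range = centralizer ({ρ s'} : Set (U ⧸ V)) := by
    refine le_antisymm ?_ fun q hq => ?_
    · rintro _ ⟨d, rfl⟩
      rw [mem_centralizer_singleton_iff]
      show ρ _ * ρ s' = ρ s' * ρ _
      rw [← map_mul, ← map_mul]
      congr 1
      exact Subtype.ext (K.mem _ (hdR' d).2)
    · obtain ⟨g, rfl⟩ := QuotientGroup.mk'_surjective V q
      obtain ⟨x, hx, hxR, hxe⟩ := codeR g g.2 (cent_s g (mem_centralizer_singleton_iff.1 hq))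
      rcases hdsurj x hx with r | r
      · exact absurd hxR r
      · obtain ⟨d, hd⟩ : ∃ k < 8, eqV x (dRep k) = true := by
          by_contra hc
          push Not at hc
          exact r fun k hk => hc k hk
        obtain ⟨dd, hdd⟩ := dLab_surj d hd.1
        refine ⟨dd, ?_⟩
        rw [show g = uE x ⟨hxR, hx⟩ from Subtype.ext hxe.symm]
        exact ((eqV_iff _ _ ⟨hxR, hx⟩ (hdR' dd)).1 (by rw [hdd]; exact hd.2)).symm
  have hΔinj : Function.Injective Δ := by
    intro a b e
    have h := (eqV_iff _ _ (hdR' a) (hdR' b)).2 e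
    have key : ∀ a < 8, ∀ b < 8, eqV (dRep a) (dRep b) = true → a = b := by decide +kernel
    exact dLab_inj (key _ (dLab_lt a) _ (dLab_lt b) h)
  let eD : centralizer ({ρ s'} : Set (U ⧸ V)) ≃* DihedralGroup 4 :=
    ((MonoidHom.ofInjective hΔinj).trans (MulEquiv.subgroupCongr hΔrange)).symm
  have hsord : orderOf (ρ s') = 2 := by
    refine orderOf_eq_prime (by rw [pow_two, ← map_mul, hs'2, map_one]) fun e => ?_
    rw [← hs2, ← map_one Δ] at e
    exact absurd (hΔinj e) (by decide)
  -- the odd core of the quotient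
  have hcore : Cfsg.oddCore (U ⧸ V) = ⊥ := by
    set M := Cfsg.oddCore (U ⧸ V)
    have hModd : Odd (Nat.card M) := CfsgLib.ZStar.odd_card_oddCore _
    have f : ∀ x (hx : inR x = true ∧ x < 192), col0 x = true → ∀ n ∈ M, Commute n (ρ (uE x hx)) → n = 1 := by
      intro x hx hc n hn hcm
      obtain ⟨g, rfl⟩ := QuotientGroup.mk'_surjective V n
      have hodn : Odd (orderOf (ρ g)) := hModd.of_dvd_nat (Subgroup.orderOf_dvd_natCard M hn)
      obtain ⟨a, m, hm, hgm⟩ := Nat.exists_eq_two_pow_mul_odd (orderOf_pos g).ne'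
      set g' := g ^ 2 ^ a with hg'
      have hg'o : orderOf g' = m := by
        rw [hg', orderOf_pow' _ (by positivity), hgm, Nat.gcd_mul_right_left,
          Nat.mul_div_cancel_left _ (by positivity)]
      have hcomm : Commute (ρ g') (ρ (uE x hx)) := by rw [hg', map_pow]; exact hcm.pow_left _
      have hvfix : ∀ z ∈ V, Commute g' z := by
        have hv2' : ∀ n : U, Commute (n * n) v := fun n => by
          rcases hnormal n with e | e
          · exact (show Commute n v from mul_inv_eq_iff_eq_mul.1 e).mul_left (show Commute n v from mul_inv_eq_iff_eq_mul.1 e)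
          · refine mul_inv_eq_iff_eq_mul.1 ?_
            calc n * n * v * (n * n)⁻¹ = n * (n * v * n⁻¹) * n⁻¹ := by group
              _ = n * (u' * v) * n⁻¹ := by rw [e, hv']
              _ = u' * (n * v * n⁻¹) := by
                rw [← conj_mul]
                congr 1
                rw [mem_center_iff.1 hu'c n, mul_inv_cancel_right]
              _ = v := by rw [e, hv', ← mul_assoc, hu'2, one_mul]
        have hgv : Commute g' v := by
          obtain ⟨j, hj⟩ := hm
          have h1 : g' = g' ^ (j + 1) * g' ^ (j + 1) := by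
            rw [← pow_add, show j + 1 + (j + 1) = m + 1 by omega, pow_succ, ← hg'o, pow_orderOf_eq_one, one_mul]
          rw [h1]; exact hv2' _
        have hgu : Commute g' u' := mem_center_iff.1 hu'c g'
        intro z hz
        rcases (memV z).1 hz with e | e | e | e <;> rw [e]
        · exact Commute.one_right _
        · exact hgu
        · exact hgv
        · rw [hv']; exact hgu.mul_right hgv
      have hfix : Commute g' (uE x hx) := by
        set c := uE x hx
        have hd : g' * c * g'⁻¹ * c⁻¹ ∈ V :=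
          ρeq _ _ (by rw [map_mul, map_mul, map_inv]; exact mul_inv_eq_iff_eq_mul.2 hcomm.eq)
        set z := g' * c * g'⁻¹ * c⁻¹ with hz
        have hgc : g' * c * g'⁻¹ = z * c := by rw [hz]; group
        have hgz := hvfix z hd
        have hpow : ∀ k : ℕ, g' ^ k * c * (g' ^ k)⁻¹ = z ^ k * c := by
          intro k
          induction k with
          | zero => simp
          | succ k ih =>
            rw [pow_succ' g', show g' * g' ^ k * c * (g' * g' ^ k)⁻¹ = g' * (g' ^ k * c * (g' ^ k)⁻¹) * g'⁻¹ by group,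
              ih, show g' * (z ^ k * c) * g'⁻¹ = (g' * z ^ k * g'⁻¹) * (g' * c * g'⁻¹) by group,
              (hgz.pow_right k).eq, mul_inv_cancel_right, hgc, pow_succ, ← mul_assoc]
        have hzm : z ^ m = 1 := by
          have := hpow m
          rw [← hg'o, pow_orderOf_eq_one, one_mul, inv_one, mul_one, right_eq_mul] at this
          rwa [← hg'o]
        have hz2 : z * z = 1 := by
          rcases (memV z).1 hd with e | e | e | e <;> rw [e]
          · exact one_mul 1
          · exact hu'2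
          · exact Subtype.ext (by
              show K.el 113 * K.el 113 = 1
              rw [K.el_mul 113 (by omega) 113 (by omega), show mulC 0 113 113 = 0 by decide +kernel, K.el_zero h4])
          · exact Subtype.ext (by
              show K.el 116 * K.el 116 = 1
              rw [K.el_mul 116 (by omega) 116 (by omega), show mulC 0 116 116 = 0 by decide +kernel, K.el_zero h4])
        have hz1 : z = 1 := CfsgLib.ZStar.eq_one_of_odd_of_sq (hm.of_dvd_nat (orderOf_dvd_of_pow_eq_one hzm))
          (by rw [pow_two, hz2])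
        rw [hz1, one_mul] at hgc
        exact mul_inv_eq_iff_eq_mul.1 hgc
      have hg'1 := fpf g' _ ((col x hx.2).2 hc) ((memU _).1 (uE x hx).2) (by rw [hg'o]; exact hm)
        (hfix.map U.subtype)
      have hpow : ρ g ^ 2 ^ a = 1 := by rw [← map_pow, ← hg', hg'1, map_one]
      obtain ⟨b, -, hb⟩ := (Nat.dvd_prime_pow Nat.prime_two).1 (orderOf_dvd_of_pow_eq_one hpow)
      rw [hb] at hodn
      rcases b with _ | b
      · rwa [pow_zero, orderOf_eq_one_iff] at hb
      · exact absurd hodn (Nat.not_odd_iff_even.2 (by simp [Nat.even_pow]))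
    have hρsq : ∀ c : U, c * c = 1 → ρ c * ρ c = 1 := fun c h => by rw [← map_mul, h, map_one]
    refine three M inferInstance (ρ c₁) (ρ s') (hρsq _ (sq' 1 (by omega) r1 c1)) (hρsq _ hs'2)
      (f 1 ⟨r1, by omega⟩ c1) ?_ (by rw [← map_mul, hprod]; exact f 17 ⟨r17, by omega⟩ c17)
    rw [show s' = uE 16 ⟨r16, by omega⟩ from Subtype.ext K.el_s.symm]
    exact f 16 ⟨r16, by omega⟩ ((col 16 (by omega)).1 (by rw [K.el_s]))
  have hV4 : Nat.card V = 4 := by
    have h := card_eq_countBelow K.el 192 inV (fun g => g = 1 ∨ g = u ∨ g = K.el 113 ∨ g = K.el 116)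
      (fun a ha b hb h => K.el_inj a ha b hb h) (fun j hj => by
        simp only [inV, Bool.or_eq_true, Nat.beq_eq, ← K.el_zero h4]
        refine or_congr ⟨fun e => by rw [e], fun e => K.el_inj j hj 0 (by omega) e⟩ (or_congr
          ⟨fun e => by rw [e], fun e => K.el_inj j hj 5 (by omega) e⟩ (or_congr
          ⟨fun e => by rw [e], fun e => K.el_inj j hj 113 (by omega) e⟩
          ⟨fun e => by rw [e], fun e => K.el_inj j hj 116 (by omega) e⟩)))
      (by
        rintro g (rfl | rfl | rfl | rfl)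
        exacts [⟨0, by omega, K.el_zero h4⟩, ⟨5, by omega, rfl⟩, ⟨113, by omega, rfl⟩, ⟨116, by omega, rfl⟩])
    have hc : countBelow 192 inV = 4 := by decide +kernel
    rw [hc] at h
    rw [← h]
    exact Nat.card_congr
      { toFun := fun z => ⟨z.1.1, z.2⟩
        invFun := fun z => ⟨⟨z.1, by
          rcases z.2 with e | e | e | e <;> rw [e]
          exacts [one_mem _, u'.2, v.2, v'.2]⟩, z.2⟩
        left_inv := fun z => rfl
        right_inv := fun z => rfl }
  have hcardU : Nat.card U = Nat.card (U ⧸ V) * 4 := by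
    rw [← hV4]; exact card_eq_card_quotient_mul_card_subgroup V
  have hC8 : Nat.card (centralizer ({ρ s'} : Set (U ⧸ V))) = 8 := by
    rw [Nat.card_congr eD.toEquiv, Nat.card_eq_fintype_card]; rfl
  have hmain := CfsgLib.LocalEvenB.DEight.main (ρ s') hsord ⟨eD⟩
  rw [hcore, sup_bot_eq] at hmain
  have hno : IsSimpleGroup (U ⧸ V) → (Nat.card (U ⧸ V) = 168 ∨ Nat.card (U ⧸ V) = 360) → False := by
    intro hsimple hcard
    let Q : Subgroup (DihedralGroup 4) :=
      { carrier := {d | dLab d % 2 = 0}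
        one_mem' := by decide
        mul_mem' := fun {a b} ha hb =>
          (by decide +kernel : ∀ a b : DihedralGroup 4, dLab a % 2 = 0 → dLab b % 2 = 0 → dLab (a * b) % 2 = 0)
            a b ha hb
        inv_mem' := fun {a} ha =>
          (by decide +kernel : ∀ a : DihedralGroup 4, dLab a % 2 = 0 → dLab a⁻¹ % 2 = 0) a ha }
    have hQi : Q.index = 2 := index_eq_two_iff.2 ⟨DihedralGroup.r 1, fun b =>
      (by decide +kernel : ∀ b : DihedralGroup 4,
        Xor (dLab (b * DihedralGroup.r 1) % 2 = 0) (dLab b % 2 = 0)) b⟩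
    have hr8 : Nat.card Δ.range = 2 ^ 3 := by rw [hΔrange, hC8]; rfl
    obtain ⟨S, hS⟩ := (IsPGroup.of_card hr8).exists_le_sylow
    have hSeq : (S : Subgroup (U ⧸ V)) = Δ.range := by
      obtain ⟨k, hk⟩ := IsPGroup.iff_card.1 S.2
      have hd := Subgroup.card_subgroup_dvd_card (S : Subgroup (U ⧸ V))
      rw [hk] at hd
      refine (eq_of_le_of_card_ge hS ?_).symm
      rw [hr8, hk]
      refine Nat.pow_le_pow_right (by omega) ?_
      by_contra hlt
      have h16 := (pow_dvd_pow 2 (show 4 ≤ k by omega)).trans hd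
      rcases hcard with e | e <;> rw [e] at h16 <;> norm_num at h16
    have hrel : (Q.map Δ).relIndex (S : Subgroup (U ⧸ V)) = 2 := by
      rw [hSeq, MonoidHom.range_eq_map, relIndex_map_map_of_injective Q ⊤ hΔinj, relIndex_top_right, hQi]
    have ht : orderOf (Δ (DihedralGroup.sr 1)) = 2 := by
      rw [orderOf_injective Δ hΔinj, DihedralGroup.orderOf_sr]
    rcases CfsgLib.Transfer.thompson_transfer S _ hrel ht with ⟨M, hMn, hMi, -⟩ | ⟨g, hg⟩
    · rcases hsimple.eq_bot_or_eq_top_of_normal M hMn with e | e <;> rw [e] at hMi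
      · rw [index_bot] at hMi; omega
      · rw [index_top] at hMi; omega
    · obtain ⟨d, hd, hde⟩ := hg
      have hde' : g⁻¹ * Δ d * g = Δ (DihedralGroup.sr 1) := by rw [hde]; group
      have hd' : dLab d = 2 ∨ dLab d = 4 ∨ dLab d = 6 := by
        have hd' : dLab d % 2 = 0 := hd
        have hlt := dLab_lt d
        by_contra hne
        have h0 : d = 1 := dLab_inj (by rw [show dLab 1 = 0 from rfl]; omega)
        rw [h0, map_one, mul_one, inv_mul_cancel, ← map_one Δ] at hde'
        exact absurd (hΔinj hde') (by decide)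
      have hcd : col0 (dRep (dLab d)) = true := by
        rcases hd' with e | e | e <;> rw [e]
        exacts [cd2, cd4, cd6]
      obtain ⟨g, rfl⟩ := QuotientGroup.mk'_surjective V g
      set y := g⁻¹ * uE _ (hdR' d) * g with hy
      have hy5 : ρ y = ρ (uE _ (hdR' (DihedralGroup.sr 1))) := by
        rw [hy, map_mul, map_mul, map_inv]; exact hde'
      have hys : Commute (y : G) s := by
        have hz := ρeq _ _ hy5
        have : (y : G) = ((y * (uE _ (hdR' (DihedralGroup.sr 1)))⁻¹ : U) : G) *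
            K.el (dRep (dLab (DihedralGroup.sr 1))) := by
          show (y : G) = (y : G) * (K.el _)⁻¹ * K.el _
          rw [inv_mul_cancel_right]
        rw [this]
        refine Commute.mul_left ?_ (K.mem _ (hdR' _).2)
        rcases (memV _).1 hz with e | e | e | e <;> rw [e]
        exacts [Commute.one_left _, K.mem 5 (by omega), K.mem 113 (by omega), K.mem 116 (by omega)]
      obtain ⟨p, hp, hpR, hpe⟩ := codeR y y.2 hys
      have hpcol : col0 p = true := by
        refine (col p hp).1 ?_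
        rw [hpe]
        refine (isConj_iff.2 ⟨(g : G), ?_⟩).trans ((col _ (hdR' d).2).2 hcd)
        show (g : G) * ((g : G)⁻¹ * K.el (dRep (dLab d)) * g) * (g : G)⁻¹ = _
        group
      have hpV : eqV p (dRep 5) = true := by
        refine (eqV_iff p _ ⟨hpR, hp⟩ (hdR' (DihedralGroup.sr 1))).2 ?_
        rw [show uE p ⟨hpR, hp⟩ = y from Subtype.ext hpe, hy5]
      rcases hd5 p hp with r | r
      · exact r hpV
      · exact r hpcol
  have hcases : ((∀ x : U, Commute (x : G) s) ∧ Nat.card U = 32) ∨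
      (Nonempty (U ⧸ V ≃* Equiv.Perm (Fin 4)) ∧ Nat.card U = 96) ∨
      (Nonempty (U ⧸ V ≃* Equiv.Perm (Fin 5)) ∧ Nat.card U = 480) := by
    rw [hcardU]
    rcases hmain with h | ⟨⟨e⟩⟩ | ⟨⟨e⟩⟩ | ⟨⟨e⟩⟩ | ⟨⟨e⟩⟩
    · refine Or.inl ⟨fun x => cent_s x (mem_centralizer_singleton_iff.1 (h ▸ mem_top (ρ x))), ?_⟩
      rw [← Subgroup.card_top, ← h, hC8]
    · refine Or.inr (Or.inl ⟨⟨e⟩, ?_⟩)
      rw [Nat.card_congr e.toEquiv, Nat.card_perm, Nat.card_fin]; rfl
    · refine Or.inr (Or.inr ⟨⟨e⟩, ?_⟩)
      rw [Nat.card_congr e.toEquiv, Nat.card_perm, Nat.card_fin]; rfl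
    · obtain ⟨hs', hc'⟩ := CfsgLib.Recog.TwoSFour.seven_simple e
      exact (hno hs' (Or.inl hc')).elim
    · haveI : IsSimpleGroup (alternatingGroup (Fin 6)) := alternatingGroup.isSimpleGroup (by simp)
      haveI : Nontrivial (U ⧸ V) := e.toEquiv.nontrivial
      refine (hno (IsSimpleGroup.isSimpleGroup_of_surjective e.symm.toMonoidHom e.symm.surjective)
        (Or.inr ?_)).elim
      rw [Nat.card_congr e.toEquiv, nat_card_alternatingGroup, Nat.card_fin]
      rfl
  refine ⟨fun g hg => ?_, hodd, ?_, fun h32 g hg => ?_, V, hVn, fun x => Iff.rfl, ?_⟩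
  · rcases hnormal ⟨g, (memU g).2 hg⟩ with e | e
    · exact Or.inl (congrArg Subtype.val e)
    · exact Or.inr (congrArg Subtype.val e)
  · rcases hcases with h | h | h
    exacts [Or.inl h.2, Or.inr (Or.inl h.2), Or.inr (Or.inr h.2)]
  · rcases hcases with h | h | h
    · exact mem_centralizer_singleton_iff.2 (h.1 ⟨g, hg⟩).eq
    all_goals exact absurd (h.2.symm.trans h32) (by omega)
  · rcases hcases with h | h | h
    exacts [Or.inl h.1, Or.inr (Or.inl h.1), Or.inr (Or.inr h.1)]

end PairPattern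

end CfsgLib.Recog.ExtraThirtyTwo
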