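import Cfsg.Agent.Lib.Recog.ExtraThirtyTwo.ColourCheck

set_option autoImplicit false

/-!
Checks on the centraliser of the uncoloured involution `x1 y1` in `C(s)` (owner: helper22).
-/

namespace CfsgLib.Recog.ExtraThirtyTwo

open CfsgLib.Recog.Held (countBelow allBelow)

/-- The codes commuting with `x1 y1`. -/
noncomputable def inR (x : ℕ) : Bool := Nat.beq (mulC 0 x 5) (mulC 0 5 x)

/-- The standard colours. -/
noncomputable def col0 (x : ℕ) : Bool := colOn 11 (cls 0 x)

/-- The codes `1, x1 y1, v, x1 y1 v` with `v = el 113`. -/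
noncomputable def inV (x : ℕ) : Bool := Nat.beq x 0 || (Nat.beq x 5 || (Nat.beq x 113 || Nat.beq x 116))

/-- A code in each coset of `V` in `R`, listed as the elements `r^k` and `sr k`. -/
noncomputable def dRep (k : ℕ) : ℕ := fld 8 0x1a110a011b100b00 k

/-- The product of the dihedral group on those labels. -/
noncomputable def dMul (a b : ℕ) : ℕ :=
  cond (Nat.blt a 4) (cond (Nat.blt b 4) ((a + b) % 4) (4 + (b + 4 - a) % 4))
    (cond (Nat.blt b 4) (4 + (a + b) % 4) ((b + 4 - a) % 4))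

/-- Codes equal modulo `V`. -/
noncomputable def eqV (x y : ℕ) : Bool :=
  Nat.beq x y || (Nat.beq x (mulC 0 5 y) || (Nat.beq x (mulC 0 113 y) || Nat.beq x (mulC 0 116 y)))

/-- The facts about `R`. -/
noncomputable def diagR : Bool :=
  Nat.beq (countBelow 192 inR) 32 &&
  (allBelow 192 (fun x => !(inR x) || allBelow 192 fun y => !(inR y) || inR (mulC 0 x y)) &&
  (allBelow 192 (fun x => !(inR x && col0 x) || (Nat.beq (mulC 0 x 113) (mulC 0 113 x) &&
    (Nat.beq x 16 || !(allBelow 192 fun y => !(inR y) || Nat.beq (mulC 0 x y) (mulC 0 y x))))) &&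
  (allBelow 192 (fun x => !(inR x) || (Nat.beq (mulC 0 x 113) (mulC 0 113 x) || Nat.beq (mulC 0 x 113) (mulC 0 116 x))) &&
  allBelow 192 (fun x => !(inR x && (!(Nat.beq x 0) && (!(Nat.beq x 5) && (Nat.beq (mulC 0 x x) 0 &&
      (!(col0 x) && !(col0 (mulC 0 5 x))))))) || (Nat.beq x 113 || (Nat.beq x 116 ||
    (!(Nat.beq (mulC 0 97 x) (mulC 0 x 97)) &&
      (Nat.beq (mulC 0 97 x) (mulC 0 x 97) || Nat.beq (mulC 0 97 x) (mulC 0 (mulC 0 5 x) 97))))))))) 

/-- Elements of order three commute with no involution but `s`. -/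
noncomputable def threeFree : Bool :=
  allBelow 192 fun x => !(!(Nat.beq x 0) && Nat.beq (mulC 0 (mulC 0 x x) x) 0) ||
    allBelow 192 fun y => !(!(Nat.beq y 0) && Nat.beq (mulC 0 y y) 0) ||
      (Nat.beq y 16 || !(Nat.beq (mulC 0 x y) (mulC 0 y x)))

/-- The cosets of `V`. -/
noncomputable def diagV : Bool :=
  inR 5 && inR 113 && inR 16 && (inR 1 && inR 97) &&
  (col0 1 && col0 17 && col0 97 && (col0 100 && (!(col0 5) && (!(col0 113) && !(col0 116))))) &&
  (Nat.beq (mulC 0 1 16) 17 && Nat.beq (mulC 0 5 113) 116 && (Nat.beq (mulC 0 5 100) 97 && !(col0 21))) &&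
  (Nat.beq (mulC 0 5 5) 0 && Nat.beq (mulC 0 5 16) 21 && (Nat.beq (mulC 0 5 97) 100 &&
    Nat.beq (mulC 0 113 16) 97 && Nat.beq (mulC 0 116 16) 100)) &&
  (allBelow 8 (fun a => allBelow 8 fun b => eqV (mulC 0 (dRep a) (dRep b)) (dRep (dMul a b))) &&
  (allBelow 192 (fun x => !(inR x) || !(allBelow 8 fun k => !(eqV x (dRep k)))) &&
  (allBelow 8 (fun k => inR (dRep k) && inR (mulC 0 5 (dRep k)) && inR (mulC 0 113 (dRep k))) &&
  (allBelow 192 (fun x => !(eqV x (dRep 5)) || !(col0 x)) &&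
    (col0 (dRep 2) && (col0 (dRep 4) && col0 (dRep 6)))))))

set_option maxRecDepth 100000

theorem diagR_ok : diagR = true := by decide +kernel
theorem threeFree_ok : threeFree = true := by decide +kernel
theorem diagV_ok : diagV = true := by decide +kernel

end CfsgLib.Recog.ExtraThirtyTwo
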