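import Cfsg.Agent.Lib.Recog.ExtraThirtyTwo.LetterCheck
import Cfsg.Agent.Lib.Recog.ExtraThirtyTwo.Simple

set_option autoImplicit false
set_option linter.style.haveILetI false

/-!
The normalisers of the two pure subgroups of order eight through `s` (owner: helper22).

A conjugate of such a subgroup through `s` is one of the two; were none of the seven elements moved to `s` inside the
normaliser, that would be `C(s)` and its conjugate would centralise a second element.
-/

namespace CfsgLib.Recog.ExtraThirtyTwo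

open Subgroup
open CfsgLib.Recog.Held (countBelow allBelow allBelow_spec card_eq_countBelow)

variable {G : Type*} [Group G] {s : G}

/-- What the checks say about a side. -/
structure SideData (k : ℕ) : Prop where
  lt : ∀ v < 8, pointC k v < 192
  mul : ∀ v < 8, ∀ w < 8, mulC 0 (pointC k v) (pointC k w) = pointC k (Nat.xor v w)
  inj : ∀ v < 8, ∀ w < 8, pointC k v = pointC k w → v = w
  lin : ∀ j < 4, ∀ v < 8, linL k j v < 8 ∧ mulC 0 (letC j) (pointC k v) = mulC 0 (pointC k (linL k j v)) (letC j)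
  zero : pointC k 0 = 0
  four : pointC k 4 = 16
  one : pointC k 1 = letC k
  col : ∀ v < 8, v ≠ 0 → colC (pointC k v) = true ∧ (v ≠ 4 → cls 0 (pointC k v) = cls 0 (pointC k 1))
  cent : ∀ x < 192, (∀ v < 8, mulC 0 x (pointC k v) = mulC 0 (pointC k v) x) → ∃ v < 8, pointC k v = x
  meet : ∀ v < 8, ∀ w < 8, pointC k v = pointC (1 - k) w → pointC k v = 0 ∨ pointC k v = 16
  comp_lt : ∀ i < 8, compC i < 192
  comp_meet : ∀ i < 8, ∀ v < 8, pointC k v = compC i → compC i = 0
  comp_mul : ∀ i < 8, ∀ j < 8, inComp (mulC 0 (compC i) (compC j)) = true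
  comp_card : inComp 0 = true ∧ countBelow 192 inComp = 8

theorem inPts_iff {k x : ℕ} : inPts k x = true ↔ ∃ v < 8, pointC k v = x := by
  simp only [inPts, Bool.not_eq_true', Bool.eq_false_iff, ne_eq, allBelow_spec, Nat.beq_eq]
  push Not
  exact Iff.rfl

theorem inComp_iff {x : ℕ} : inComp x = true ↔ ∃ i < 8, compC i = x := by
  simp only [inComp, Bool.not_eq_true', Bool.eq_false_iff, ne_eq, allBelow_spec, Nat.beq_eq]
  push Not
  exact Iff.rfl

theorem sideData {k : ℕ} (hk : k < 2) : SideData k := by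
  have hp : sidePoints k = true := by
    obtain rfl | rfl : k = 0 ∨ k = 1 := by omega
    exacts [sidePoints_ok.1, sidePoints_ok.2]
  have he : eightFacts k = true := by
    obtain rfl | rfl : k = 0 ∨ k = 1 := by omega
    exacts [eightFacts_ok.1, eightFacts_ok.2]
  simp only [sidePoints, Bool.and_eq_true, Bool.or_eq_true, Bool.not_eq_true', Bool.eq_false_iff, ne_eq,
    allBelow_spec, Nat.beq_eq, Nat.blt_eq] at hp
  obtain ⟨hpt, hlin, h0, h4, h1⟩ := hp
  simp only [eightFacts, com0, Bool.and_eq_true, Bool.or_eq_true, Bool.not_eq_true', Bool.eq_false_iff, ne_eq,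
    allBelow_spec, Nat.beq_eq, Nat.blt_eq, inPts_iff] at he
  obtain ⟨hcol, hcent, -, hmeet, hcomp, h0c, hcc⟩ := he
  refine ⟨fun v hv => (hpt v hv).1, fun v hv w hw => ((hpt v hv).2 w hw).1, fun v hv w hw e => ?_, hlin, h0, h4, h1,
    fun v hv hv0 => ?_, fun x hx h => ?_, fun v hv w hw e => ?_, fun i hi => (hcomp i hi).1.1,
    fun i hi v hv e => ?_, fun i hi j hj => (hcomp i hi).2 j hj, h0c, hcc⟩
  · exact ((hpt v hv).2 w hw).2.resolve_right fun r => r e
  · exact ⟨((hcol v hv).resolve_left hv0).1, fun hv4 => ((hcol v hv).resolve_left hv0).2.resolve_left hv4⟩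
  · exact (hcent x hx).resolve_left fun r => r h
  · refine (hmeet (pointC k v) ((hpt v hv).1)).resolve_left fun r => r ⟨⟨v, hv, rfl⟩, ⟨w, hw, e.symm⟩⟩
  · exact (hcomp i hi).1.2.resolve_left fun r => r ⟨v, hv, e⟩

theorem cent_letters {x : ℕ} (hx : x < 192) (h : ∀ j < 4, mulC 0 x (letC j) = mulC 0 (letC j) x) :
    x = 0 ∨ x = 16 := by
  have he := eightFacts_ok.1
  simp only [eightFacts, com0, Bool.and_eq_true, Bool.or_eq_true, Bool.not_eq_true', Bool.eq_false_iff, ne_eq,
    allBelow_spec, Nat.beq_eq] at he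
  exact (he.2.2.1 x hx).resolve_left fun r => r h

theorem letC_lt : ∀ j < 4, letC j < 192 := by
  have h := letTree_ok
  simp only [letTree, Bool.and_eq_true, allBelow_spec, Nat.blt_eq] at h
  exact h.1

namespace Coord

variable (K : Coord s 0)

/-- The subgroup of points of a side. -/
def eight (k : ℕ) : Subgroup G := closure {g | ∃ v < 8, K.el (pointC k v) = g}

include K in
/-- Everything commuting with `s` is a product of the letters. -/
theorem cent_le_closure : centralizer ({s} : Set G) ≤ closure {g | ∃ j < 4, K.el (letC j) = g} := by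
  intro g hg
  obtain ⟨x, hx, rfl⟩ := K.surj g (mem_centralizer_singleton_iff.1 hg)
  have h := letTree_ok
  simp only [letTree, Bool.and_eq_true, Bool.or_eq_true, allBelow_spec, Nat.blt_eq, Nat.beq_eq] at h
  obtain ⟨-, htree, -⟩ := h
  suffices ∀ d, ∀ x < 192, fld 16 treeData x / 1024 ≤ d →
      K.el x ∈ closure {g | ∃ j < 4, K.el (letC j) = g} from this _ x hx le_rfl
  intro d
  induction d with
  | zero =>
    intro x hx hd
    rcases htree x hx with r | ⟨-, h2, -⟩
    · rw [r, K.el_zero (by omega)]; exact one_mem _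
    · omega
  | succ d ih =>
    intro x hx hd
    rcases htree x hx with r | ⟨-, h2, h3, h4, h5⟩
    · rw [r, K.el_zero (by omega)]; exact one_mem _
    · rw [← h5, ← K.el_mul _ h3 _ (letC_lt _ h4)]
      exact mul_mem (ih _ h3 (by omega)) (subset_closure ⟨_, h4, rfl⟩)

theorem mem_eight {k : ℕ} (hk : k < 2) {g : G} : g ∈ K.eight k ↔ ∃ v < 8, K.el (pointC k v) = g := by
  have D := sideData hk
  refine ⟨fun hg => ?_, fun h => subset_closure h⟩
  have h1 : K.el (pointC k 0) = 1 := by rw [D.zero, K.el_zero (by omega)]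
  have hmul : ∀ v < 8, ∀ w < 8, K.el (pointC k v) * K.el (pointC k w) = K.el (pointC k (Nat.xor v w)) :=
    fun v hv w hw => by rw [K.el_mul _ (D.lt v hv) _ (D.lt w hw), D.mul v hv w hw]
  induction hg using closure_induction with
  | mem x hx => exact hx
  | one => exact ⟨0, by omega, h1⟩
  | mul x y _ _ hx hy =>
    obtain ⟨v, hv, rfl⟩ := hx
    obtain ⟨w, hw, rfl⟩ := hy
    exact ⟨_, Nat.xor_lt_two_pow (n := 3) hv hw, (hmul v hv w hw).symm⟩
  | inv x _ hx =>
    obtain ⟨v, hv, rfl⟩ := hx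
    refine ⟨v, hv, (inv_eq_of_mul_eq_one_right ?_).symm⟩
    rw [hmul v hv v hv, show Nat.xor v v = 0 from Nat.xor_self v, h1]

theorem el_mem_eight {k : ℕ} (hk : k < 2) {v : ℕ} (hv : v < 8) : K.el (pointC k v) ∈ K.eight k :=
  (K.mem_eight hk).2 ⟨v, hv, rfl⟩

theorem card_eight {k : ℕ} (hk : k < 2) : Nat.card (K.eight k) = 8 := by
  have D := sideData hk
  refine (Nat.card_congr (Equiv.ofBijective
    (fun v : Fin 8 => (⟨K.el (pointC k v), K.el_mem_eight hk v.2⟩ : K.eight k)) ⟨?_, ?_⟩)).symm.trans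
    (Nat.card_fin 8)
  · intro v w e
    exact Fin.ext (D.inj v v.2 w w.2 (K.el_inj _ (D.lt v v.2) _ (D.lt w w.2) (congrArg Subtype.val e)))
  · rintro ⟨g, hg⟩
    obtain ⟨v, hv, e⟩ := (K.mem_eight hk).1 hg
    exact ⟨⟨v, hv⟩, Subtype.ext e⟩

theorem eight_commute {k : ℕ} (hk : k < 2) {a b : G} (ha : a ∈ K.eight k) (hb : b ∈ K.eight k) : Commute a b := by
  have D := sideData hk
  obtain ⟨v, hv, rfl⟩ := (K.mem_eight hk).1 ha
  obtain ⟨w, hw, rfl⟩ := (K.mem_eight hk).1 hb
  refine (K.comm_iff (by omega) (D.lt v hv) (D.lt w hw)).2 ?_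
  rw [D.mul v hv w hw, D.mul w hw v hv, show Nat.xor v w = Nat.xor w v from Nat.xor_comm v w]

theorem s_mem_eight {k : ℕ} (hk : k < 2) : s ∈ K.eight k :=
  (K.mem_eight hk).2 ⟨4, by omega, by rw [(sideData hk).four, K.el_s]⟩

theorem centralizer_eight {k : ℕ} (hk : k < 2) : centralizer (K.eight k : Set G) = K.eight k := by
  have D := sideData hk
  refine le_antisymm (fun g hg => ?_) fun a ha => mem_centralizer_iff.2 fun b hb => (K.eight_commute hk hb ha).eq
  obtain ⟨x, hx, rfl⟩ := K.surj g (mem_centralizer_iff.1 hg s (K.s_mem_eight hk)).symm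
  obtain ⟨v, hv, rfl⟩ := D.cent x hx fun v hv =>
    (K.comm_iff (by omega) hx (D.lt v hv)).1 (mem_centralizer_iff.1 hg _ (K.el_mem_eight hk hv)).symm
  exact K.el_mem_eight hk hv

variable [Finite G]

theorem mem_normalizer_eight {k : ℕ} (hk : k < 2) {n : G}
    (h : ∀ v < 8, n * K.el (pointC k v) * n⁻¹ ∈ K.eight k) : n ∈ normalizer (K.eight k : Set G) := by
  have hle : (K.eight k).map (MulAut.conj n).toMonoidHom ≤ K.eight k := by
    rintro _ ⟨g, hg, rfl⟩
    obtain ⟨v, hv, rfl⟩ := (K.mem_eight hk).1 hg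
    exact h v hv
  have heq := eq_of_le_of_card_ge hle (by rw [card_map_of_injective (MulAut.conj n).injective])
  refine mem_normalizer_iff.2 fun g => ⟨fun hg => hle ⟨g, hg, rfl⟩, fun hg => ?_⟩
  have hg' : n * g * n⁻¹ ∈ (K.eight k).map (MulAut.conj n).toMonoidHom := heq.symm ▸ hg
  obtain ⟨g', hg', e⟩ := hg'
  have e' : n * g' * n⁻¹ = n * g * n⁻¹ := e
  rw [mul_right_cancel_iff, mul_left_cancel_iff] at e'
  rw [← e']
  exact hg'

theorem cent_le_normalizer {k : ℕ} (hk : k < 2) :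
    centralizer ({s} : Set G) ≤ normalizer (K.eight k : Set G) := by
  have D := sideData hk
  refine (K.cent_le_closure).trans ((closure_le _).2 ?_)
  rintro _ ⟨j, hj, rfl⟩
  refine K.mem_normalizer_eight hk fun v hv => ?_
  refine (K.mem_eight hk).2 ⟨_, (D.lin j hj v hv).1, ?_⟩
  rw [eq_mul_inv_iff_mul_eq, K.el_mul _ (D.lt _ (D.lin j hj v hv).1) _ (letC_lt j hj),
    K.el_mul _ (letC_lt j hj) _ (D.lt v hv), (D.lin j hj v hv).2]

/-- Every element but one is moved to `s` inside the normaliser. -/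
theorem exists_move (hm : K.mask = 11) {k : ℕ} (hk : k < 2) {v : ℕ} (hv : v < 8) (hv0 : v ≠ 0) :
    ∃ n ∈ normalizer (K.eight k : Set G), n * K.el (pointC k v) * n⁻¹ = s := by
  have D := sideData hk
  set N := normalizer (K.eight k : Set G)
  have h4 : (0 : ℕ) < 4 := by omega
  have col : ∀ x < 192, (IsConj (K.el x) s ↔ colC x = true) := fun x hx => by
    rw [K.mask_spec h4 hx, hm, colC]
  by_cases hv4 : v = 4
  · exact ⟨1, one_mem _, by rw [hv4, D.four, K.el_s, one_mul, inv_one, mul_one]⟩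
  by_contra hnone
  push Not at hnone
  -- no element beside `s` moves
  have hfix : ∀ w < 8, w ≠ 0 → w ≠ 4 → ∀ n ∈ N, n * K.el (pointC k w) * n⁻¹ ≠ s := by
    intro w hw hw0 hw4 n hn e
    have hc := (D.col v hv hv0).2 hv4
    have hc' := (D.col w hw hw0).2 hw4
    have hcls : ∀ u < 8, u ≠ 0 → cls 0 (pointC k u) ≠ 0 := fun u hu hu0 => (K.sq_iff h4 (D.lt u hu)).1
      ⟨fun h1 => hu0 (D.inj u hu 0 (by omega) (K.el_inj _ (D.lt u hu) _ (D.lt 0 (by omega))
        (by rw [h1, D.zero, K.el_zero h4]))), by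
        rw [K.el_mul _ (D.lt u hu) _ (D.lt u hu), D.mul u hu u hu, show Nat.xor u u = 0 from Nat.xor_self u,
          D.zero, K.el_zero h4]⟩
    obtain ⟨a, ha, ha'⟩ := K.class_conj h4 (D.lt v hv) (hcls v hv hv0)
    obtain ⟨b, hb, hb'⟩ := K.class_conj h4 (D.lt w hw) (hcls w hw hw0)
    rw [hc] at ha'
    rw [hc'] at hb'
    refine hnone (n * b⁻¹ * a) (mul_mem (mul_mem hn (inv_mem (K.cent_le_normalizer hk
      (mem_centralizer_singleton_iff.2 hb)))) (K.cent_le_normalizer hk (mem_centralizer_singleton_iff.2 ha))) ?_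
    refine Eq.trans ?_ e
    calc n * b⁻¹ * a * K.el (pointC k v) * (n * b⁻¹ * a)⁻¹
        = n * b⁻¹ * (a * K.el (pointC k v) * a⁻¹) * b * n⁻¹ := by group
      _ = n * b⁻¹ * (b * K.el (pointC k w) * b⁻¹) * b * n⁻¹ := by rw [ha', hb']
      _ = n * K.el (pointC k w) * n⁻¹ := by group
  have hNle : N ≤ centralizer ({s} : Set G) := by
    intro n hn
    obtain ⟨w, hw, hwe⟩ := (K.mem_eight hk).1 ((mem_normalizer_iff.1 hn s).1 (K.s_mem_eight hk))
    rw [mem_centralizer_singleton_iff]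
    rcases eq_or_ne w 4 with rfl | hw4
    · rw [D.four, K.el_s] at hwe
      exact mul_inv_eq_iff_eq_mul.1 hwe.symm
    · exfalso
      refine hfix w hw (fun h0 => ?_) hw4 n⁻¹ (inv_mem hn) (by rw [hwe]; group)
      rw [h0, D.zero, K.el_zero h4, eq_comm, mul_inv_eq_one, mul_eq_left] at hwe
      exact K.s_ne_one h4 hwe
  -- send `x = el (pointC k v)` to `s`
  obtain ⟨g, hg⟩ := isConj_iff.1 ((col _ (D.lt v hv)).2 (D.col v hv hv0).1)
  have himg : ∀ u < 8, u ≠ 0 → ∃ x < 192, colC x = true ∧ K.el x = g * K.el (pointC k u) * g⁻¹ := by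
    intro u hu hu0
    obtain ⟨x, hx, hxe⟩ := K.surj (g * K.el (pointC k u) * g⁻¹) (by
      have h := (K.eight_commute hk (K.el_mem_eight hk hu) (K.el_mem_eight hk hv)).map (MulAut.conj g).toMonoidHom
      have h' : Commute (g * K.el (pointC k u) * g⁻¹) (g * K.el (pointC k v) * g⁻¹) := h
      rw [hg] at h'
      exact h'.eq)
    refine ⟨x, hx, (col x hx).1 ?_, hxe⟩
    rw [hxe]
    exact (isConj_iff.2 ⟨g, rfl⟩ : IsConj (K.el (pointC k u)) _).symm.trans
      ((col _ (D.lt u hu)).2 (D.col u hu hu0).1)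
  -- the image is one of the two subgroups
  have hwhich : ∃ k' < 2, ∀ u < 8, g * K.el (pointC k u) * g⁻¹ ∈ K.eight k' := by
    have hp := pureEights_ok
    simp only [pureEights, com0, Bool.and_eq_true, Bool.or_eq_true, Bool.not_eq_true', Bool.eq_false_iff, ne_eq,
      allBelow_spec, Nat.beq_eq, inPts_iff] at hp
    obtain ⟨p, q, hp8, hq8, hp0, hq0, hpv, hqv, hqp, hqpv, hspan⟩ : ∃ p q, p < 8 ∧ q < 8 ∧ p ≠ 0 ∧ q ≠ 0 ∧
        p ≠ v ∧ q ≠ v ∧ q ≠ p ∧ q ≠ Nat.xor p v ∧
        ∀ u < 8, u = 0 ∨ u = p ∨ u = q ∨ u = v ∨ u = Nat.xor p v ∨ u = Nat.xor q v ∨ u = Nat.xor p q ∨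
          u = Nat.xor (Nat.xor p q) v := by
      have key : ∀ v : Fin 8, v.val ≠ 0 → ∃ p q : Fin 8, p.val ≠ 0 ∧ q.val ≠ 0 ∧
          p.val ≠ v.val ∧ q.val ≠ v.val ∧ q.val ≠ p.val ∧ q.val ≠ Nat.xor p.val v.val ∧
          ∀ u : Fin 8, u.val = 0 ∨ u.val = p.val ∨ u.val = q.val ∨ u.val = v.val ∨ u.val = Nat.xor p.val v.val ∨
            u.val = Nat.xor q.val v.val ∨ u.val = Nat.xor p.val q.val ∨
            u.val = Nat.xor (Nat.xor p.val q.val) v.val := by decide +kernel
      obtain ⟨p, q, h1, h2, h3, h4', h5, h6, h7⟩ := key ⟨v, hv⟩ hv0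
      exact ⟨p, q, p.2, q.2, h1, h2, h3, h4', h5, h6, fun u hu => h7 ⟨u, hu⟩⟩
    have hne : ∀ u w, u < 8 → w < 8 → u ≠ w → ∀ x y, x < 192 → y < 192 → K.el x = g * K.el (pointC k u) * g⁻¹ →
        K.el y = g * K.el (pointC k w) * g⁻¹ → x ≠ y := fun u w hu hw huw x y hx hy ex ey e => huw
      (D.inj u hu w hw (K.el_inj _ (D.lt u hu) _ (D.lt w hw) (by
        rw [e, ey, mul_right_cancel_iff, mul_left_cancel_iff] at ex; exact ex.symm)))
    have hxor : ∀ a b, a < 8 → b < 8 → Nat.xor a b < 8 := fun a b ha hb => Nat.xor_lt_two_pow (n := 3) ha hb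
    have hmulc : ∀ u w x y, u < 8 → w < 8 → x < 192 → y < 192 → K.el x = g * K.el (pointC k u) * g⁻¹ →
        K.el y = g * K.el (pointC k w) * g⁻¹ → K.el (mulC 0 x y) = g * K.el (pointC k (Nat.xor u w)) * g⁻¹ := by
      intro u w x y hu hw hx hy ex ey
      rw [← K.el_mul x hx y hy, ex, ey, conj_mul, K.el_mul _ (D.lt u hu) _ (D.lt w hw), D.mul u hu w hw]
    have h16 : K.el 16 = g * K.el (pointC k v) * g⁻¹ := by rw [K.el_s, hg]
    have hcolc : ∀ u x, u < 8 → u ≠ 0 → x < 192 → K.el x = g * K.el (pointC k u) * g⁻¹ → colC x = true := by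
      intro u x hu hu0 hx ex
      obtain ⟨x', hx', hc, ex'⟩ := himg u hu hu0
      rwa [K.el_inj x hx x' hx' (ex.trans ex'.symm)]
    obtain ⟨x, hx, hxc, ex⟩ := himg p hp8 hp0
    obtain ⟨y, hy, hyc, ey⟩ := himg q hq8 hq0
    have hzero : ∀ a b, a < 8 → b < 8 → a ≠ b → Nat.xor a b ≠ 0 := fun a b ha hb hab =>
      (by decide +kernel : ∀ a b : Fin 8, a.val ≠ b.val → Nat.xor a.val b.val ≠ 0) ⟨a, ha⟩ ⟨b, hb⟩ hab
    have hxy0 : Nat.xor p q ≠ 0 := hzero p q hp8 hq8 hqp.symm
    have hxyv : Nat.xor (Nat.xor p q) v ≠ 0 := hzero _ _ (hxor p q hp8 hq8) hv fun e => hqpv (by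
      rw [← e, show Nat.xor p (Nat.xor p q) = q by
        show p ^^^ (p ^^^ q) = q; rw [← Nat.xor_assoc, Nat.xor_self, Nat.zero_xor]])
    rcases hp x hx with r | r
    · exact absurd ⟨hxc, hne p v hp8 hv hpv x 16 hx (by omega) ex h16⟩ r
    rcases r y hy with r | r
    · refine absurd ⟨hyc, hne q v hq8 hv hqv y 16 hy (by omega) ey h16, hne q p hq8 hp8 hqp y x hy hx ey ex,
        hne q _ hq8 (hxor p v hp8 hv) hqpv y _ hy (mulC_lt h4 hx (by omega)) ey (hmulc p v x 16 hp8 hv hx (by omega) ex h16),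
        (K.comm_iff h4 hx hy).1 ?_, ?_, ?_, ?_, ?_⟩ r
      · rw [ex, ey]
        exact (K.eight_commute hk (K.el_mem_eight hk hp8) (K.el_mem_eight hk hq8)).map (MulAut.conj g).toMonoidHom
      · exact hcolc _ _ (hxor p v hp8 hv) (hzero p v hp8 hv hpv) (mulC_lt h4 hx (by omega))
          (hmulc p v x 16 hp8 hv hx (by omega) ex h16)
      · exact hcolc _ _ (hxor q v hq8 hv) (hzero q v hq8 hv hqv) (mulC_lt h4 hy (by omega))
          (hmulc q v y 16 hq8 hv hy (by omega) ey h16)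
      · exact hcolc _ _ (hxor p q hp8 hq8) hxy0 (mulC_lt h4 hx hy) (hmulc p q x y hp8 hq8 hx hy ex ey)
      · exact hcolc _ _ (hxor _ v (hxor p q hp8 hq8) hv) hxyv (mulC_lt h4 (mulC_lt h4 hx hy) (by omega))
          (hmulc _ v _ 16 (hxor p q hp8 hq8) hv (mulC_lt h4 hx hy) (by omega) (hmulc p q x y hp8 hq8 hx hy ex ey) h16)
    have build : ∀ k' < 2, K.el x ∈ K.eight k' → K.el y ∈ K.eight k' →
        ∀ u < 8, g * K.el (pointC k u) * g⁻¹ ∈ K.eight k' := by
      intro k' hk' hxm hym u hu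
      have hsm : g * K.el (pointC k v) * g⁻¹ ∈ K.eight k' := by rw [hg]; exact K.s_mem_eight hk'
      rw [ex] at hxm
      rw [ey] at hym
      have hm2 : ∀ a b, a < 8 → b < 8 → g * K.el (pointC k a) * g⁻¹ ∈ K.eight k' →
          g * K.el (pointC k b) * g⁻¹ ∈ K.eight k' → g * K.el (pointC k (Nat.xor a b)) * g⁻¹ ∈ K.eight k' := by
        intro a b ha hb hA hB
        rw [← D.mul a ha b hb, ← K.el_mul _ (D.lt a ha) _ (D.lt b hb), ← conj_mul]
        exact mul_mem hA hB
      rcases hspan u hu with e | e | e | e | e | e | e | e <;> rw [e]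
      · rw [D.zero, K.el_zero h4, mul_one, mul_inv_cancel]; exact one_mem _
      · exact hxm
      · exact hym
      · exact hsm
      · exact hm2 p v hp8 hv hxm hsm
      · exact hm2 q v hq8 hv hym hsm
      · exact hm2 p q hp8 hq8 hxm hym
      · exact hm2 _ v (hxor p q hp8 hq8) hv (hm2 p q hp8 hq8 hxm hym) hsm
    rcases r with ⟨⟨a, ha, hax⟩, b, hb, hby⟩ | ⟨⟨a, ha, hax⟩, b, hb, hby⟩
    · exact ⟨0, by omega, build 0 (by omega) (hax ▸ K.el_mem_eight (by omega) ha) (hby ▸ K.el_mem_eight (by omega) hb)⟩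
    · exact ⟨1, by omega, build 1 (by omega) (hax ▸ K.el_mem_eight (by omega) ha) (hby ▸ K.el_mem_eight (by omega) hb)⟩
  obtain ⟨k', hk', hgE⟩ := hwhich
  have hmap : (K.eight k).map (MulAut.conj g).toMonoidHom = K.eight k' := by
    refine eq_of_le_of_card_ge ?_ (by
      rw [card_map_of_injective (MulAut.conj g).injective, K.card_eight hk, K.card_eight hk'])
    rintro _ ⟨a, ha, rfl⟩
    obtain ⟨u, hu, rfl⟩ := (K.mem_eight hk).1 ha
    exact hgE u hu
  -- everything commuting with `s` centralises `g s g⁻¹`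
  have hconjn : ∀ l : G, Commute l s → Commute (g⁻¹ * l * g) s := by
    intro l hl
    refine mem_centralizer_singleton_iff.1 (hNle ?_)
    refine K.mem_normalizer_eight hk fun u hu => ?_
    have h1 : l * (g * K.el (pointC k u) * g⁻¹) * l⁻¹ ∈ K.eight k' :=
      (mem_normalizer_iff.1 (K.cent_le_normalizer hk' (mem_centralizer_singleton_iff.2 hl.eq)) _).1 (hgE u hu)
    rw [← hmap] at h1
    obtain ⟨a, ha, e⟩ := h1
    have e' : g * a * g⁻¹ = l * (g * K.el (pointC k u) * g⁻¹) * l⁻¹ := e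
    rw [show g⁻¹ * l * g * K.el (pointC k u) * (g⁻¹ * l * g)⁻¹ =
      g⁻¹ * (l * (g * K.el (pointC k u) * g⁻¹) * l⁻¹) * g by group, ← e',
      show g⁻¹ * (g * a * g⁻¹) * g = a by group]
    exact ha
  obtain ⟨z, hz, hze⟩ : ∃ z < 192, K.el z = g * s * g⁻¹ := by
    refine K.surj _ ?_
    have h := (K.eight_commute hk (K.s_mem_eight hk) (K.el_mem_eight hk hv)).map (MulAut.conj g).toMonoidHom
    have h' : Commute (g * s * g⁻¹) (g * K.el (pointC k v) * g⁻¹) := h
    rw [hg] at h'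
    exact h'.eq
  have hzc : z = 0 ∨ z = 16 := cent_letters hz fun j hj => by
    refine (K.comm_iff h4 hz (letC_lt j hj)).1 ?_
    rw [hze]
    have h1 := (hconjn _ (K.mem _ (letC_lt j hj))).map (MulAut.conj g).toMonoidHom
    rw [show (MulAut.conj g).toMonoidHom (g⁻¹ * K.el (letC j) * g) = K.el (letC j) by
      show g * (g⁻¹ * K.el (letC j) * g) * g⁻¹ = _; group] at h1
    exact h1.symm
  rcases hzc with r | r <;> rw [r] at hze
  · rw [K.el_zero h4, eq_comm, mul_inv_eq_one, mul_eq_left] at hze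
    exact K.s_ne_one h4 hze
  · rw [K.el_s] at hze
    have e : K.el (pointC k v) = s := by
      have h1 := hg.trans hze
      rwa [mul_right_cancel_iff, mul_left_cancel_iff] at h1
    exact hv4 (D.inj v hv 4 (by omega) (K.el_inj _ (D.lt v hv) _ (D.lt 4 (by omega))
      (by rw [e, D.four, K.el_s])))

/-- The normaliser has order `1344`. -/
theorem card_normalizer_eight (hm : K.mask = 11) {k : ℕ} (hk : k < 2) :
    Nat.card (normalizer (K.eight k : Set G)) = 1344 := by
  have D := sideData hk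
  set N := normalizer (K.eight k : Set G)
  set L := centralizer ({s} : Set G)
  have hL : Nat.card L = 192 := by
    have h := card_eq_countBelow K.el 192 (fun _ => true) (fun g => g ∈ L)
      (fun a ha b hb h => K.el_inj a ha b hb h)
      (fun j hj => iff_of_true rfl (mem_centralizer_singleton_iff.2 (K.mem j hj)))
      (fun g hg => K.surj g (mem_centralizer_singleton_iff.1 hg))
    rw [h, CfsgLib.Recog.Held.countBelow_eq]; simp
  have hmove : ∀ n : N, (n : G) * s * (n : G)⁻¹ ∈ K.eight k :=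
    fun n => (mem_normalizer_iff.1 n.2 s).1 (K.s_mem_eight hk)
  have hne : ∀ n : N, (n : G) * s * (n : G)⁻¹ ≠ 1 := fun n e => K.s_ne_one (by omega) (by
    rwa [mul_inv_eq_one, mul_eq_left] at e)
  have hidx : (L.subgroupOf N).index = 7 := by
    have e : N ⧸ L.subgroupOf N ≃ {a : K.eight k // a ≠ 1} := by
      refine Equiv.ofBijective (Quotient.lift (fun n : N => (⟨⟨(n : G) * s * (n : G)⁻¹, hmove n⟩,
        fun h => hne n (congrArg Subtype.val h)⟩ : {a : K.eight k // a ≠ 1})) ?_) ⟨?_, ?_⟩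
      · intro a b hab
        have h : ((a⁻¹ * b : N) : G) * s = s * ((a⁻¹ * b : N) : G) :=
          mem_centralizer_singleton_iff.1 (mem_subgroupOf.1 (QuotientGroup.leftRel_apply.1 hab))
        push_cast at h
        refine Subtype.ext (Subtype.ext ?_)
        show (a : G) * s * (a : G)⁻¹ = (b : G) * s * (b : G)⁻¹
        rw [show (b : G) * s * (b : G)⁻¹ = (a : G) * ((a : G)⁻¹ * b * s) * (b : G)⁻¹ by group, h]
        group
      · rintro ⟨a⟩ ⟨b⟩ hab
        refine Quotient.sound (QuotientGroup.leftRel_apply.2 (mem_subgroupOf.2 ?_))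
        have h : (a : G) * s * (a : G)⁻¹ = (b : G) * s * (b : G)⁻¹ :=
          congrArg (fun z : {a : K.eight k // a ≠ 1} => ((z : K.eight k) : G)) hab
        rw [mem_centralizer_singleton_iff]
        push_cast
        rw [show (a : G)⁻¹ * b * s = (a : G)⁻¹ * ((b : G) * s * (b : G)⁻¹) * b by group, ← h]
        group
      · rintro ⟨⟨a, ha⟩, hne'⟩
        obtain ⟨v, hv, rfl⟩ := (K.mem_eight hk).1 ha
        obtain ⟨n, hn, he⟩ := K.exists_move hm hk hv (fun h0 => hne' (Subtype.ext (by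
          show K.el (pointC k v) = 1
          rw [h0, D.zero, K.el_zero (by omega)])))
        refine ⟨(⟨n⁻¹, inv_mem hn⟩ : N), Subtype.ext (Subtype.ext ?_)⟩
        show n⁻¹ * s * (n⁻¹)⁻¹ = K.el (pointC k v)
        have h' : n⁻¹ * (n * K.el (pointC k v) * n⁻¹) * (n⁻¹)⁻¹ = K.el (pointC k v) := by group
        rw [he] at h'
        exact h'
    rw [index_eq_card, Nat.card_congr e]
    haveI := Fintype.ofFinite (K.eight k)
    classical
    rw [Nat.card_eq_fintype_card, Fintype.card_subtype_compl, Fintype.card_subtype_eq, ← Nat.card_eq_fintype_card,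
      K.card_eight hk]
  rw [← (L.subgroupOf N).index_mul_card, hidx, Nat.card_congr (subgroupOfEquivOfLe (K.cent_le_normalizer hk)).toEquiv, hL]

end Coord

end CfsgLib.Recog.ExtraThirtyTwo
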