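import Cfsg.Agent.Lib.Recog.ExtraThirtyTwo.FinalFix
import Mathlib.GroupTheory.SpecificGroups.Alternating.Simple

set_option autoImplicit false
set_option maxRecDepth 100000

/-!
The action of `C(el 5)` of order 480 on its five cosets in the copy of `A8` (owner: helper25).
-/

namespace CfsgLib.Recog.ExtraThirtyTwo

open Equiv Subgroup

namespace Eight

open CfsgLib.Recog.Held (allBelow allBelow_spec)
open Glue (Rep pApp pMul pOne)

theorem isInv_iff {σ : alternatingGroup (Fin 8)} {p : ℕ} (h : Rep (σ : Perm (Fin 8)) p) :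
    isInv p = true ↔ σ ≠ 1 ∧ σ * σ = 1 := by
  simp only [isInv, Bool.and_eq_true, Bool.not_eq_true', Bool.eq_false_iff, ne_eq, pEq_iff h Glue.rep_one,
    pEq_iff (h.mul h) Glue.rep_one, OneMemClass.coe_eq_one, ← Subgroup.coe_mul]

theorem conj_inv {σ τ : alternatingGroup (Fin 8)} (hc : IsConj σ τ) (h : τ ≠ 1 ∧ τ * τ = 1) :
    σ ≠ 1 ∧ σ * σ = 1 := by
  obtain ⟨g, hg⟩ := isConj_iff.1 hc
  subst hg
  refine ⟨fun e => h.1 (by simp [e]), ?_⟩
  have h2 := h.2
  rwa [conj_mul, mul_inv_eq_one, mul_eq_left] at h2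

theorem az_inv : az ≠ 1 ∧ az * az = 1 := by decide +kernel
theorem at4_inv : at4 ≠ 1 ∧ at4 * at4 = 1 := by decide +kernel

theorem isU_iff {σ : alternatingGroup (Fin 8)} {p : ℕ} (h : Rep (σ : Perm (Fin 8)) p) :
    isU p = true ↔ IsConj σ at4 := by
  rw [isU, Bool.and_eq_true, isInv_iff h, Nat.beq_eq, ← nfix_rep h]
  exact ⟨fun ⟨⟨a, b⟩, c⟩ => (conj_iff_fix a b).2.2 c,
    fun c => ⟨conj_inv c at4_inv, (nfix_of_conj c).trans pt_fix⟩⟩

theorem isS_iff {σ : alternatingGroup (Fin 8)} {p : ℕ} (h : Rep (σ : Perm (Fin 8)) p) :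
    isS p = true ↔ IsConj σ az := by
  rw [isS, Bool.and_eq_true, isInv_iff h, Nat.beq_eq, ← nfix_rep h]
  exact ⟨fun ⟨⟨a, b⟩, c⟩ => (conj_iff_fix a b).1.2 c,
    fun c => ⟨conj_inv c az_inv, (nfix_of_conj c).trans pz_fix⟩⟩

theorem cA_one : cA 1 = at4 := by decide +kernel

/-- An element of the four-group. -/
def vA (a : ℕ) : ℕ → alternatingGroup (Fin 8)
  | 0 => 1
  | 1 => cA 1
  | 2 => cA a
  | _ => cA 1 * cA a

theorem cA_val (j : ℕ) : (cA j : Perm (Fin 8)) = cEl j := by rw [cA]

theorem vP_zero (a : ℕ) : vP a 0 = pOne := by rw [vP, show Nat.beq 0 0 = true from rfl, Bool.cond_true]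

theorem vP_one (a : ℕ) : vP a 1 = cP 1 := by
  rw [vP, show Nat.beq 1 0 = false from rfl, Bool.cond_false, show Nat.beq 1 1 = true from rfl, Bool.cond_true]

theorem vP_two (a : ℕ) : vP a 2 = cP a := by
  rw [vP, show Nat.beq 2 0 = false from rfl, Bool.cond_false, show Nat.beq 2 1 = false from rfl, Bool.cond_false,
    show Nat.beq 2 2 = true from rfl, Bool.cond_true]

theorem vP_three (a n : ℕ) : vP a (n + 3) = pMul (cP 1) (cP a) := by
  rw [vP, show Nat.beq (n + 3) 0 = false from rfl, Bool.cond_false, show Nat.beq (n + 3) 1 = false from rfl,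
    Bool.cond_false, show Nat.beq (n + 3) 2 = false from rfl, Bool.cond_false]

theorem vA_rep (a : ℕ) : ∀ w, Rep (vA a w : Perm (Fin 8)) (vP a w)
  | 0 => by rw [vP_zero, vA, OneMemClass.coe_one]; exact Glue.rep_one
  | 1 => by rw [vP_one, vA, cA_val]; exact cEl_rep 1
  | 2 => by rw [vP_two, vA, cA_val]; exact cEl_rep a
  | n + 3 => by
    have e : vA a (n + 3) = cA 1 * cA a := by rw [vA] <;> omega
    rw [vP_three, e, Subgroup.coe_mul, cA_val, cA_val]; exact (cEl_rep 1).mul (cEl_rep a)

/-- Facts on permutations of five points. -/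
theorem five_fix : ∀ π : Perm (Fin 5), π * π = 1 → ∃ k, π k = k := by decide +kernel

theorem five_even : ∀ π : Perm (Fin 5), π * π = 1 → π 0 = 0 → (∀ k, π k = k → k = 0) → Perm.sign π = 1 := by
  decide +kernel

theorem five_sq : ∀ π : Perm (Fin 5), π * π = 1 → Perm.sign π = 1 → ∃ q : Perm (Fin 5), q * q = π := by
  decide +kernel

theorem five_order : ∀ q : Perm (Fin 5), Perm.sign q = 1 →
    q * q = 1 ∨ q * q * q = 1 ∨ q * q * q * q * q = 1 := by decide +kernel

theorem five_prod (π : Perm (Fin 5)) (h2 : π * π = 1) (h0 : π 0 = 0) (huniq : ∀ k, π k = k → k = 0)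
    (π' : Perm (Fin 5)) (h2' : π' * π' = 1) (h0' : π' 0 ≠ 0) (he : Perm.sign π' = 1) : (π * π') ^ 15 = 1 := by
  rcases five_order (π * π') (by rw [map_mul, five_even π h2 h0 huniq, he, one_mul]) with e | e | e
  · have hc : π * π' = π' * π := by
      calc π * π' = π * π' * (π * π' * (π * π'))⁻¹ := by rw [e, inv_one, mul_one]
        _ = π'⁻¹ * π⁻¹ := by group
        _ = π' * π := by rw [inv_eq_of_mul_eq_one_right h2, inv_eq_of_mul_eq_one_right h2']
    refine absurd (huniq (π' 0) ?_) h0'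
    rw [← Perm.mul_apply, hc, Perm.mul_apply, h0]
  · rw [show 15 = 3 * 5 from rfl, pow_mul, pow_three, ← mul_assoc, e, one_pow]
  · rw [show 15 = 5 * 3 from rfl, pow_mul,
      show (π * π') ^ 5 = π * π' * (π * π') * (π * π') * (π * π') * (π * π') by simp only [pow_succ, pow_zero, one_mul],
      e, one_pow]

/-- The involutions moving a point, weighted by the bound on their pairs. -/
theorem five_weight :
    ((Finset.univ.filter fun π : Perm (Fin 5) => π * π = 1 ∧ π 0 ≠ 0).sum
      fun π => if Perm.sign π = 1 then 3 else 18) = 108 := by decide +kernel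

end Eight

variable {G : Type*} [Group G] [Finite G] {s : G} {K : Coord s 0}

/-- The four-group `V`. -/
def InFour (K : Coord s 0) (g : G) : Prop := g = 1 ∨ g = K.el 5 ∨ g = K.el 113 ∨ g = K.el 116

/-- The action of `U = C(el 5)` on five points. -/
structure Act5 (E : Emb K) where
  /-- the action -/
  ρ : centralizer ({K.el 5} : Set G) →* Perm (Fin 5)
  surj : Function.Surjective ρ
  zero : ∀ g, ρ g 0 = 0 ↔ (g : G) ∈ E.f.range
  ker : ∀ g, ρ g = 1 ↔ InFour K (g : G)

omit [Finite G] in
theorem el116 (K : Coord s 0) : K.el 5 * K.el 113 = K.el 116 := by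
  rw [K.el_mul 5 (by omega) 113 (by omega), show mulC 0 5 113 = 116 by decide +kernel]

theorem exists_act5 (hK : PairPattern K) (E : Emb K)
    (h480 : Nat.card (centralizer ({K.el 5} : Set G)) = 480) : Nonempty (Act5 E) := by
  set U := centralizer ({K.el 5} : Set G)
  set U0 := E.f.range.subgroupOf U
  have hU0 : Nat.card U0 = 96 := by
    rw [show U0 = (E.f.range ⊓ U).subgroupOf U from (inf_subgroupOf_right _ _).symm,
      Nat.card_congr (subgroupOfEquivOfLe inf_le_right).toEquiv]
    exact E.card_inf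
  have hidx : Nat.card (U ⧸ U0) = 5 := by
    have h := U0.card_mul_index
    rw [hU0, h480, index_eq_card] at h
    omega
  let e := Finite.equivFinOfCardEq hidx
  let e0 : U ⧸ U0 ≃ Fin 5 := e.trans (Equiv.swap (e ((1 : U) : U ⧸ U0)) 0)
  let ρ : U →* Perm (Fin 5) := e0.permCongrHom.toMonoidHom.comp (MulAction.toPermHom U (U ⧸ U0))
  have e00 : e0 ((1 : U) : U ⧸ U0) = 0 := by simp [e0]
  have h0 : ∀ g : U, ρ g 0 = e0 (g : U ⧸ U0) := fun g => by
    show e0 (g • e0.symm 0) = _
    rw [show e0.symm 0 = ((1 : U) : U ⧸ U0) from e0.symm_apply_eq.2 e00.symm, MulAction.Quotient.smul_mk,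
      smul_eq_mul, mul_one]
  have hzero : ∀ g : U, ρ g 0 = 0 ↔ (g : G) ∈ E.f.range := fun g => by
    rw [h0, ← e00, e0.injective.eq_iff, QuotientGroup.eq, mul_one, inv_mem_iff, mem_subgroupOf]
  have htrans : ∀ k, ∃ r : U, ρ r 0 = k := fun k => by
    obtain ⟨q, rfl⟩ := e0.surjective k
    obtain ⟨r, rfl⟩ := QuotientGroup.mk_surjective q
    exact ⟨r, h0 r⟩
  obtain ⟨V, hVn, memV, hcases⟩ := hK.diagFacts.quotient
  obtain ⟨φ⟩ : Nonempty (U ⧸ V ≃* Perm (Fin 5)) := by
    rcases hcases with h | ⟨⟨φ⟩⟩ | h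
    · have hle : U ≤ centralizer ({s} : Set G) := fun g hg =>
        mem_centralizer_singleton_iff.2 (h ⟨g, hg⟩).eq
      have := Subgroup.card_le_of_le hle
      rw [card_cent_s K] at this
      omega
    · exfalso
      have h := card_eq_card_quotient_mul_card_subgroup V
      rw [h480, Nat.card_congr φ.toEquiv, Nat.card_perm, Nat.card_fin] at h
      have hle : Nat.card V ≤ 4 := by
        classical
        let F : Finset G := {1, K.el 5, K.el 113, K.el 116}
        calc Nat.card V ≤ Nat.card F := Nat.card_le_card_of_injective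
              (fun x => (⟨x.1, by
                rcases (memV x.1).1 x.2 with e | e | e | e <;> simp [F, e]⟩ : F))
              fun a b hab => Subtype.ext (Subtype.ext (by simpa using hab))
          _ ≤ 4 := by rw [Nat.card_eq_fintype_card, Fintype.card_coe]; exact Finset.card_le_four
      norm_num [Nat.factorial] at h
      omega
    · exact h
  have hV0 : ∀ x : U, InFour K (x : G) → (x : G) ∈ E.f.range := fun x hx => by
    have hc : ∀ j, j < 192 → K.el j ∈ E.f.range := fun j hj =>
      E.cent (mem_centralizer_singleton_iff.2 (K.mem j hj))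
    rcases hx with e | e | e | e <;> rw [e]
    exacts [one_mem _, hc 5 (by omega), hc 113 (by omega), hc 116 (by omega)]
  have hVker : V ≤ ρ.ker := fun x hx => by
    rw [MonoidHom.mem_ker]
    refine Equiv.ext fun k => ?_
    obtain ⟨r, rfl⟩ := htrans k
    have h := (hzero (r⁻¹ * x * r)).2 (hV0 _ ((memV _).1 (by simpa using hVn.conj_mem x hx r⁻¹)))
    rw [Perm.one_apply, ← Perm.mul_apply, ← map_mul, show x * r = r * (r⁻¹ * x * r) by group, map_mul, Perm.mul_apply, h]
  have hker : ρ.ker ≤ V := by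
    set ψ : U →* Perm (Fin 5) := φ.toMonoidHom.comp (QuotientGroup.mk' V)
    have hψ : Function.Surjective ψ := φ.surjective.comp (QuotientGroup.mk'_surjective V)
    have : (ρ.ker.map ψ).Normal := Subgroup.Normal.map inferInstance ψ hψ
    have hN : ρ.ker.map ψ = ⊥ := by
      by_contra hne
      have hA := Perm.alternatingGroup_le_of_normal (α := Fin 5) (by rw [Nat.card_fin])
        ((nontrivial_iff_ne_bot _).2 hne)
      have h60 : Nat.card (alternatingGroup (Fin 5)) = 60 := by
        rw [nat_card_alternatingGroup, Nat.card_fin]; rfl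
      have hd : Nat.card (ρ.ker.map ψ) ∣ 96 := by
        rw [← hU0]
        refine (Subgroup.card_map_dvd _ ψ).trans (Subgroup.card_dvd_of_le fun g hg => ?_)
        rw [mem_subgroupOf]
        exact (hzero g).1 (by rw [MonoidHom.mem_ker.1 hg]; rfl)
      have := (Subgroup.card_dvd_of_le hA).trans hd
      rw [h60] at this
      omega
    intro x hx
    have : ψ x = 1 := by
      rw [← mem_bot (G := Perm (Fin 5)), ← hN]
      exact mem_map_of_mem ψ hx
    exact (QuotientGroup.eq_one_iff x).1 (φ.map_eq_one_iff.1 this)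
  have heq : ρ.ker = V := le_antisymm hker hVker
  refine ⟨⟨ρ, ?_, hzero, fun g => by rw [← MonoidHom.mem_ker, heq, memV]; rfl⟩⟩
  rw [← MonoidHom.range_eq_top]
  refine eq_top_of_card_eq _ ?_
  rw [← index_ker, heq, index_eq_card, Nat.card_congr φ.toEquiv]

end CfsgLib.Recog.ExtraThirtyTwo
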