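import Cfsg.Agent.Lib.Recog.ExtraThirtyTwo.FinalCount

set_option autoImplicit false

/-!
The pattern of two pure four-groups gives `A8` or `A9` (owner: helper25).
-/

namespace CfsgLib.Recog.ExtraThirtyTwo

open Equiv Subgroup

namespace PairPattern

variable {G : Type*} [Group G] [Finite G] [IsSimpleGroup G] {s : G} {K : Coord s 0}

/-- A simple group with this pattern is `A8` or `A9`. -/
theorem branch (hK : PairPattern K) :
    Nonempty (G ≃* alternatingGroup (Fin 8)) ∨ Nonempty (G ≃* alternatingGroup (Fin 9)) := by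
  obtain ⟨E⟩ := hK.nonempty_emb
  have h96 := E.card_inf
  rcases hK.diagFacts.card with h | h | h
  · have := Subgroup.card_le_of_le (inf_le_right : E.f.range ⊓ centralizer ({K.el 5} : Set G) ≤ centralizer ({K.el 5} : Set G))
    omega
  · left
    have e : E.f.range ⊓ centralizer ({K.el 5} : Set G) = centralizer ({K.el 5} : Set G) :=
      eq_of_le_of_card_ge inf_le_right (by omega)
    have htop := E.eq_top_of_cent_le hK (e.symm.le.trans inf_le_left)
    exact ⟨(MulEquiv.ofBijective E.f ⟨E.inj, MonoidHom.range_eq_top.1 htop⟩).symm⟩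
  obtain ⟨A⟩ := exists_act5 hK E h
  obtain ⟨x, hx, hn⟩ := A.index_bound hK h
  set H := E.f.range with hH
  have hodd : ¬ 2 ∣ H.index := by
    obtain ⟨P, hP⟩ := hK.exists_sylow_le
    have : Fact (Nat.Prime 2) := ⟨Nat.prime_two⟩
    exact fun hd => P.not_dvd_index (hd.trans (index_dvd_of_le (hP.trans E.cent)))
  have hcard : Nat.card G = 20160 * H.index := by rw [← H.card_mul_index, hH, E.card_range]
  let e := Finite.equivFinOfCardEq (n := H.index) (H.index_eq_card).symm
  let φ : G →* Perm (Fin H.index) := e.permCongrHom.toMonoidHom.comp (MulAction.toPermHom G (G ⧸ H))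
  have hker : φ.ker = ⊥ := by
    refine (IsSimpleGroup.eq_bot_or_eq_top_of_normal φ.ker inferInstance).resolve_right fun htop => ?_
    have hHtop : H = ⊤ := by
      refine eq_top_iff.2 fun g _ => ?_
      have h1 : φ g = 1 := MonoidHom.mem_ker.1 (htop ▸ mem_top g)
      have h2 : e (g • e.symm (e ((1 : G) : G ⧸ H))) = e ((1 : G) : G ⧸ H) :=
        congrArg (fun σ : Perm (Fin H.index) => σ (e ((1 : G) : G ⧸ H))) h1
      rw [Equiv.symm_apply_apply, e.injective.eq_iff, MulAction.Quotient.smul_mk, smul_eq_mul, mul_one,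
        QuotientGroup.eq, mul_one, inv_mem_iff] at h2
      exact h2
    rw [hHtop, index_top] at hn
    omega
  have hinj : Function.Injective φ := (MonoidHom.ker_eq_bot_iff φ).1 hker
  have hle : Nat.card G ≤ H.index.factorial := by
    have := Nat.card_le_card_of_injective φ hinj
    rwa [Nat.card_perm, Nat.card_fin] at this
  rcases (by omega : H.index = 5 ∨ H.index = 7 ∨ H.index = 9) with hi | hi | hi
  · rw [hcard, hi] at hle; norm_num [Nat.factorial] at hle
  · rw [hcard, hi] at hle; norm_num [Nat.factorial] at hle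
  right
  have heven : ∀ g, φ g ∈ alternatingGroup (Fin H.index) := fun g => by
    rw [Perm.mem_alternatingGroup]
    set χ : G →* ℤˣ := Perm.sign.comp φ
    rcases IsSimpleGroup.eq_bot_or_eq_top_of_normal χ.ker inferInstance with hb | ht
    · have := Nat.card_le_card_of_injective χ ((MonoidHom.ker_eq_bot_iff χ).1 hb)
      rw [hcard, Nat.card_eq_fintype_card (α := ℤˣ), Fintype.card_units_int, hi] at this
      omega
    · exact MonoidHom.mem_ker.1 (ht ▸ mem_top g : g ∈ χ.ker)
  have hψinj : Function.Injective (φ.codRestrict _ heven) := fun a b hab => hinj (congrArg Subtype.val hab)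
  have hψ : Function.Bijective (φ.codRestrict _ heven) := by
    refine hψinj.bijective_of_nat_card_le ?_
    have : Nontrivial (Fin H.index) := by rw [hi]; infer_instance
    rw [nat_card_alternatingGroup, Nat.card_fin, hcard, hi]
    norm_num [Nat.factorial]
  exact ⟨(MulEquiv.ofBijective _ hψ).trans (finCongr hi).altCongrHom⟩

end PairPattern

end CfsgLib.Recog.ExtraThirtyTwo
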