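import Cfsg.Agent.Lib.Recog.ExtraThirtyTwo.FinalLifts

set_option autoImplicit false
set_option maxRecDepth 100000

/-!
Thompson's order formula for `G` with `|C(el 5)| = 480` (owner: helper25).
-/

namespace CfsgLib.Recog.ExtraThirtyTwo

open Equiv Subgroup
open CfsgLib.Signalizer (ClassPairs)

variable {G : Type*} [Group G] [Finite G] {s : G} {K : Coord s 0}

namespace Act5

variable {E : Emb K} (A : Act5 E)

/-- The pairs over `el 5`. -/
abbrev Pairs (K : Coord s 0) : Type _ := ClassPairs s (K.el 5) (K.el 5)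

/-- The pairs with first member in the copy and second outside. -/
abbrev Mixed (E : Emb K) : Type _ := {p : Pairs K // p.1.1 ∈ E.f.range ∧ p.1.2 ∉ E.f.range}

omit [Finite G] in
theorem pair_facts (p : Pairs K) : p.1.1 * p.1.1 = 1 ∧ p.1.2 * p.1.2 = 1 ∧ Commute p.1.1 (K.el 5) ∧
    Commute p.1.2 (K.el 5) := by
  have ha := (K.inv_of_isConj (by omega) p.2.1.symm).2
  have hb : p.1.2 * p.1.2 = 1 := by
    obtain ⟨g, hg⟩ := isConj_iff.1 p.2.2.1
    rw [← hg, conj_mul, (el5_inv K).2, mul_one, mul_inv_cancel]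
  obtain ⟨ca, cb⟩ := commute_of_mem_zpowers ha hb (el5_inv K).2 p.2.2.2
  exact ⟨ha, hb, ca.symm, cb.symm⟩

/-- The first member of a pair, in `U`. -/
def fstU (p : Pairs K) : centralizer ({K.el 5} : Set G) :=
  ⟨p.1.1, mem_centralizer_singleton_iff.2 (pair_facts p).2.2.1.eq⟩

/-- The second member of a pair, in `U`. -/
def sndU (p : Pairs K) : centralizer ({K.el 5} : Set G) :=
  ⟨p.1.2, mem_centralizer_singleton_iff.2 (pair_facts p).2.2.2.eq⟩

include A in
theorem card_pairs (hK : PairPattern K) :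
    Nat.card (Pairs K) = 5 * (Nat.card (ClassPairs Eight.az Eight.at4 Eight.at4) + Nat.card (Mixed E)) := by
  classical
  choose r hr using A.exists_moving
  have hru : ∀ k, Commute (r k : G) (K.el 5) := fun k => mem_centralizer_singleton_iff.1 (r k).2
  have mv : ∀ (g : G), Commute g (K.el 5) → ∀ p : Pairs K,
      IsConj s (g * p.1.1 * g⁻¹) ∧ IsConj (K.el 5) (g * p.1.2 * g⁻¹) ∧
        K.el 5 ∈ zpowers (g * p.1.1 * g⁻¹ * (g * p.1.2 * g⁻¹)) := fun g hg p => by
    refine ⟨p.2.1.trans (isConj_iff.2 ⟨g, rfl⟩), p.2.2.1.trans (isConj_iff.2 ⟨g, rfl⟩), ?_⟩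
    obtain ⟨k, hk⟩ := mem_zpowers_iff.1 p.2.2.2
    exact mem_zpowers_iff.2 ⟨k, by rw [conj_mul, conj_zpow, hk, hg.eq, mul_inv_cancel_right]⟩
  let move : Fin 5 × {p : Pairs K // p.1.1 ∈ E.f.range} → Pairs K := fun x =>
    ⟨((r x.1 : G) * x.2.1.1.1 * (r x.1 : G)⁻¹, (r x.1 : G) * x.2.1.1.2 * (r x.1 : G)⁻¹), mv _ (hru _) _⟩
  have hmove : Function.Bijective move := by
    constructor
    · rintro ⟨k, ⟨p, hp⟩⟩ ⟨k', ⟨q, hq⟩⟩ h
      obtain ⟨h1, h2⟩ := Prod.ext_iff.1 (congrArg Subtype.val h)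
      dsimp only [move] at h1 h2
      have e : ((r k : G)⁻¹ * r k')⁻¹ * p.1.1 * ((r k : G)⁻¹ * r k') = q.1.1 := by
        calc _ = (r k' : G)⁻¹ * ((r k : G) * p.1.1 * (r k : G)⁻¹) * r k' := by group
          _ = q.1.1 := by rw [h1]; group
      have hk := (A.zero ((r k)⁻¹ * r k')).2 (E.fix_unique hK hp p.2.1.symm (e ▸ hq))
      rw [map_mul, map_inv, Perm.mul_apply, hr k', Perm.inv_eq_iff_eq, hr k] at hk
      subst hk
      simp only [mul_left_inj, mul_right_inj] at h1 h2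
      exact Prod.ext rfl (Subtype.ext (Subtype.ext (Prod.ext h1 h2)))
    · intro p
      obtain ⟨k, hk⟩ := Eight.five_fix (A.ρ (fstU p))
        (by rw [← map_mul, show fstU p * fstU p = 1 from Subtype.ext (pair_facts p).1, map_one])
      have hp := (A.fix_iff (r k) (fstU p)).1 (by rw [hr]; exact hk)
      have m := mv (r k : G)⁻¹ (hru k).inv_left p
      rw [inv_inv] at m
      refine ⟨(k, ⟨⟨((r k : G)⁻¹ * p.1.1 * r k, (r k : G)⁻¹ * p.1.2 * r k), m⟩, hp⟩), ?_⟩
      refine Subtype.ext (Prod.ext ?_ ?_) <;>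
        simp only [move, ← mul_assoc, mul_inv_cancel, one_mul, mul_inv_cancel_right]
  rw [← Nat.card_congr (Equiv.ofBijective move hmove), Nat.card_prod, Nat.card_fin]
  refine congrArg (5 * ·) ?_
  rw [← Nat.card_congr (Equiv.sumCompl fun p : {p : Pairs K // p.1.1 ∈ E.f.range} => p.1.1.2 ∈ E.f.range),
    Nat.card_sum]
  congr 1
  · refine (Nat.card_congr (Equiv.ofBijective (fun q => (⟨⟨⟨(E.f q.1.1, E.f q.1.2),
      ((E.s_iff hK _).2 q.2.1.symm).symm, ((E.u_iff hK _).2 q.2.2.1.symm).symm, by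
        obtain ⟨k, hk⟩ := mem_zpowers_iff.1 q.2.2.2
        exact mem_zpowers_iff.2 ⟨k, by rw [← map_mul, ← map_zpow, hk, E.at4u]⟩⟩, ⟨_, rfl⟩⟩, ⟨_, rfl⟩⟩ :
      {p : {p : Pairs K // p.1.1 ∈ E.f.range} // p.1.1.2 ∈ E.f.range})) ⟨fun p q h => ?_, ?_⟩)).symm
    · obtain ⟨h1, h2⟩ := Prod.ext_iff.1 (congrArg (fun z => z.1.1.1) h)
      exact Subtype.ext (Prod.ext (E.inj h1) (E.inj h2))
    · rintro ⟨⟨⟨⟨a, b⟩, ha, hb, hab⟩, ⟨x, hx⟩⟩, ⟨y, hy⟩⟩
      dsimp only at hx hy
      subst hx hy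
      refine ⟨⟨(x, y), ((E.s_iff hK x).1 ha.symm).symm, ((E.u_iff hK y).1 hb.symm).symm, ?_⟩, rfl⟩
      obtain ⟨k, hk⟩ := mem_zpowers_iff.1 hab
      exact mem_zpowers_iff.2 ⟨k, E.inj (by rw [map_zpow, map_mul, hk, E.at4u])⟩
  · exact Nat.card_congr (Equiv.subtypeSubtypeEquivSubtypeInter (fun p : Pairs K => p.1.1 ∈ E.f.range)
      fun p => p.1.2 ∉ E.f.range)

omit [Finite G] in
theorem ab_pow (hK : PairPattern K) (p : Mixed E) (he : Perm.sign (A.ρ (sndU p.1)) = 1) :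
    (p.1.1.1 * p.1.1.2) ^ 15 = K.el 5 := by
  obtain ⟨ha, hb, cau, cbu⟩ := pair_facts p.1
  have h := Eight.five_prod (A.ρ (fstU p.1))
    (by rw [← map_mul, show fstU p.1 * fstU p.1 = 1 from Subtype.ext ha, map_one]) ((A.zero _).2 p.2.1)
    (fun k hk => by
      obtain ⟨r, rfl⟩ := A.exists_moving k
      exact (A.zero r).2 (E.fix_unique hK p.2.1 p.1.2.1.symm ((A.fix_iff r _).1 hk)))
    (A.ρ (sndU p.1)) (by rw [← map_mul, show sndU p.1 * sndU p.1 = 1 from Subtype.ext hb, map_one])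
    (fun h => p.2.2 ((A.zero _).1 h)) he
  rw [← map_mul, ← map_pow] at h
  have hc : InFour K ((p.1.1.1 * p.1.1.2) ^ 15) := (A.ker _).1 h
  have hc2 := hc.sq
  obtain ⟨k, hk⟩ := mem_zpowers_iff.1 p.1.2.2.2
  set z := p.1.1.1 * p.1.1.2
  have hu : (z ^ 15) ^ k = K.el 5 := by
    rw [← zpow_natCast z, ← zpow_mul, mul_comm, zpow_mul, hk, zpow_natCast,
      show 15 = 2 * 7 + 1 from rfl, pow_succ, pow_mul, pow_two, (el5_inv K).2, one_pow, one_mul]
  rcases Int.even_or_odd k with ⟨m, rfl⟩ | ⟨m, rfl⟩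
  · rw [← two_mul, zpow_mul, zpow_two, hc2, one_zpow] at hu
    exact absurd hu.symm (el5_inv K).1
  · rwa [zpow_add, zpow_mul, zpow_two, hc2, one_zpow, one_mul, zpow_one] at hu

include A in
theorem card_mixed (hK : PairPattern K) : Nat.card (Mixed E) ≤ 108 := by
  classical
  have := Fintype.ofFinite (Mixed E)
  let θ : Mixed E → Perm (Fin 5) := fun p => A.ρ (sndU p.1)
  rw [Nat.card_eq_fintype_card, ← Finset.card_univ, ← Eight.five_weight,
    Finset.card_eq_sum_card_fiberwise (f := θ) (t := Finset.univ.filter fun π => π * π = 1 ∧ π 0 ≠ 0)]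
  swap
  · intro p _
    refine Finset.mem_coe.2 (Finset.mem_filter.2 ⟨Finset.mem_univ _, ?_, fun h => p.2.2 ((A.zero _).1 h)⟩)
    show A.ρ _ * A.ρ _ = 1
    rw [← map_mul, show sndU p.1 * sndU p.1 = 1 from Subtype.ext (pair_facts p.1).2.1, map_one]
  refine Finset.sum_le_sum fun π hπ => ?_
  obtain ⟨-, h2, h0⟩ := Finset.mem_filter.1 hπ
  obtain ⟨hB, hB1⟩ := A.card_lifts hK h2 fun e => h0 (by rw [e]; rfl)
  rw [← Fintype.card_subtype, ← Nat.card_eq_fintype_card]
  let toB : {p : Mixed E // θ p = π} → {b // A.ρ b = π ∧ IsConj (b : G) (K.el 5)} :=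
    fun p => ⟨sndU p.1.1, p.2, p.1.1.2.2.1.symm⟩
  by_cases he : Perm.sign π = 1
  · rw [if_pos he]
    have hco : ∀ p : {p : Mixed E // θ p = π}, ∃ r : Fin 3,
        InFour K (p.1.1.1.1 * (E.f (Eight.cA (4 * (r.val + 1))))⁻¹) := fun p => by
      obtain ⟨r, hr, h⟩ := (E.sType_cosets hK p.1.2.1 (pair_facts p.1.1).2.2.1 p.1.1.2.1.symm).2
      exact ⟨⟨r, hr⟩, h⟩
    choose rr hrr using hco
    refine (Nat.card_le_card_of_injective rr fun p q hpq => ?_).trans (le_of_eq (Nat.card_fin 3))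
    have hb : p.1.1.1.2 = q.1.1.1.2 := by
      have := Finite.card_le_one_iff_subsingleton.1 (hB1 he)
      exact congrArg (fun b => ((b.1 : centralizer ({K.el 5} : Set G)) : G)) (Subsingleton.elim (toB p) (toB q))
    have fp := hrr p
    have fq := hrr q
    rw [hpq] at fp
    set c := E.f (Eight.cA (4 * ((rr q).val + 1)))
    set i := p.1.1.1.1
    set i' := q.1.1.1.1
    obtain ⟨hiv, -⟩ := E.sType_cosets hK p.1.2.1 (pair_facts p.1.1).2.2.1 p.1.1.2.1.symm
    have four_mul : ∀ {x y : G}, InFour K x → InFour K y → InFour K (x * y) := fun {x y} hx hy => by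
      obtain ⟨gx, hgx, rfl⟩ : ∃ g : centralizer ({K.el 5} : Set G), InFour K (g : G) ∧ (g : G) = x :=
        ⟨⟨x, mem_centralizer_singleton_iff.2 (hx.commute (Commute.refl _) (v_comm_u K).symm).symm.eq⟩, hx, rfl⟩
      obtain ⟨gy, hgy, rfl⟩ : ∃ g : centralizer ({K.el 5} : Set G), InFour K (g : G) ∧ (g : G) = y :=
        ⟨⟨y, mem_centralizer_singleton_iff.2 (hy.commute (Commute.refl _) (v_comm_u K).symm).symm.eq⟩, hy, rfl⟩
      exact (A.ker (gx * gy)).1 (by rw [map_mul, (A.ker gx).2 hgx, (A.ker gy).2 hgy, one_mul])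
    have ha : InFour K (i' * i⁻¹) := by
      have e : i' * i⁻¹ = i' * c⁻¹ * (i * c⁻¹)⁻¹ := by group
      rw [e, inv_eq_of_mul_eq_one_right fp.sq]
      exact four_mul fq fp
    set a := i' * i⁻¹
    have hbe : Perm.sign (A.ρ (sndU p.1.1)) = 1 := (congrArg Perm.sign p.2).trans he
    have cbv : Commute p.1.1.1.2 (K.el 113) := A.comm_v_of_even hK (b := sndU p.1.1) (by
      rw [← map_mul, show sndU p.1.1 * sndU p.1.1 = 1 from Subtype.ext (pair_facts p.1.1).2.1, map_one]) hbe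
    have hab : Commute a p.1.1.1.2 := (ha.commute (pair_facts p.1.1).2.2.2 cbv).symm
    have hai : Commute a i := (ha.commute (pair_facts p.1.1).2.2.1 hiv).symm
    have e1 := A.ab_pow hK p.1 hbe
    have e2 := A.ab_pow hK q.1 ((congrArg Perm.sign q.2).trans he)
    rw [← hb, show q.1.1.1.1 = a * i from (inv_mul_cancel_right i' i).symm, mul_assoc,
      (hai.mul_right hab).mul_pow, e1, show 15 = 2 * 7 + 1 from rfl, pow_succ, pow_mul, pow_two, ha.sq, one_pow,
      one_mul, mul_eq_right] at e2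
    have hii : i = i' := (mul_inv_eq_one.1 e2).symm
    exact Subtype.ext (Subtype.ext (Subtype.ext (Prod.ext hii hb)))
  · rw [if_neg he]
    have hI := E.card_sType hK
    refine le_trans (Nat.card_le_card_of_injective
      (fun p : {p : Mixed E // θ p = π} =>
        ((⟨p.1.1.1.1, p.1.2.1, (pair_facts p.1.1).2.2.1, p.1.1.2.1.symm⟩ :
            {i : G // i ∈ E.f.range ∧ Commute i (K.el 5) ∧ IsConj i s}), toB p)) fun p q h => ?_) ?_
    · obtain ⟨h1, h2⟩ := Prod.ext_iff.1 h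
      exact Subtype.ext (Subtype.ext (Subtype.ext (Prod.ext (congrArg Subtype.val h1 :)
        (congrArg (fun b => ((b.1 : centralizer ({K.el 5} : Set G)) : G)) h2 :))))
    · rw [Nat.card_prod]
      calc _ ≤ 9 * 2 := Nat.mul_le_mul hI hB
        _ = 18 := rfl

include A in
/-- `21 [G : H] = 105 + x` with `x ≤ 108`. -/
theorem index_bound (hK : PairPattern K) (h480 : Nat.card (centralizer ({K.el 5} : Set G)) = 480) :
    ∃ x ≤ 108, 21 * E.f.range.index = 105 + x := by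
  refine ⟨Nat.card (Mixed E), A.card_mixed hK, ?_⟩
  have hne : ¬ IsConj Eight.az Eight.at4 := fun h => by
    have := (Eight.nfix_of_conj h).symm.trans Eight.pz_fix
    rw [show ((Eight.at4 : alternatingGroup (Fin 8)) : Perm (Fin 8)) = Eight.pt from rfl, Eight.pt_fix] at this
    omega
  have ho : ∀ x : alternatingGroup (Fin 8), orderOf x = 2 → IsConj Eight.az x ∨ IsConj Eight.at4 x := fun x hx => by
    refine (Eight.invol_cases (fun e => by simp [e] at hx) ?_).imp IsConj.symm IsConj.symm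
    have := pow_orderOf_eq_one x; rwa [hx, pow_two] at this
  have hA := CfsgLib.Signalizer.thompson_order_formula Eight.az Eight.at4 (orderOf_two Eight.az_inv)
    (orderOf_two Eight.at4_inv) hne ho
  rw [Eight.card_cent_at4, Eight.card_cent_az, show Nat.card (alternatingGroup (Fin 8)) = 20160 from by
    rw [nat_card_alternatingGroup, Nat.card_fin]; rfl] at hA
  have hG := CfsgLib.Signalizer.thompson_order_formula s (K.el 5)
    (orderOf_two ⟨K.s_ne_one (by omega), K.s_sq (by omega)⟩) (orderOf_two (el5_inv K))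
    (fun h => hK.diag h.symm) (E.classes hK)
  rw [h480, card_cent_s K, ← CfsgLib.Signalizer.card_classPairs_conj s (K.el 5) (E.az_conj hK).symm,
    E.card_pairs hK Eight.az_inv.2 (E.cent_le hK ⟨_, rfl⟩ (E.az_conj hK)), show Nat.card (ClassPairs s (K.el 5) (K.el 5)) = _ from A.card_pairs hK,
    ← E.f.range.card_mul_index, E.card_range] at hG
  omega

end Act5

end CfsgLib.Recog.ExtraThirtyTwo
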