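import Cfsg.Agent.Lib.Recog.ExtraThirtyTwo.GlueAlt
import Mathlib.GroupTheory.Perm.Centralizer
import Mathlib.GroupTheory.Perm.Cycle.Type

set_option autoImplicit false
set_option maxRecDepth 100000

/-!
The involutions of `A8` and the centraliser of one moving four points (owner: helper25).
-/

namespace CfsgLib.Recog.ExtraThirtyTwo.Eight

open Equiv Subgroup
open CfsgLib.Recog.Held (allBelow allBelow_spec countBelow card_eq_countBelow)
open Glue (Rep pApp pMul pOne)

/-- The fixed-point-free involution. -/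
def pz : Perm (Fin 8) := swap 0 1 * swap 2 3 * swap 4 5 * swap 6 7
/-- The involution moving four points. -/
def pt : Perm (Fin 8) := swap 0 1 * swap 2 3

/-- The same in `A8`. -/
def az : alternatingGroup (Fin 8) := ⟨pz, Perm.mem_alternatingGroup.2 (by decide +kernel)⟩
/-- The same in `A8`. -/
def at4 : alternatingGroup (Fin 8) := ⟨pt, Perm.mem_alternatingGroup.2 (by decide +kernel)⟩

/-- The number of fixed points. -/
noncomputable def nfix (σ : Perm (Fin 8)) : ℕ := Nat.card {k : Fin 8 // σ k = k}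

/-- The number of fixed points of a packed permutation. -/
noncomputable def nfixP (p : ℕ) : ℕ := countBelow 8 fun k => Nat.beq (pApp p k) k

theorem nfix_rep {σ : Perm (Fin 8)} {p : ℕ} (h : Rep σ p) : nfix σ = nfixP p := by
  rw [nfix, nfixP, CfsgLib.Recog.Held.countBelow_eq, Nat.card_eq_fintype_card, Fintype.card_subtype]
  refine Finset.card_bij (fun k _ => (k : ℕ)) (fun k hk => ?_) (fun a _ b _ e => Fin.ext e) fun k hk => ?_
  · simp only [Finset.mem_filter, Finset.mem_range, Nat.beq_eq] at hk ⊢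
    exact ⟨k.2, by rw [← h k, hk.2]⟩
  · simp only [Finset.mem_filter, Finset.mem_range, Nat.beq_eq] at hk
    exact ⟨⟨k, hk.1⟩, by simpa using Fin.ext ((h ⟨k, hk.1⟩).trans hk.2), rfl⟩

theorem nfix_conj (g σ : Perm (Fin 8)) : nfix (g * σ * g⁻¹) = nfix σ := by
  refine (Nat.card_congr (Equiv.subtypeEquiv g fun k => ?_)).symm
  simp [Equiv.Perm.mul_apply]

theorem pz_fix : nfix pz = 0 := by
  rw [nfix, Nat.card_eq_fintype_card]; decide +kernel

theorem pt_fix : nfix pt = 4 := by
  rw [nfix, Nat.card_eq_fintype_card]; decide +kernel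

/-- An involution of `A8` is conjugate to one of the two. -/
theorem invol_cases {σ : alternatingGroup (Fin 8)} (h1 : σ ≠ 1) (h2 : σ * σ = 1) :
    IsConj σ az ∨ IsConj σ at4 := by
  have hs : (σ : Perm (Fin 8)) ^ 2 = 1 := by rw [pow_two]; exact congrArg Subtype.val h2
  have hne : (σ : Perm (Fin 8)) ≠ 1 := fun e => h1 (Subtype.ext e)
  have : Fact (Nat.Prime 2) := ⟨Nat.prime_two⟩
  obtain ⟨n, hn⟩ := Perm.cycleType_prime_order (σ := (σ : Perm (Fin 8)))
    (by rw [orderOf_eq_prime hs hne]; exact Nat.prime_two)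
  rw [orderOf_eq_prime hs hne] at hn
  have hsum : (σ : Perm (Fin 8)).cycleType.sum ≤ 8 := by
    rw [Perm.sum_cycleType]
    exact le_trans (Finset.card_le_univ _) (by rw [Fintype.card_fin])
  have hsign := Perm.mem_alternatingGroup.1 σ.2
  rw [Perm.sign_of_cycleType, hn] at hsign
  rw [hn, Multiset.sum_replicate, smul_eq_mul] at hsum
  have hcase : n = 3 ∨ n = 1 := by
    have hn4 : n < 4 := by omega
    interval_cases n <;> simp_all [pow_succ]
  have conjTo : ∀ τ : alternatingGroup (Fin 8), (σ : Perm (Fin 8)).cycleType = (τ : Perm (Fin 8)).cycleType →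
      (τ : Perm (Fin 8)) * swap 0 1 = swap 0 1 * (τ : Perm (Fin 8)) → IsConj σ τ := by
    intro τ hct hcomm
    obtain ⟨g, hg⟩ := isConj_iff.1 (Perm.isConj_iff_cycleType_eq.2 hct)
    rcases Int.units_eq_one_or (Perm.sign g) with e | e
    · exact isConj_iff.2 ⟨⟨g, Perm.mem_alternatingGroup.2 e⟩, Subtype.ext hg⟩
    · refine isConj_iff.2 ⟨⟨swap 0 1 * g, Perm.mem_alternatingGroup.2 (by
        rw [map_mul, e, Perm.sign_swap (by decide : (0 : Fin 8) ≠ 1)]; decide)⟩, Subtype.ext ?_⟩
      show swap 0 1 * g * (σ : Perm (Fin 8)) * (swap 0 1 * g)⁻¹ = (τ : Perm (Fin 8))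
      calc swap 0 1 * g * (σ : Perm (Fin 8)) * (swap 0 1 * g)⁻¹
          = swap 0 1 * (g * (σ : Perm (Fin 8)) * g⁻¹) * (swap 0 1)⁻¹ := by group
        _ = (τ : Perm (Fin 8)) := by rw [hg, ← hcomm, mul_inv_cancel_right]
  have cz : (az : Perm (Fin 8)).cycleType = Multiset.replicate 4 2 := by decide +kernel
  have ct : (at4 : Perm (Fin 8)).cycleType = Multiset.replicate 2 2 := by decide +kernel
  rcases hcase with rfl | rfl
  · exact Or.inl (conjTo az (by rw [hn, cz]) (by decide +kernel))
  · exact Or.inr (conjTo at4 (by rw [hn, ct]) (by decide +kernel))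

/-- The two classes are told apart by fixed points. -/
theorem nfix_of_conj {σ : alternatingGroup (Fin 8)} {τ : alternatingGroup (Fin 8)} (h : IsConj σ τ) :
    nfix (σ : Perm (Fin 8)) = nfix (τ : Perm (Fin 8)) := by
  obtain ⟨g, hg⟩ := isConj_iff.1 h
  rw [← hg]
  exact (nfix_conj (g : Perm (Fin 8)) _).symm

theorem conj_iff_fix {σ : alternatingGroup (Fin 8)} (h1 : σ ≠ 1) (h2 : σ * σ = 1) :
    (IsConj σ az ↔ nfix (σ : Perm (Fin 8)) = 0) ∧ (IsConj σ at4 ↔ nfix (σ : Perm (Fin 8)) = 4) := by
  refine ⟨⟨fun h => (nfix_of_conj h).trans pz_fix, fun h => ?_⟩, ⟨fun h => (nfix_of_conj h).trans pt_fix, fun h => ?_⟩⟩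
  · refine (invol_cases h1 h2).resolve_right fun c => ?_
    have := (nfix_of_conj c).trans pt_fix
    omega
  · refine (invol_cases h1 h2).resolve_left fun c => ?_
    have := (nfix_of_conj c).trans pz_fix
    omega

theorem card_cent {τ : alternatingGroup (Fin 8)} (hcomm : (τ : Perm (Fin 8)) * swap 0 1 = swap 0 1 * (τ : Perm (Fin 8))) {m : ℕ}
    (hm : Nat.card (centralizer ({(τ : Perm (Fin 8))} : Set (Perm (Fin 8)))) = 2 * m) :
    Nat.card (centralizer ({τ} : Set (alternatingGroup (Fin 8)))) = m := by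
  set C := centralizer ({(τ : Perm (Fin 8))} : Set (Perm (Fin 8))) with hC
  let χ : C →* ℤˣ := Perm.sign.comp C.subtype
  have hχ : Function.Surjective χ := fun u => by
    rcases Int.units_eq_one_or u with rfl | rfl
    · exact ⟨1, map_one χ⟩
    · exact ⟨⟨swap 0 1, mem_centralizer_singleton_iff.2 hcomm.symm⟩, Perm.sign_swap (by decide : (0 : Fin 8) ≠ 1)⟩
  have h := χ.ker.card_mul_index
  rw [index_ker, MonoidHom.range_eq_top.2 hχ, card_top, Nat.card_eq_fintype_card (α := ℤˣ), Fintype.card_units_int,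
    hm] at h
  have e : Nat.card (centralizer ({τ} : Set (alternatingGroup (Fin 8)))) = Nat.card χ.ker := by
    refine Nat.card_congr ?_
    exact
      { toFun := fun g => ⟨⟨(g.1 : Perm (Fin 8)), mem_centralizer_singleton_iff.2
            (congrArg Subtype.val (mem_centralizer_singleton_iff.1 g.2))⟩,
          Perm.mem_alternatingGroup.1 g.1.2⟩
        invFun := fun g => ⟨⟨(g.1 : Perm (Fin 8)), Perm.mem_alternatingGroup.2 g.2⟩,
          mem_centralizer_singleton_iff.2 (Subtype.ext (mem_centralizer_singleton_iff.1 g.1.2))⟩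
        left_inv := fun g => rfl
        right_inv := fun g => rfl }
  omega

theorem card_cent_az : Nat.card (centralizer ({az} : Set (alternatingGroup (Fin 8)))) = 192 := by
  refine card_cent (by decide +kernel) ?_
  rw [Perm.nat_card_centralizer, Fintype.card_fin]
  decide +kernel

theorem card_cent_at4 : Nat.card (centralizer ({at4} : Set (alternatingGroup (Fin 8)))) = 96 := by
  refine card_cent (by decide +kernel) ?_
  rw [Perm.nat_card_centralizer, Fintype.card_fin]
  decide +kernel

/-- Six generators of the centraliser of `at4`. -/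
def gens : Fin 6 → Perm (Fin 8) :=
  ![swap 0 1 * swap 2 3, swap 0 2 * swap 1 3, swap 4 5 * swap 6 7, swap 4 6 * swap 5 7,
    swap 4 5 * swap 5 6, swap 0 1 * swap 4 5]

/-- The packed generators. -/
def gensP : Fin 6 → ℕ := ![16434369, 16433690, 14571144, 11789960, 15947400, 16406145]

/-- Their exponents in the element with an index. -/
def expo (j : ℕ) : Fin 6 → ℕ := ![j % 2, j / 2 % 2, j / 4 % 2, j / 8 % 2, j / 16 % 3, j / 48]

/-- The element with an index. -/
def cEl (j : ℕ) : Perm (Fin 8) :=
  gens 0 ^ expo j 0 * gens 1 ^ expo j 1 * gens 2 ^ expo j 2 * gens 3 ^ expo j 3 * gens 4 ^ expo j 4 *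
    gens 5 ^ expo j 5

/-- A packed power. -/
noncomputable def pPow (p n : ℕ) : ℕ := Nat.rec (motive := fun _ => ℕ) pOne (fun _ ih => pMul ih p) n

/-- The packed element with an index. -/
noncomputable def cP (j : ℕ) : ℕ :=
  pMul (pMul (pMul (pMul (pMul (pPow (gensP 0) (expo j 0)) (pPow (gensP 1) (expo j 1)))
    (pPow (gensP 2) (expo j 2))) (pPow (gensP 3) (expo j 3))) (pPow (gensP 4) (expo j 4))) (pPow (gensP 5) (expo j 5))

theorem gens_rep : ∀ i, Rep (gens i) (gensP i) := by unfold Glue.Rep; decide +kernel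

theorem gens_even (i : Fin 6) : gens i ∈ alternatingGroup (Fin 8) :=
  Perm.mem_alternatingGroup.2 ((by decide +kernel : ∀ i, Perm.sign (gens i) = 1) i)

theorem gens_comm : ∀ i, gens i * pt = pt * gens i := by decide +kernel

theorem rep_pow {σ : Perm (Fin 8)} {p : ℕ} (h : Rep σ p) : ∀ n, Rep (σ ^ n) (pPow p n)
  | 0 => by rw [pow_zero]; exact Glue.rep_one
  | n + 1 => by rw [pow_succ]; exact (rep_pow h n).mul h

theorem cEl_rep (j : ℕ) : Rep (cEl j) (cP j) :=
  (((((rep_pow (gens_rep 0) _).mul (rep_pow (gens_rep 1) _)).mul (rep_pow (gens_rep 2) _)).mul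
    (rep_pow (gens_rep 3) _)).mul (rep_pow (gens_rep 4) _)).mul (rep_pow (gens_rep 5) _)

theorem cEl_even (j : ℕ) : cEl j ∈ alternatingGroup (Fin 8) :=
  mul_mem (mul_mem (mul_mem (mul_mem (mul_mem (pow_mem (gens_even 0) _) (pow_mem (gens_even 1) _))
    (pow_mem (gens_even 2) _)) (pow_mem (gens_even 3) _)) (pow_mem (gens_even 4) _)) (pow_mem (gens_even 5) _)

/-- The element with an index, in `A8`. -/
def cA (j : ℕ) : alternatingGroup (Fin 8) := ⟨cEl j, cEl_even j⟩

theorem cA_comm (j : ℕ) : cA j * at4 = at4 * cA j := by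
  refine Subtype.ext ?_
  show Commute (cEl j) pt
  exact ((((((show Commute (gens 0) pt from gens_comm 0).pow_left _).mul_left ((show Commute (gens 1) pt from gens_comm 1).pow_left _)).mul_left
    ((show Commute (gens 2) pt from gens_comm 2).pow_left _)).mul_left ((show Commute (gens 3) pt from gens_comm 3).pow_left _)).mul_left
    ((show Commute (gens 4) pt from gens_comm 4).pow_left _)).mul_left ((show Commute (gens 5) pt from gens_comm 5).pow_left _)

/-- The same permutation. -/
noncomputable def pEq (p q : ℕ) : Bool := allBelow 8 fun k => Nat.beq (pApp p k) (pApp q k)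

/-- An involution. -/
noncomputable def isInv (p : ℕ) : Bool := !(pEq p pOne) && pEq (pMul p p) pOne

/-- An involution moving four points. -/
noncomputable def isU (p : ℕ) : Bool := isInv p && Nat.beq (nfixP p) 4

/-- A fixed-point-free involution. -/
noncomputable def isS (p : ℕ) : Bool := isInv p && Nat.beq (nfixP p) 0

/-- A second generator of the normal four-group. -/
noncomputable def isV (a : ℕ) : Bool :=
  isU (cP a) && (isU (pMul (cP 1) (cP a)) && (!(pEq (cP a) (cP 1)) && allBelow 96 fun g =>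
    pEq (pMul (cP g) (cP a)) (pMul (cP a) (cP g)) ||
      pEq (pMul (cP g) (cP a)) (pMul (pMul (cP 1) (cP a)) (cP g))))

/-- An element of the four-group. -/
noncomputable def vP (a w : ℕ) : ℕ :=
  cond (Nat.beq w 0) pOne (cond (Nat.beq w 1) (cP 1) (cond (Nat.beq w 2) (cP a) (pMul (cP 1) (cP a))))

/-- Distinctness of the list. -/
noncomputable def distinctOK : Bool := allBelow 96 fun a => allBelow a fun b => !(pEq (cP a) (cP b))

/-- At most nine fixed-point-free involutions, in three cosets of the four-group, centralising it; at most two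
involutions moving four points in a coset, at most one if it centralises the four-group. -/
noncomputable def cosetsOK : Bool :=
  Nat.beq (countBelow 96 fun j => isS (cP j)) 9 && allBelow 96 fun a => !(isV a) ||
    (allBelow 96 (fun j => !(isS (cP j)) || (pEq (pMul (cP j) (cP a)) (pMul (cP a) (cP j)) &&
        !(allBelow 4 fun w => allBelow 3 fun r => !(pEq (cP j) (pMul (vP a w) (cP (4 * (r + 1)))))))) &&
    allBelow 96 fun j => !(isInv (cP j)) || (!(allBelow 4 fun w => !(pEq (cP j) (vP a w))) ||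
      (Nat.ble (countBelow 4 fun w => isU (pMul (cP j) (vP a w))) 2 &&
        (!(pEq (pMul (cP j) (cP a)) (pMul (cP a) (cP j))) ||
          Nat.ble (countBelow 4 fun w => isU (pMul (cP j) (vP a w))) 1))))

theorem distinct_ok : distinctOK = true := by decide +kernel

theorem cosets_ok : cosetsOK = true := by decide +kernel

theorem pEq_iff {σ τ : Perm (Fin 8)} {p q : ℕ} (hp : Rep σ p) (hq : Rep τ q) : pEq p q = true ↔ σ = τ := by
  simp only [pEq, allBelow_spec, Nat.beq_eq]
  exact ⟨fun h => Equiv.ext fun k => Fin.ext (by rw [hp k, hq k, h k k.2]),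
    fun h k hk => by rw [← hp ⟨k, hk⟩, ← hq ⟨k, hk⟩, h]⟩

theorem cA_inj {a b : ℕ} (ha : a < 96) (hb : b < 96) (h : cA a = cA b) : a = b := by
  have hd := distinct_ok
  simp only [distinctOK, allBelow_spec, Bool.not_eq_true', Bool.eq_false_iff, ne_eq] at hd
  have e : cEl a = cEl b := congrArg Subtype.val h
  rcases Nat.lt_trichotomy a b with c | c | c
  · exact absurd ((pEq_iff (cEl_rep b) (cEl_rep a)).2 e.symm) (hd b hb a c)
  · exact c
  · exact absurd ((pEq_iff (cEl_rep a) (cEl_rep b)).2 e) (hd a ha b c)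

/-- The list is the centraliser. -/
theorem exists_index {g : alternatingGroup (Fin 8)} (hg : g * at4 = at4 * g) : ∃ j < 96, cA j = g := by
  let c : Fin 96 → centralizer ({at4} : Set (alternatingGroup (Fin 8))) :=
    fun j => ⟨cA j, mem_centralizer_singleton_iff.2 (cA_comm j)⟩
  have hc : Function.Injective c := fun a b h => Fin.ext (cA_inj a.2 b.2 (congrArg Subtype.val h))
  obtain ⟨j, hj⟩ := (hc.bijective_of_nat_card_le (by rw [Nat.card_fin, card_cent_at4])).2
    ⟨g, mem_centralizer_singleton_iff.2 hg⟩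
  exact ⟨j, j.2, congrArg Subtype.val hj⟩

end CfsgLib.Recog.ExtraThirtyTwo.Eight
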