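import Cfsg.Agent.Lib.Recog.ExtraThirtyTwo.FinalEight
import Cfsg.Agent.Lib.Recog.ExtraThirtyTwo.Diag
import Cfsg.Agent.Lib.Signalizer.OrderFormula

set_option autoImplicit false

/-!
A copy of `A8` above `C(s)`: the two classes of involutions and what it fixes (owner: helper25).
-/

namespace CfsgLib.Recog.ExtraThirtyTwo

open Subgroup
open CfsgLib.Signalizer (ClassPairs)

variable {G : Type*} [Group G]

/-- An involution in a power of a product of two involutions commutes with both. -/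
theorem commute_of_mem_zpowers {a b z : G} (ha : a * a = 1) (hb : b * b = 1) (hz : z * z = 1)
    (h : z ∈ zpowers (a * b)) : Commute z a ∧ Commute z b := by
  obtain ⟨k, rfl⟩ := mem_zpowers_iff.1 h
  have key : ∀ c : G, c * (a * b) * c⁻¹ = (a * b)⁻¹ → Commute ((a * b) ^ k) c := fun c hc => by
    have h1 : c * (a * b) ^ k * c⁻¹ = (a * b) ^ k := by
      rw [← conj_zpow, hc, inv_zpow]
      exact inv_eq_of_mul_eq_one_right hz
    exact (mul_inv_eq_iff_eq_mul.1 h1).symm
  have ea : a⁻¹ = a := inv_eq_of_mul_eq_one_right ha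
  have eb : b⁻¹ = b := inv_eq_of_mul_eq_one_right hb
  refine ⟨key a ?_, key b ?_⟩
  · rw [mul_inv_rev, ea, eb, ← mul_assoc a a b, ha, one_mul]
  · rw [mul_inv_rev, ea, eb, mul_assoc b (a * b) b, mul_assoc a b b, hb, mul_one]

theorem card_cent_conj (g x : G) :
    Nat.card (centralizer ({g * x * g⁻¹} : Set G)) = Nat.card (centralizer ({x} : Set G)) := by
  refine (Nat.card_congr (Equiv.subtypeEquiv (MulAut.conj g).toEquiv fun y => ?_)).symm
  show _ ↔ g * y * g⁻¹ ∈ centralizer ({g * x * g⁻¹} : Set G)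
  rw [mem_centralizer_singleton_iff, mem_centralizer_singleton_iff, conj_mul, conj_mul]
  exact ⟨fun h => by rw [h], fun h => mul_left_cancel (mul_right_cancel h)⟩

theorem card_cent_map {H : Type*} [Group H] {f : H →* G} (hf : Function.Injective f) (x : H)
    (hx : centralizer ({f x} : Set G) ≤ f.range) :
    Nat.card (centralizer ({f x} : Set G)) = Nat.card (centralizer ({x} : Set H)) := by
  refine (Nat.card_congr (Equiv.ofBijective (fun y => (⟨f y.1, mem_centralizer_singleton_iff.2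
    (by rw [← map_mul, mem_centralizer_singleton_iff.1 y.2, map_mul])⟩ : centralizer ({f x} : Set G)))
    ⟨fun a b h => Subtype.ext (hf (congrArg Subtype.val h)), fun y => ?_⟩)).symm
  obtain ⟨h, hh⟩ := hx y.2
  have hc := mem_centralizer_singleton_iff.1 y.2
  rw [← hh, ← map_mul, ← map_mul] at hc
  exact ⟨⟨h, mem_centralizer_singleton_iff.2 (hf hc)⟩, Subtype.ext hh⟩

variable {s : G}

/-- A copy of `A8` above `C(s)` carrying `at4` to `el 5`. -/
structure Emb (K : Coord s 0) where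
  /-- the embedding -/
  f : alternatingGroup (Fin 8) →* G
  inj : Function.Injective f
  cent : centralizer ({s} : Set G) ≤ f.range
  at4u : f Eight.at4 = K.el 5

variable {K : Coord s 0}

theorem card_cent_s (K : Coord s 0) : Nat.card (centralizer ({s} : Set G)) = 192 := by
  let g : Fin 192 → centralizer ({s} : Set G) := fun x => ⟨K.el x, mem_centralizer_singleton_iff.2 (K.mem x x.2)⟩
  have hg : Function.Bijective g := ⟨fun u v h => Fin.ext (K.el_inj _ u.2 _ v.2 (congrArg Subtype.val h)),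
    fun y => by
      obtain ⟨x, hx, e⟩ := K.surj y (mem_centralizer_singleton_iff.1 y.2)
      exact ⟨⟨x, hx⟩, Subtype.ext e⟩⟩
  rw [← Nat.card_congr (Equiv.ofBijective g hg), Nat.card_fin]

theorem el5_inv (K : Coord s 0) : K.el 5 ≠ 1 ∧ K.el 5 * K.el 5 = 1 :=
  (K.sq_iff (by omega) (x := 5) (by omega)).2 (by decide +kernel)

theorem orderOf_two {g : G} (h : g ≠ 1 ∧ g * g = 1) : orderOf g = 2 :=
  orderOf_eq_prime (hp := ⟨Nat.prime_two⟩) (by rw [pow_two]; exact h.2) h.1

namespace PairPattern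

theorem nonempty_emb [Finite G] (hK : PairPattern K) : Nonempty (Emb K) := by
  obtain ⟨f, hf, hL⟩ := hK.exists_alt8
  obtain ⟨σ, hσ⟩ := hL (mem_centralizer_singleton_iff.2 rfl : s ∈ centralizer ({s} : Set G))
  obtain ⟨τ, hτ⟩ := hL (mem_centralizer_singleton_iff.2 (K.mem 5 (by omega)) : K.el 5 ∈ centralizer ({s} : Set G))
  have inv2 : ∀ x : alternatingGroup (Fin 8), f x ≠ 1 → f x * f x = 1 → x ≠ 1 ∧ x * x = 1 := fun x h1 h2 =>
    ⟨fun e => h1 (by rw [e, map_one]), hf (by rw [map_mul, h2, map_one])⟩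
  have hs : IsConj σ Eight.az := by
    obtain ⟨h1, h2⟩ := inv2 σ (hσ.symm ▸ K.s_ne_one (by omega)) (hσ.symm ▸ K.s_sq (by omega))
    refine (Eight.invol_cases h1 h2).resolve_right fun c => ?_
    obtain ⟨g, hg⟩ := isConj_iff.1 c
    have h := card_cent_conj g σ
    rw [hg, Eight.card_cent_at4, ← card_cent_map hf σ (by rw [hσ]; exact hL), hσ, card_cent_s K] at h
    omega
  have ht : IsConj τ Eight.at4 := by
    obtain ⟨h1, h2⟩ := inv2 τ (hτ.symm ▸ (el5_inv K).1) (hτ.symm ▸ (el5_inv K).2)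
    refine (Eight.invol_cases h1 h2).resolve_left fun c => hK.diag ?_
    have := f.map_isConj (c.trans hs.symm)
    rwa [hσ, hτ] at this
  obtain ⟨g, hg⟩ := isConj_iff.1 ht
  refine ⟨⟨f.comp (MulAut.conj g⁻¹).toMonoidHom, hf.comp (MulAut.conj g⁻¹).injective, ?_, ?_⟩⟩
  · rw [MonoidHom.range_comp, MonoidHom.range_eq_top.2 (MulAut.conj g⁻¹).surjective, ← MonoidHom.range_eq_map]
    exact hL
  · show f (g⁻¹ * Eight.at4 * g⁻¹⁻¹) = _
    rw [← hg, show g⁻¹ * (g * τ * g⁻¹) * g⁻¹⁻¹ = τ by group, hτ]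

end PairPattern

namespace Emb

variable (E : Emb K)

theorem mem5 : K.el 5 ∈ E.f.range := ⟨_, E.at4u⟩

theorem card_range : Nat.card E.f.range = 20160 := by
  rw [Nat.card_congr (MonoidHom.ofInjective E.inj).toEquiv.symm, nat_card_alternatingGroup, Nat.card_fin]
  rfl

theorem inv_iff (x : alternatingGroup (Fin 8)) : (E.f x ≠ 1 ∧ E.f x * E.f x = 1) ↔ (x ≠ 1 ∧ x * x = 1) := by
  rw [← map_mul, ← map_one E.f, E.inj.ne_iff, E.inj.eq_iff]

theorem az_conj (hK : PairPattern K) : IsConj (E.f Eight.az) s := by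
  obtain ⟨σ, hσ⟩ := E.cent (mem_centralizer_singleton_iff.2 rfl : s ∈ centralizer ({s} : Set G))
  obtain ⟨h1, h2⟩ := (E.inv_iff σ).1 (hσ.symm ▸ ⟨K.s_ne_one (by omega), K.s_sq (by omega)⟩)
  have := E.f.map_isConj ((Eight.invol_cases h1 h2).resolve_right fun c => hK.diag (by
    have := E.f.map_isConj c
    rw [hσ, E.at4u] at this
    exact this.symm))
  rw [hσ] at this
  exact this.symm

theorem s_iff (hK : PairPattern K) (x : alternatingGroup (Fin 8)) : IsConj (E.f x) s ↔ IsConj x Eight.az := by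
  refine ⟨fun h => ?_, fun h => (E.f.map_isConj h).trans (E.az_conj hK)⟩
  obtain ⟨h1, h2⟩ := (E.inv_iff x).1 (K.inv_of_isConj (by omega) h)
  refine (Eight.invol_cases h1 h2).resolve_right fun c => hK.diag ?_
  have := E.f.map_isConj c
  rw [E.at4u] at this
  exact this.symm.trans h

theorem u_iff (hK : PairPattern K) (x : alternatingGroup (Fin 8)) :
    IsConj (E.f x) (K.el 5) ↔ IsConj x Eight.at4 := by
  refine ⟨fun h => ?_, fun h => by simpa [E.at4u] using E.f.map_isConj h⟩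
  obtain ⟨h1, h2⟩ := (E.inv_iff x).1 (by
    obtain ⟨g, hg⟩ := isConj_iff.1 h.symm
    rw [← hg]
    exact ⟨fun e => (el5_inv K).1 (by rwa [mul_inv_eq_one, mul_eq_left] at e),
      by rw [conj_mul, (el5_inv K).2, mul_one, mul_inv_cancel]⟩)
  exact (Eight.invol_cases h1 h2).resolve_left fun c =>
    hK.diag (h.symm.trans ((E.f.map_isConj c).trans (E.az_conj hK)))

include E in
/-- Every involution is fused to `s` or to `el 5`. -/
theorem classes [Finite G] (hK : PairPattern K) (t : G) (ht : orderOf t = 2) :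
    IsConj s t ∨ IsConj (K.el 5) t := by
  have : Fact (Nat.Prime 2) := ⟨Nat.prime_two⟩
  obtain ⟨P, hP⟩ := hK.exists_sylow_le
  obtain ⟨T, hT⟩ := (IsPGroup.of_card (n := 1) (by rw [Nat.card_zpowers, ht, pow_one]) :
    IsPGroup 2 (zpowers t)).exists_le_sylow
  obtain ⟨g, hg⟩ := MulAction.exists_smul_eq G T P
  obtain ⟨x, hx⟩ : g * t * g⁻¹ ∈ E.f.range :=
    E.cent (hP (by rw [← hg]; exact ⟨t, hT (mem_zpowers _), rfl⟩))
  have hc : IsConj (E.f x) t := by
    rw [hx]
    exact (isConj_iff.2 ⟨g, rfl⟩ : IsConj t _).symm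
  have ho : orderOf (E.f x) = 2 := by rw [← CfsgLib.Signalizer.orderOf_of_isConj hc, ht]
  obtain ⟨h1, h2⟩ := (E.inv_iff x).1 ⟨fun e => by simp [e] at ho, by
    have := pow_orderOf_eq_one (E.f x); rwa [ho, pow_two] at this⟩
  rcases Eight.invol_cases h1 h2 with c | c
  · exact Or.inl (((E.s_iff hK x).2 c).symm.trans hc)
  · exact Or.inr (((E.u_iff hK x).2 c).symm.trans hc)

/-- Conjugates of `s` in the copy are conjugate in it. -/
theorem conj_in (hK : PairPattern K) {a b : G} (ha : a ∈ E.f.range) (hb : b ∈ E.f.range) (has : IsConj a s)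
    (hbs : IsConj b s) : ∃ h ∈ E.f.range, h * a * h⁻¹ = b := by
  obtain ⟨x, rfl⟩ := ha
  obtain ⟨y, rfl⟩ := hb
  obtain ⟨g, hg⟩ := isConj_iff.1 (((E.s_iff hK x).1 has).trans ((E.s_iff hK y).1 hbs).symm)
  exact ⟨E.f g, ⟨g, rfl⟩, by rw [← hg]; simp⟩

theorem cent_le (hK : PairPattern K) {a : G} (ha : a ∈ E.f.range) (has : IsConj a s) :
    centralizer ({a} : Set G) ≤ E.f.range := by
  obtain ⟨h, hh, e⟩ := E.conj_in hK ha (E.cent (mem_centralizer_singleton_iff.2 rfl)) has (IsConj.refl s)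
  intro y hy
  have hy' : h * y * h⁻¹ ∈ E.f.range := E.cent (mem_centralizer_singleton_iff.2 (by
    rw [← e, conj_mul, conj_mul, mem_centralizer_singleton_iff.1 hy]))
  have := mul_mem (mul_mem (inv_mem hh) hy') hh
  rwa [show h⁻¹ * (h * y * h⁻¹) * h = y by group] at this

/-- A conjugate of `s` in the copy fixes only its own coset. -/
theorem fix_unique (hK : PairPattern K) {a g : G} (ha : a ∈ E.f.range) (has : IsConj a s)
    (hg : g⁻¹ * a * g ∈ E.f.range) : g ∈ E.f.range := by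
  have hbs : IsConj (g⁻¹ * a * g) s := (isConj_iff.2 ⟨g, by group⟩ : IsConj (g⁻¹ * a * g) a).trans has
  obtain ⟨h, hh, e⟩ := E.conj_in hK ha hg has hbs
  have hc : g * h ∈ centralizer ({a} : Set G) := mem_centralizer_singleton_iff.2 (by
    have e' : g * h * a * (g * h)⁻¹ = a := by
      calc g * h * a * (g * h)⁻¹ = g * (h * a * h⁻¹) * g⁻¹ := by group
        _ = a := by rw [e]; group
    exact mul_inv_eq_iff_eq_mul.1 e')
  have := mul_mem (E.cent_le hK ha has hc) (inv_mem hh)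
  rwa [mul_inv_cancel_right] at this

/-- The part of `C(el 5)` in the copy. -/
theorem index96 {g : G} (hg : g ∈ E.f.range) (hu : Commute g (K.el 5)) : ∃ j < 96, E.f (Eight.cA j) = g := by
  obtain ⟨x, rfl⟩ := hg
  obtain ⟨j, hj, e⟩ := Eight.exists_index (g := x) (E.inj (by rw [map_mul, map_mul, E.at4u]; exact hu.eq))
  exact ⟨j, hj, by rw [e]⟩

theorem cA_commute (j : ℕ) : Commute (E.f (Eight.cA j)) (K.el 5) := by
  rw [← E.at4u]
  exact (show Commute (Eight.cA j) Eight.at4 from Eight.cA_comm j).map E.f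

theorem card_inf : Nat.card (E.f.range ⊓ centralizer ({K.el 5} : Set G) : Subgroup G) = 96 := by
  let c : Fin 96 → (E.f.range ⊓ centralizer ({K.el 5} : Set G) : Subgroup G) := fun j =>
    ⟨E.f (Eight.cA j), ⟨_, rfl⟩, mem_centralizer_singleton_iff.2 (E.cA_commute j).eq⟩
  have hc : Function.Bijective c := ⟨fun a b h => Fin.ext (Eight.cA_inj a.2 b.2 (E.inj (congrArg Subtype.val h))),
    fun y => by
      obtain ⟨j, hj, e⟩ := E.index96 y.2.1 (mem_centralizer_singleton_iff.1 y.2.2)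
      exact ⟨⟨j, hj⟩, Subtype.ext e⟩⟩
  rw [← Nat.card_congr (Equiv.ofBijective c hc), Nat.card_fin]

/-- Pairs whose product has a power with centraliser in the copy lie in it. -/
theorem card_pairs (hK : PairPattern K) {z : alternatingGroup (Fin 8)} (hz1 : z * z = 1)
    (hz : centralizer ({E.f z} : Set G) ≤ E.f.range) :
    Nat.card (ClassPairs s (K.el 5) (E.f z)) = Nat.card (ClassPairs Eight.az Eight.at4 z) := by
  refine (Nat.card_congr (Equiv.ofBijective (fun p => (⟨(E.f p.1.1, E.f p.1.2),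
    ((E.s_iff hK _).2 p.2.1.symm).symm, ((E.u_iff hK _).2 p.2.2.1.symm).symm, by
      obtain ⟨k, hk⟩ := mem_zpowers_iff.1 p.2.2.2
      exact mem_zpowers_iff.2 ⟨k, by rw [← map_mul, ← map_zpow, hk]⟩⟩ : ClassPairs s (K.el 5) (E.f z)))
    ⟨fun p q h => ?_, ?_⟩)).symm
  · obtain ⟨h1, h2⟩ := Prod.ext_iff.1 (congrArg Subtype.val h)
    exact Subtype.ext (Prod.ext (E.inj h1) (E.inj h2))
  rintro ⟨⟨a, b⟩, ha, hb, hab⟩
  obtain ⟨ca, cb⟩ := commute_of_mem_zpowers (K.inv_of_isConj (by omega) ha.symm).2 (by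
    obtain ⟨g, hg⟩ := isConj_iff.1 hb
    rw [← hg, conj_mul, (el5_inv K).2, mul_one, mul_inv_cancel]) (by rw [← map_mul, hz1, map_one]) hab
  obtain ⟨x, hx⟩ := hz (mem_centralizer_singleton_iff.2 ca.symm.eq : a ∈ _)
  obtain ⟨y, hy⟩ := hz (mem_centralizer_singleton_iff.2 cb.symm.eq : b ∈ _)
  subst hx hy
  refine ⟨⟨(x, y), ((E.s_iff hK x).1 ha.symm).symm, ((E.u_iff hK y).1 hb.symm).symm, ?_⟩, rfl⟩
  obtain ⟨k, hk⟩ := mem_zpowers_iff.1 hab
  exact mem_zpowers_iff.2 ⟨k, E.inj (by rw [map_zpow, map_mul, hk])⟩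

/-- If `C(el 5)` is in the copy, the copy is everything. -/
theorem eq_top_of_cent_le [Finite G] [IsSimpleGroup G] (hK : PairPattern K)
    (hu : centralizer ({K.el 5} : Set G) ≤ E.f.range) : E.f.range = ⊤ := by
  by_contra hne
  obtain ⟨a, has, ha⟩ : ∃ a, IsConj a s ∧ a ∉ E.f.range := by
    by_contra hcon
    push Not at hcon
    have hle : normalClosure ({s} : Set G) ≤ E.f.range := by
      rw [normalClosure, closure_le]
      intro y hy
      obtain ⟨z, hz, hzy⟩ := Group.mem_conjugatesOfSet_iff.1 hy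
      rw [Set.mem_singleton_iff.1 hz] at hzy
      exact hcon y hzy.symm
    rcases IsSimpleGroup.eq_bot_or_eq_top_of_normal (normalClosure ({s} : Set G)) normalClosure_normal with h | h
    · exact K.s_ne_one (by omega) (by simpa [h] using (subset_normalClosure (Set.mem_singleton s) : s ∈ normalClosure _))
    · exact hne (top_le_iff.1 (h ▸ hle))
  have ho1 := orderOf_two (K.inv_of_isConj (by omega) has)
  have ho2 := orderOf_two (el5_inv K)
  have heven : Even (orderOf (a * K.el 5)) := by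
    rw [← Nat.not_odd_iff_even]
    intro hodd
    obtain ⟨d, -, hd⟩ := CfsgLib.Signalizer.exists_conj_of_odd ho1 ho2 hodd
    exact hK.diag ((isConj_iff.2 ⟨d, hd⟩ : IsConj a _).symm.trans has)
  obtain ⟨hz, hza, hzu⟩ := CfsgLib.Signalizer.central_involution ho1 ho2 heven
  set z := (a * K.el 5) ^ (orderOf (a * K.el 5) / 2)
  obtain ⟨x, hx⟩ := hu (mem_centralizer_singleton_iff.2 hzu.eq : z ∈ _)
  obtain ⟨h1, h2⟩ := (E.inv_iff x).1 (hx.symm ▸ ⟨fun e => by simp [e] at hz, by
    have := pow_orderOf_eq_one z; rwa [hz, pow_two] at this⟩)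
  refine ha ?_
  rcases Eight.invol_cases h1 h2 with c | c
  · exact E.cent_le hK ⟨x, hx⟩ (hx ▸ (E.s_iff hK x).2 c) (mem_centralizer_singleton_iff.2 hza.symm.eq)
  · obtain ⟨g, hg⟩ := isConj_iff.1 c
    have e : E.f g * z * (E.f g)⁻¹ = K.el 5 := by rw [← hx, ← E.at4u, ← hg]; simp
    have hy : E.f g * a * (E.f g)⁻¹ ∈ E.f.range := hu (mem_centralizer_singleton_iff.2 (by
      rw [← e, conj_mul, conj_mul, hza.eq]))
    have hgm : E.f g ∈ E.f.range := ⟨g, rfl⟩
    have := mul_mem (mul_mem (inv_mem hgm) hy) hgm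
    rwa [show (E.f g)⁻¹ * (E.f g * a * (E.f g)⁻¹) * E.f g = a by group] at this

end Emb

end CfsgLib.Recog.ExtraThirtyTwo
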