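import Cfsg.Agent.Lib.Recog.ExtraThirtyTwo.FinalAct

set_option autoImplicit false
set_option maxRecDepth 100000

/-!
Pairs in `C(el 5)` with one member outside the copy of `A8` (owner: helper25).
-/

namespace CfsgLib.Recog.ExtraThirtyTwo

open Equiv Subgroup
open CfsgLib.Recog.Held (allBelow allBelow_spec countBelow countBelow_eq)

variable {G : Type*} [Group G] [Finite G] {s : G} {K : Coord s 0}

omit [Finite G] in
theorem InFour.sq {x : G} (hx : InFour K x) : x * x = 1 := by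
  rcases hx with rfl | rfl | rfl | rfl
  · exact mul_one 1
  · exact ((K.sq_iff (by omega) (x := 5) (by omega)).2 (by decide +kernel)).2
  · exact ((K.sq_iff (by omega) (x := 113) (by omega)).2 (by decide +kernel)).2
  · exact ((K.sq_iff (by omega) (x := 116) (by omega)).2 (by decide +kernel)).2

omit [Finite G] in
theorem InFour.commute {x g : G} (hx : InFour K x) (hu : Commute g (K.el 5)) (hv : Commute g (K.el 113)) :
    Commute g x := by
  rcases hx with rfl | rfl | rfl | rfl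
  exacts [Commute.one_right g, hu, hv, el116 K ▸ hu.mul_right hv]

omit [Finite G] in
theorem v_comm_u (K : Coord s 0) : Commute (K.el 113) (K.el 5) :=
  (K.comm_iff (by omega) (by omega) (by omega)).2 (by decide +kernel)

namespace Emb

variable (E : Emb K)

/-- The second generator of `V` in the list. -/
theorem exists_v (hK : PairPattern K) : ∃ a < 96, E.f (Eight.cA a) = K.el 113 ∧ Eight.isV a = true := by
  have h4 : (0 : ℕ) < 4 := by omega
  obtain ⟨a, ha, hv⟩ := E.index96 (E.cent (mem_centralizer_singleton_iff.2 (K.mem 113 (by omega)))) (v_comm_u K)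
  refine ⟨a, ha, hv, ?_⟩
  have hu1 : E.f (Eight.cA 1) = K.el 5 := by rw [Eight.cA_one, E.at4u]
  have hw : E.f (Eight.cA 1 * Eight.cA a) = K.el 116 := by rw [map_mul, hu1, hv, el116]
  have typ : ∀ x : alternatingGroup (Fin 8), ∀ j < 192, E.f x = K.el j → cls 0 j ≠ 0 →
      colOn 11 (cls 0 j) = false → IsConj x Eight.at4 := by
    intro x j hj e hc hcol
    obtain ⟨h1, h2⟩ := (E.inv_iff x).1 (e.symm ▸ (K.sq_iff h4 hj).2 hc)
    refine (Eight.invol_cases h1 h2).resolve_left fun c => ?_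
    have h := (K.mask_spec h4 hj).1 (e ▸ (E.s_iff hK x).2 c)
    rw [hK.mask_eq, hcol] at h
    exact Bool.false_ne_true h
  simp only [Eight.isV, Bool.and_eq_true, allBelow_spec, Bool.or_eq_true, Bool.not_eq_true', Bool.eq_false_iff,
    ne_eq]
  refine ⟨(Eight.isU_iff (σ := Eight.cA a) (Eight.cEl_rep a)).2
      (typ _ 113 (by omega) hv (by decide +kernel) (by decide +kernel)),
    (Eight.isU_iff (σ := Eight.cA 1 * Eight.cA a) ((Eight.cEl_rep 1).mul (Eight.cEl_rep a))).2
      (typ _ 116 (by omega) hw (by decide +kernel) (by decide +kernel)), fun h => ?_, fun g _ => ?_⟩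
  · have e : Eight.cA a = Eight.cA 1 := Subtype.ext ((Eight.pEq_iff (Eight.cEl_rep a) (Eight.cEl_rep 1)).1 h)
    have := K.el_inj 113 (by omega) 5 (by omega) (by rw [← hv, e, hu1])
    omega
  · have key : ∀ x y : alternatingGroup (Fin 8), E.f x * E.f y = E.f y * E.f x → (x : Perm (Fin 8)) * y = y * x :=
      fun x y h => congrArg Subtype.val (E.inj (by rw [map_mul, map_mul, h]) : x * y = y * x)
    rcases hK.diagFacts.normal _ (E.cA_commute g) with h | h
    · left
      refine (Eight.pEq_iff ((Eight.cEl_rep g).mul (Eight.cEl_rep a)) ((Eight.cEl_rep a).mul (Eight.cEl_rep g))).2 ?_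
      exact key (Eight.cA g) (Eight.cA a) (by rw [hv]; exact mul_inv_eq_iff_eq_mul.1 h)
    · right
      refine (Eight.pEq_iff ((Eight.cEl_rep g).mul (Eight.cEl_rep a))
        (((Eight.cEl_rep 1).mul (Eight.cEl_rep a)).mul (Eight.cEl_rep g))).2 ?_
      refine congrArg Subtype.val (E.inj ?_ : Eight.cA g * Eight.cA a = Eight.cA 1 * Eight.cA a * Eight.cA g)
      rw [map_mul, map_mul _ (Eight.cA 1 * Eight.cA a), hw, hv]
      exact mul_inv_eq_iff_eq_mul.1 h

omit [Finite G] in
theorem four_iff {a : ℕ} (ha : E.f (Eight.cA a) = K.el 113) (x : G) :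
    InFour K x ↔ ∃ w < 4, E.f (Eight.vA a w) = x := by
  have h1 : E.f (Eight.vA a 1) = K.el 5 := by rw [Eight.vA, Eight.cA_one, E.at4u]
  have h2 : E.f (Eight.vA a 2) = K.el 113 := by rw [Eight.vA, ha]
  have h3 : E.f (Eight.vA a 3) = K.el 116 := by
    rw [show Eight.vA a 3 = Eight.cA 1 * Eight.cA a from by rw [Eight.vA] <;> omega, map_mul, Eight.cA_one, E.at4u,
      ha, el116]
  have h0 : E.f (Eight.vA a 0) = 1 := by rw [Eight.vA, map_one]
  constructor
  · rintro (rfl | rfl | rfl | rfl)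
    exacts [⟨0, by omega, h0⟩, ⟨1, by omega, h1⟩, ⟨2, by omega, h2⟩, ⟨3, by omega, h3⟩]
  · rintro ⟨w, hw, rfl⟩
    interval_cases w
    exacts [Or.inl h0, Or.inr (Or.inl h1), Or.inr (Or.inr (Or.inl h2)), Or.inr (Or.inr (Or.inr h3))]

omit [Finite G] in
/-- There are at most nine conjugates of `s` in the copy commuting with `el 5`. -/
theorem card_sType (hK : PairPattern K) :
    Nat.card {i : G // i ∈ E.f.range ∧ Commute i (K.el 5) ∧ IsConj i s} ≤ 9 := by
  have hc := Eight.cosets_ok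
  simp only [Eight.cosetsOK, Bool.and_eq_true, Nat.beq_eq] at hc
  have h9 := hc.1
  rw [countBelow_eq] at h9
  rw [← h9, ← Nat.card_eq_finsetCard]
  have hidx : ∀ i : {i : G // i ∈ E.f.range ∧ Commute i (K.el 5) ∧ IsConj i s},
      ∃ j ∈ (Finset.range 96).filter (fun j => Eight.isS (Eight.cP j)), E.f (Eight.cA j) = i.1 := fun i => by
    obtain ⟨j, hj, e⟩ := E.index96 i.2.1 i.2.2.1
    exact ⟨j, Finset.mem_filter.2 ⟨Finset.mem_range.2 hj,
      (Eight.isS_iff (σ := Eight.cA j) (Eight.cEl_rep j)).2 ((E.s_iff hK _).1 (e.symm ▸ i.2.2.2))⟩, e⟩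
  choose j hj he using hidx
  exact Nat.card_le_card_of_injective (fun i => (⟨j i, hj i⟩ : _)) fun p q h =>
    Subtype.ext (by rw [← he p, ← he q, show j p = j q from congrArg Subtype.val h])

/-- Three cosets of `V` contain them. -/
theorem sType_cosets (hK : PairPattern K) {i : G} (hi : i ∈ E.f.range) (hu : Commute i (K.el 5)) (hs : IsConj i s) :
    Commute i (K.el 113) ∧ ∃ r < 3, InFour K (i * (E.f (Eight.cA (4 * (r + 1))))⁻¹) := by
  obtain ⟨a, ha, hv, haV⟩ := E.exists_v hK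
  have hc := Eight.cosets_ok
  simp only [Eight.cosetsOK, Bool.and_eq_true, allBelow_spec, Bool.or_eq_true, Bool.not_eq_true',
    Bool.eq_false_iff, ne_eq] at hc
  obtain ⟨j, hj, rfl⟩ := E.index96 hi hu
  have hS := (Eight.isS_iff (σ := Eight.cA j) (Eight.cEl_rep j)).2 ((E.s_iff hK _).1 hs)
  obtain ⟨h1, h2⟩ := (((hc.2 a ha).resolve_left fun h => h haV).1 j hj).resolve_left fun h => h hS
  constructor
  · rw [← hv]
    refine (show Commute (Eight.cA j) (Eight.cA a) from Subtype.ext ?_).map E.f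
    exact (Eight.pEq_iff ((Eight.cEl_rep j).mul (Eight.cEl_rep a)) ((Eight.cEl_rep a).mul (Eight.cEl_rep j))).1 h1
  · push Not at h2
    obtain ⟨w, hw, r, hr, h⟩ := h2
    refine ⟨r, hr, (E.four_iff hv _).2 ⟨w, hw, ?_⟩⟩
    have e : Eight.cA j = Eight.vA a w * Eight.cA (4 * (r + 1)) :=
      Subtype.ext ((Eight.pEq_iff (Eight.cEl_rep j) ((Eight.vA_rep a w).mul (Eight.cEl_rep _))).1 h)
    rw [e, map_mul, mul_inv_cancel_right]

end Emb

namespace Act5

variable {E : Emb K} (A : Act5 E)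

omit [Finite G] in
theorem fix_iff (r g : centralizer ({K.el 5} : Set G)) :
    A.ρ g (A.ρ r 0) = A.ρ r 0 ↔ (r : G)⁻¹ * g * r ∈ E.f.range := by
  have e : A.ρ g (A.ρ r 0) = A.ρ r (A.ρ (r⁻¹ * g * r) 0) := by
    rw [← Perm.mul_apply, ← Perm.mul_apply, ← map_mul, ← map_mul]
    congr 2; group
  rw [e, (A.ρ r).injective.eq_iff, A.zero]
  rfl

omit [Finite G] in
theorem exists_moving (k : Fin 5) : ∃ r, A.ρ r 0 = k := by
  obtain ⟨r, hr⟩ := A.surj (Equiv.swap 0 k)
  exact ⟨r, by rw [hr, Equiv.swap_apply_left]⟩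

omit [Finite G] in
theorem eq_of_rho {g g' : centralizer ({K.el 5} : Set G)} (h : A.ρ g = A.ρ g') : InFour K ((g⁻¹ * g' : _) : G) :=
  (A.ker _).1 (by rw [map_mul, map_inv, h, inv_mul_cancel])

/-- An even involution on the five points comes from elements centralising `V`. -/
theorem comm_v_of_even (hK : PairPattern K) {b : centralizer ({K.el 5} : Set G)} (h2 : A.ρ b * A.ρ b = 1)
    (he : Perm.sign (A.ρ b) = 1) : Commute (b : G) (K.el 113) := by
  obtain ⟨q, hq⟩ := Eight.five_sq _ h2 he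
  obtain ⟨y, rfl⟩ := A.surj q
  have hy : Commute (y : G) (K.el 5) := mem_centralizer_singleton_iff.1 y.2
  have hyy : Commute ((y : G) * y) (K.el 113) := by
    refine mul_inv_eq_iff_eq_mul.1 ?_
    rw [show (y : G) * y * K.el 113 * ((y : G) * y)⁻¹ = y * (y * K.el 113 * (y : G)⁻¹) * (y : G)⁻¹ by group]
    rcases hK.diagFacts.normal _ hy with h | h
    · rw [h, h]
    · rw [h, ← el116, ← conj_mul, hy.eq, mul_inv_cancel_right, h, ← el116, ← mul_assoc, (el5_inv K).2, one_mul]
  have ht := A.eq_of_rho (g := y * y) (g' := b) (by rw [map_mul, hq])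
  have := hyy.mul_left (ht.commute (v_comm_u K) (Commute.refl _)).symm
  rwa [Subgroup.coe_mul, Subgroup.coe_inv, Subgroup.coe_mul, mul_inv_cancel_left] at this

/-- In a coset of `V` there are at most two involutions fused to `el 5`, at most one if it centralises `V`. -/
theorem card_lifts (hK : PairPattern K) {π : Perm (Fin 5)} (h2 : π * π = 1) (h1 : π ≠ 1) :
    Nat.card {b : centralizer ({K.el 5} : Set G) // A.ρ b = π ∧ IsConj (b : G) (K.el 5)} ≤ 2 ∧
    (Perm.sign π = 1 →
      Nat.card {b : centralizer ({K.el 5} : Set G) // A.ρ b = π ∧ IsConj (b : G) (K.el 5)} ≤ 1) := by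
  set B := {b : centralizer ({K.el 5} : Set G) // A.ρ b = π ∧ IsConj (b : G) (K.el 5)}
  rcases isEmpty_or_nonempty B with hB | ⟨⟨b0⟩⟩
  · simp
  obtain ⟨k, hk⟩ := Eight.five_fix π h2
  obtain ⟨r, rfl⟩ := A.exists_moving k
  have hru : Commute (r : G) (K.el 5) := mem_centralizer_singleton_iff.1 r.2
  have hidx : ∀ b : B, ∃ j < 96, E.f (Eight.cA j) = (r : G)⁻¹ * b.1 * r := fun b =>
    E.index96 ((A.fix_iff r b.1).1 (by rw [b.2.1]; exact hk))
      ((hru.inv_left.mul_left (mem_centralizer_singleton_iff.1 b.1.2)).mul_left hru)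
  obtain ⟨a, ha, hv, haV⟩ := E.exists_v hK
  have hc := Eight.cosets_ok
  simp only [Eight.cosetsOK, Bool.and_eq_true, allBelow_spec, Bool.or_eq_true, Bool.not_eq_true',
    Bool.eq_false_iff, ne_eq, Nat.ble_eq] at hc
  choose j hj he using hidx
  have hinv : ∀ b : B, IsConj (Eight.cA (j b)) Eight.at4 := fun b => (E.u_iff hK _).1 (by
    rw [he]
    exact (isConj_iff.2 ⟨(r : G), by group⟩ : IsConj ((r : G)⁻¹ * b.1 * r) b.1).trans b.2.2)
  have hnot : ¬ InFour K (E.f (Eight.cA (j b0))) := fun h => by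
    refine h1 ?_
    have h' : A.ρ (r⁻¹ * b0.1 * r) = 1 := (A.ker _).2 (by rw [he b0] at h; exact h)
    rw [map_mul, map_mul, map_inv, b0.2.1] at h'
    calc π = A.ρ r * ((A.ρ r)⁻¹ * π * A.ρ r) * (A.ρ r)⁻¹ := by group
      _ = 1 := by rw [h']; group
  obtain hV | hcount := ((hc.2 a ha).resolve_left fun h => h haV).2 (j b0) (hj b0) |>.resolve_left fun h =>
    h ((Eight.isInv_iff (σ := Eight.cA (j b0)) (Eight.cEl_rep _)).2 (Eight.conj_inv (hinv b0) Eight.at4_inv))
  · exfalso
    push Not at hV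
    obtain ⟨w, hw, h⟩ := hV
    refine hnot ((E.four_iff hv _).2 ⟨w, hw, congrArg E.f ?_⟩)
    exact (Subtype.ext ((Eight.pEq_iff (Eight.cEl_rep _) (Eight.vA_rep a w)).1 h)).symm
  set W := (Finset.range 4).filter fun w => Eight.isU (Glue.pMul (Eight.cP (j b0)) (Eight.vP a w)) with hW
  have hw : ∀ b : B, ∃ w ∈ W, E.f (Eight.cA (j b0) * Eight.vA a w) = (r : G)⁻¹ * b.1 * r := fun b => by
    have h := A.eq_of_rho (g := r⁻¹ * b0.1 * r) (g' := r⁻¹ * b.1 * r)
      (by rw [map_mul, map_mul, map_mul, map_mul, b0.2.1, b.2.1])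
    rw [Subgroup.coe_mul, Subgroup.coe_inv] at h
    change InFour K (((r : G)⁻¹ * b0.1 * r)⁻¹ * ((r : G)⁻¹ * b.1 * r)) at h
    rw [← he, ← he] at h
    obtain ⟨w, hw4, hwe⟩ := (E.four_iff hv _).1 h
    have e : Eight.cA (j b0) * Eight.vA a w = Eight.cA (j b) := E.inj (by rw [map_mul, hwe, mul_inv_cancel_left])
    refine ⟨w, Finset.mem_filter.2 ⟨Finset.mem_range.2 hw4, ?_⟩, by rw [e, he]⟩
    exact (Eight.isU_iff (σ := Eight.cA (j b0) * Eight.vA a w) ((Eight.cEl_rep _).mul (Eight.vA_rep a w))).2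
      (e.symm ▸ hinv b)
  choose w hwW hwe using hw
  have hle : Nat.card B ≤ W.card := by
    rw [← Nat.card_eq_finsetCard]
    refine Nat.card_le_card_of_injective (fun b => (⟨w b, hwW b⟩ : W)) fun p q h => ?_
    have e : (r : G)⁻¹ * p.1 * r = (r : G)⁻¹ * q.1 * r := by rw [← hwe p, ← hwe q, show w p = w q from congrArg Subtype.val h]
    exact Subtype.ext (Subtype.ext (mul_left_cancel (mul_right_cancel e)))
  rw [countBelow_eq] at hcount
  refine ⟨hle.trans hcount.1, fun hev => hle.trans (hcount.2.resolve_left fun h => h ?_)⟩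
  refine (Eight.pEq_iff ((Eight.cEl_rep _).mul (Eight.cEl_rep a)) ((Eight.cEl_rep a).mul (Eight.cEl_rep _))).2 ?_
  refine congrArg Subtype.val (E.inj ?_ : Eight.cA (j b0) * Eight.cA a = Eight.cA a * Eight.cA (j b0))
  rw [map_mul, map_mul, hv, he]
  have hb : Commute (b0.1 : G) (K.el 113) :=
    A.comm_v_of_even hK (by rw [b0.2.1, h2]) (by rw [b0.2.1, hev])
  have hbu : Commute (b0.1 : G) (K.el 5) := mem_centralizer_singleton_iff.1 b0.1.2
  have hrv : InFour K ((r : G) * K.el 113 * (r : G)⁻¹) := by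
    rcases hK.diagFacts.normal _ hru with h | h <;> rw [h]
    exacts [Or.inr (Or.inr (Or.inl rfl)), Or.inr (Or.inr (Or.inr rfl))]
  have h := (hrv.commute hbu hb).map (MulAut.conj (r : G)⁻¹).toMonoidHom
  simpa [mul_assoc] using h.eq

end Act5

end CfsgLib.Recog.ExtraThirtyTwo
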