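import Cfsg.Agent.Lib.Recog.ExtraThirtyTwo.Setting
import Cfsg.Agent.Lib.Recog.ExtraThirtyTwo.FrameCheck

set_option autoImplicit false

/-!
Frames in `Q = O₂(C(s))` (owner: helper22).
-/

namespace CfsgLib.Recog.ExtraThirtyTwo

variable {G : Type*} [Group G]

/-- An element or `1`. -/
def pw (z : G) (b : Bool) : G := cond b z 1

/-- Conjugation. -/
def cj (g z : G) : G := g * z * g⁻¹

theorem cj_mul (g y z : G) : cj g (y * z) = cj g y * cj g z := (conj_mul).symm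

theorem cj_cj (g h z : G) : cj g (cj h z) = cj (g * h) z := by simp [cj, mul_assoc]

theorem cj_one (g : G) : cj g 1 = 1 := by simp [cj]

theorem cj_pw (g z : G) (b : Bool) : cj g (pw z b) = pw (cj g z) b := by
  cases b
  · exact cj_one g
  · rfl

theorem cj_inj {g y z : G} (h : cj g y = cj g z) : y = z := mul_left_cancel (mul_right_cancel h)

theorem cj_commute {g z : G} (h : Commute g z) : cj g z = z := mul_inv_eq_of_eq_mul h.eq

theorem Setting.cj_mem {s : G} {Q : Subgroup G} (S : Setting s Q) {g : G} (hg : Commute g s) {q : G}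
    (hq : q ∈ Q) : cj g q ∈ Q := S.conj_mem g hg q hq

theorem Setting.s_swap {s : G} {Q : Subgroup G} (S : Setting s Q) {q : G} (hq : q ∈ Q) (t : G) :
    s * (q * t) = q * (s * t) := by
  rw [← mul_assoc, ← (S.le q hq).eq, mul_assoc]

/-- Two involutions with orbits of product one under `a`, each commuting with one member of the other orbit. -/
structure FrameQ {s : G} {Q : Subgroup G} (S : Setting s Q) (x y : G) : Prop where
  xQ : x ∈ Q
  yQ : y ∈ Q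
  x2 : x * x = 1
  y2 : y * y = 1
  xo : x * cj S.a x * cj S.a (cj S.a x) = 1
  yo : y * cj S.a y * cj S.a (cj S.a y) = 1
  com : Commute x y
  ncom : ¬ Commute x (cj S.a y)

namespace FrameQ

variable {s : G} {Q : Subgroup G} {S : Setting s Q} {x y : G}

/-- The product with five exponents. -/
def Qb (S : Setting s Q) (x y : G) (b₀ b₁ b₂ b₃ b₄ : Bool) : G :=
  pw x b₀ * (pw (cj S.a x) b₁ * (pw y b₂ * (pw (cj S.a y) b₃ * pw s b₄)))

/-- The element of a code. -/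
def qC (S : Setting s Q) (x y : G) (p : ℕ) : G :=
  Qb S x y (bit p 0) (bit p 1) (bit p 2) (bit p 3) (bit p 4)

theorem third (q : G) (hq2 : q * q = 1) (ho : q * cj S.a q * cj S.a (cj S.a q) = 1) :
    cj S.a (cj S.a q) = q * cj S.a q ∧ Commute q (cj S.a q) := by
  have h1 : cj S.a q * cj S.a q = 1 := by rw [← cj_mul, hq2, cj_one]
  have h2 : cj S.a (cj S.a q) * cj S.a (cj S.a q) = 1 := by rw [← cj_mul, h1, cj_one]
  have h3 : cj S.a (cj S.a q) = q * cj S.a q :=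
    ((mul_eq_one_iff_eq_inv.1 ho).trans (inv_eq_of_mul_eq_one_right h2)).symm
  refine ⟨h3, ?_⟩
  show q * cj S.a q = cj S.a q * q
  have h4 := h2
  rw [h3] at h4
  rw [← inv_eq_of_mul_eq_one_right h4, mul_inv_rev, inv_eq_of_mul_eq_one_right h1,
    inv_eq_of_mul_eq_one_right hq2]

theorem three (z : G) : cj S.a (cj S.a (cj S.a z)) = z := by
  rw [cj_cj, cj_cj, S.a3]
  simp [cj]

variable (F : FrameQ S x y)
include F

theorem x'Q : cj S.a x ∈ Q := S.cj_mem S.a_comm F.xQ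

theorem y'Q : cj S.a y ∈ Q := S.cj_mem S.a_comm F.yQ

theorem anti₁ : cj S.a y * x = x * (cj S.a y * s) := by
  rcases S.comm _ F.y'Q _ F.xQ with h | h
  · exact absurd (h.symm : Commute x (cj S.a y)) F.ncom
  · rw [h, mul_assoc]

theorem anti₂ : y * cj S.a x = cj S.a x * (y * s) := by
  rcases S.comm _ F.yQ _ F.x'Q with h | h
  · exfalso
    apply F.ncom
    have hx : Commute x (cj S.a (cj S.a y)) := by
      have h' : cj S.a (cj S.a y) * cj S.a (cj S.a (cj S.a x)) = cj S.a (cj S.a (cj S.a x)) * cj S.a (cj S.a y) := by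
        rw [← cj_mul, ← cj_mul, ← cj_mul, ← cj_mul, h]
      rw [three x] at h'
      exact h'.symm
    have h3 : cj S.a y = y * cj S.a (cj S.a y) := by
      rw [(third y F.y2 F.yo).1, ← mul_assoc, F.y2, one_mul]
    rw [h3]
    exact F.com.mul_right hx
  · rw [h, mul_assoc]

theorem com₂ : cj S.a y * cj S.a x = cj S.a x * cj S.a y := by
  rw [← cj_mul, ← cj_mul, F.com.eq]

theorem Qb_mul_x (b₀ b₁ b₂ b₃ b₄ : Bool) :
    Qb S x y b₀ b₁ b₂ b₃ b₄ * x = Qb S x y (!b₀) b₁ b₂ b₃ (Bool.xor b₄ b₃) := by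
  have e0 : ∀ t, x * (x * t) = t := fun t => by rw [← mul_assoc, F.x2, one_mul]
  have e1 : ∀ t, s * (x * t) = x * (s * t) := S.s_swap F.xQ
  have e1' : s * x = x * s := (S.le x F.xQ).eq.symm
  have e2 : ∀ t, cj S.a y * (x * t) = x * (cj S.a y * (s * t)) := fun t => by
    rw [← mul_assoc, F.anti₁, mul_assoc, mul_assoc]
  have e3 : ∀ t, y * (x * t) = x * (y * t) := fun t => by rw [← mul_assoc, ← F.com.eq, mul_assoc]
  have hc : Commute x (cj S.a x) := (third x F.x2 F.xo).2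
  have e4 : ∀ t, cj S.a x * (x * t) = x * (cj S.a x * t) := fun t => by rw [← mul_assoc, ← hc.eq, mul_assoc]
  cases b₀ <;> cases b₁ <;> cases b₂ <;> cases b₃ <;> cases b₄ <;>
    simp [Qb, pw, mul_assoc, F.x2, S.s2, e0, e1, e1', e2, F.anti₁, e3, ← F.com.eq, e4, ← hc.eq]

theorem Qb_mul_x' (b₀ b₁ b₂ b₃ b₄ : Bool) :
    Qb S x y b₀ b₁ b₂ b₃ b₄ * cj S.a x = Qb S x y b₀ (!b₁) b₂ b₃ (Bool.xor b₄ b₂) := by
  have e : cj S.a x * cj S.a x = 1 := by rw [← cj_mul, F.x2, cj_one]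
  have e0 : ∀ t, cj S.a x * (cj S.a x * t) = t := fun t => by rw [← mul_assoc, e, one_mul]
  have e1 : ∀ t, s * (cj S.a x * t) = cj S.a x * (s * t) := S.s_swap F.x'Q
  have e1' : s * cj S.a x = cj S.a x * s := (S.le _ F.x'Q).eq.symm
  have e1y : s * cj S.a y = cj S.a y * s := (S.le _ F.y'Q).eq.symm
  have e1y' : ∀ t, s * (cj S.a y * t) = cj S.a y * (s * t) := S.s_swap F.y'Q
  have e2 : ∀ t, cj S.a y * (cj S.a x * t) = cj S.a x * (cj S.a y * t) := fun t => by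
    rw [← mul_assoc, F.com₂, mul_assoc]
  have e3 : ∀ t, y * (cj S.a x * t) = cj S.a x * (y * (s * t)) := fun t => by
    rw [← mul_assoc, F.anti₂, mul_assoc, mul_assoc]
  cases b₀ <;> cases b₁ <;> cases b₂ <;> cases b₃ <;> cases b₄ <;>
    simp [Qb, pw, mul_assoc, e, S.s2, e0, e1, e1', e1y, e1y', e2, F.com₂, e3, F.anti₂]

theorem Qb_mul_y (b₀ b₁ b₂ b₃ b₄ : Bool) :
    Qb S x y b₀ b₁ b₂ b₃ b₄ * y = Qb S x y b₀ b₁ (!b₂) b₃ b₄ := by
  have e0 : ∀ t, y * (y * t) = t := fun t => by rw [← mul_assoc, F.y2, one_mul]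
  have e1' : s * y = y * s := (S.le y F.yQ).eq.symm
  have hc : Commute y (cj S.a y) := (third y F.y2 F.yo).2
  have e4 : ∀ t, cj S.a y * (y * t) = y * (cj S.a y * t) := fun t => by rw [← mul_assoc, ← hc.eq, mul_assoc]
  cases b₀ <;> cases b₁ <;> cases b₂ <;> cases b₃ <;> cases b₄ <;>
    simp [Qb, pw, mul_assoc, F.y2, e0, e1', e4, ← hc.eq]

theorem Qb_mul_y' (b₀ b₁ b₂ b₃ b₄ : Bool) :
    Qb S x y b₀ b₁ b₂ b₃ b₄ * cj S.a y = Qb S x y b₀ b₁ b₂ (!b₃) b₄ := by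
  have e : cj S.a y * cj S.a y = 1 := by rw [← cj_mul, F.y2, cj_one]
  have e0 : ∀ t, cj S.a y * (cj S.a y * t) = t := fun t => by rw [← mul_assoc, e, one_mul]
  have e1' : s * cj S.a y = cj S.a y * s := (S.le _ F.y'Q).eq.symm
  cases b₀ <;> cases b₁ <;> cases b₂ <;> cases b₃ <;> cases b₄ <;>
    simp [Qb, pw, mul_assoc, e, e0, e1']

theorem Qb_mul (b₀ b₁ b₂ b₃ b₄ c₀ c₁ c₂ c₃ c₄ : Bool) :
    Qb S x y b₀ b₁ b₂ b₃ b₄ * Qb S x y c₀ c₁ c₂ c₃ c₄ =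
      Qb S x y (Bool.xor b₀ c₀) (Bool.xor b₁ c₁) (Bool.xor b₂ c₂) (Bool.xor b₃ c₃)
        (Bool.xor (Bool.xor (Bool.xor b₄ (b₃ && c₀)) (b₂ && c₁)) c₄) := by
  have m0 : ∀ c b₀ b₁ b₂ b₃ b₄, Qb S x y b₀ b₁ b₂ b₃ b₄ * pw x c =
      Qb S x y (Bool.xor b₀ c) b₁ b₂ b₃ (Bool.xor b₄ (b₃ && c)) := by
    intro c; cases c <;> intros <;> simp [pw, F.Qb_mul_x]
  have m1 : ∀ c b₀ b₁ b₂ b₃ b₄, Qb S x y b₀ b₁ b₂ b₃ b₄ * pw (cj S.a x) c =
      Qb S x y b₀ (Bool.xor b₁ c) b₂ b₃ (Bool.xor b₄ (b₂ && c)) := by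
    intro c; cases c <;> intros <;> simp [pw, F.Qb_mul_x']
  have m2 : ∀ c b₀ b₁ b₂ b₃ b₄, Qb S x y b₀ b₁ b₂ b₃ b₄ * pw y c =
      Qb S x y b₀ b₁ (Bool.xor b₂ c) b₃ b₄ := by
    intro c; cases c <;> intros <;> simp [pw, F.Qb_mul_y]
  have m3 : ∀ c b₀ b₁ b₂ b₃ b₄, Qb S x y b₀ b₁ b₂ b₃ b₄ * pw (cj S.a y) c =
      Qb S x y b₀ b₁ b₂ (Bool.xor b₃ c) b₄ := by
    intro c; cases c <;> intros <;> simp [pw, F.Qb_mul_y']
  have m4 : ∀ c b₀ b₁ b₂ b₃ b₄, Qb S x y b₀ b₁ b₂ b₃ b₄ * pw s c =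
      Qb S x y b₀ b₁ b₂ b₃ (Bool.xor b₄ c) := by
    intro c b₀ b₁ b₂ b₃ b₄; cases c <;> cases b₄ <;> simp [Qb, pw, mul_assoc, S.s2]
  conv_lhs => arg 2; unfold Qb
  rw [← mul_assoc, m0, ← mul_assoc, m1, ← mul_assoc, m2, ← mul_assoc, m3, m4]

theorem qC_mul {p q : ℕ} (hp : p < 32) (hq : q < 32) :
    qC S x y p * qC S x y q = qC S x y (qMul p q) := by
  obtain ⟨h0, h1, h2, h3, h4⟩ := qMul_bits p hp q hq
  rw [qC, qC, qC, F.Qb_mul, h0, h1, h2, h3, h4]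

omit F in
theorem qC_special :
    qC S x y 0 = 1 ∧ qC S x y 1 = x ∧ qC S x y 2 = cj S.a x ∧ qC S x y 4 = y ∧ qC S x y 8 = cj S.a y ∧
      qC S x y 16 = s := by
  refine ⟨?_, ?_, ?_, ?_, ?_, ?_⟩ <;> simp [qC, Qb, pw, bit, Nat.testBit]

theorem qC_mem (p : ℕ) : qC S x y p ∈ Q := by
  have h : ∀ z ∈ Q, ∀ b, pw z b ∈ Q := fun z hz b => by cases b <;> [exact Q.one_mem; exact hz]
  exact Q.mul_mem (h _ F.xQ _) (Q.mul_mem (h _ F.x'Q _) (Q.mul_mem (h _ F.yQ _) (Q.mul_mem (h _ F.y'Q _) (h _ S.sQ _))))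

theorem qC_inj {p q : ℕ} (hp : p < 32) (hq : q < 32) (h : qC S x y p = qC S x y q) : p = q := by
  obtain ⟨z0, z1, z2, z4, z8, z16⟩ := qC_special (S := S) (x := x) (y := y)
  obtain ⟨r, hr, hrp, hrq⟩ := qMul_cancel p hp q hq
  apply hrq
  have hz : qC S x y (qMul r q) = 1 := by rw [← F.qC_mul hr hq, ← h, F.qC_mul hr hp, hrp, z0]
  have hlt := qMul_lt r hr q hq
  have hsym : ∀ g < 32, qMul (qMul r q) g = qMul g (qMul r q) := by
    intro g hg
    rcases qMul_sign _ hlt g hg with e | e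
    · exact e
    · exfalso
      have h1 : qC S x y (qMul (qMul r q) g) = qC S x y g := by rw [← F.qC_mul hlt hg, hz, one_mul]
      rw [e, ← F.qC_mul (qMul_lt _ hg _ hlt) (by omega), ← F.qC_mul hg hlt, hz, mul_one, z16,
        mul_eq_left] at h1
      exact S.s1 h1
  rcases qMul_central _ hlt (hsym 1 (by omega)) (hsym 2 (by omega)) (hsym 4 (by omega)) (hsym 8 (by omega))
    with e | e
  · exact e
  · rw [e, z16] at hz; exact absurd hz S.s1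

theorem qC_surj [Finite G] {g : G} (hg : g ∈ Q) : ∃ p < 32, qC S x y p = g := by
  have hinj : Function.Injective fun p : Fin 32 => (⟨qC S x y p, F.qC_mem p⟩ : Q) := fun p q h =>
    Fin.ext (F.qC_inj p.2 q.2 (congrArg Subtype.val h))
  have hb : Function.Bijective fun p : Fin 32 => (⟨qC S x y p, F.qC_mem p⟩ : Q) := by
    refine hinj.bijective_of_nat_card_le ?_
    rw [S.card, Nat.card_fin]
  obtain ⟨p, hp⟩ := hb.2 ⟨g, hg⟩
  exact ⟨p, p.2, congrArg Subtype.val hp⟩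

theorem cj_qC {g : G} (hg : Commute g s) {c₁ c₂ c₃ c₄ : ℕ} (h₁ : c₁ < 32) (h₂ : c₂ < 32) (h₃ : c₃ < 32)
    (h₄ : c₄ < 32) (e₁ : cj g x = qC S x y c₁) (e₂ : cj g (cj S.a x) = qC S x y c₂)
    (e₃ : cj g y = qC S x y c₃) (e₄ : cj g (cj S.a y) = qC S x y c₄) (p : ℕ) :
    cj g (qC S x y p) = qC S x y (img c₁ c₂ c₃ c₄ p) ∧ img c₁ c₂ c₃ c₄ p < 32 := by
  obtain ⟨z0, -, -, -, -, z16⟩ := qC_special (S := S) (x := x) (y := y)
  have hsel : ∀ b c, c < 32 → sel b c < 32 := fun b c hc => by cases b <;> simp [sel, hc]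
  have hpw : ∀ b c, pw (qC S x y c) b = qC S x y (sel b c) := fun b c => by
    cases b <;> simp [pw, sel, z0]
  have l1 := qMul_lt _ (hsel (bit p 0) c₁ h₁) _ (hsel (bit p 1) c₂ h₂)
  have l2 := qMul_lt _ l1 _ (hsel (bit p 2) c₃ h₃)
  have l3 := qMul_lt _ l2 _ (hsel (bit p 3) c₄ h₄)
  have hps : ∀ b, pw s b = qC S x y (sel b 16) := fun b => by cases b <;> simp [pw, sel, z0, z16]
  have l16 := hsel (bit p 4) 16 (by omega)
  refine ⟨?_, qMul_lt _ l3 _ l16⟩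
  conv_lhs => unfold qC Qb
  rw [cj_mul, cj_mul, cj_mul, cj_mul, cj_pw, cj_pw, cj_pw, cj_pw, cj_pw, e₁, e₂, e₃, e₄, cj_commute hg,
    hpw, hpw, hpw, hpw, hps, img, ← F.qC_mul l3 l16, ← F.qC_mul l2 (hsel _ _ h₄),
    ← F.qC_mul l1 (hsel _ _ h₃), ← F.qC_mul (hsel _ _ h₁) (hsel _ _ h₂)]
  simp only [mul_assoc]

theorem cj_a {p : ℕ} : cj S.a (qC S x y p) = qC S x y (rot p) := by
  obtain ⟨z0, z1, z2, z4, z8, z16⟩ := qC_special (S := S) (x := x) (y := y)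
  have h3 : qC S x y 3 = cj S.a (cj S.a x) := by
    rw [(third x F.x2 F.xo).1, show (3 : ℕ) = qMul 1 2 by rfl, ← F.qC_mul (by omega) (by omega), z1, z2]
  have h12 : qC S x y 12 = cj S.a (cj S.a y) := by
    rw [(third y F.y2 F.yo).1, show (12 : ℕ) = qMul 4 8 by rfl, ← F.qC_mul (by omega) (by omega), z4, z8]
  exact (F.cj_qC S.a_comm (by omega) (by omega) (by omega) (by omega) z2.symm h3.symm z8.symm h12.symm p).1

/-- The map on codes given by an element inverting `a`. -/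
theorem cj_w {c d : ℕ} (hc : c < 32) (hd : d < 32) (ec : cj S.w x = qC S x y c)
    (ed : cj S.w y = qC S x y d) (p : ℕ) :
    cj S.w (qC S x y p) = qC S x y (wimg c d p) := by
  have hr : ∀ z, cj S.w (cj S.a z) = cj S.a (cj S.a (cj S.w z)) := fun z => by
    rw [cj_cj, cj_cj, cj_cj, ← S.w_inv, inv_mul_cancel_right]
  exact (F.cj_qC S.w_comm hc (rot_lt _ (rot_lt _ hc)) hd (rot_lt _ (rot_lt _ hd)) ec
    (by rw [hr, ec, F.cj_a, F.cj_a]) ed (by rw [hr, ed, F.cj_a, F.cj_a]) p).1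

end FrameQ

end CfsgLib.Recog.ExtraThirtyTwo
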