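import Cfsg.Agent.Lib.Recog.ExtraThirtyTwo.Frame

set_option autoImplicit false

/-!
Coordinates on `C(s)` (owner: helper22).
-/

namespace CfsgLib.Recog.ExtraThirtyTwo

open Subgroup

variable {G : Type*} [Group G] {s : G} {Q : Subgroup G}

theorem img_lt {c₁ c₂ c₃ c₄ : ℕ} (h₁ : c₁ < 32) (h₂ : c₂ < 32) (h₃ : c₃ < 32) (h₄ : c₄ < 32) (p : ℕ) :
    img c₁ c₂ c₃ c₄ p < 32 := by
  have hsel : ∀ b c, c < 32 → sel b c < 32 := fun b c hc => by cases b <;> simp [sel, hc]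
  exact qMul_lt _ (qMul_lt _ (qMul_lt _ (qMul_lt _ (hsel _ _ h₁) _ (hsel _ _ h₂)) _ (hsel _ _ h₃)) _ (hsel _ _ h₄))
    _ (hsel _ 16 (by omega))

theorem wimg_lt {c d : ℕ} (hc : c < 32) (hd : d < 32) (p : ℕ) : wimg c d p < 32 :=
  img_lt hc (rot_lt _ (rot_lt _ hc)) hd (rot_lt _ (rot_lt _ hd)) p

theorem exists_frame (S : Setting s Q) (t : G) (htQ : t ∈ Q) (ht2 : t * t = 1) (ht1 : t ≠ 1) (hts : t ≠ s) :
    ∃ x y, FrameQ S x y := by
  have orbit : ∀ q ∈ Q, q * cj S.a q * cj S.a (cj S.a q) = 1 ∨ q * cj S.a q * cj S.a (cj S.a q) = s := by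
    intro q hq
    have h1 := S.cj_mem S.a_comm hq
    have h2 := S.cj_mem S.a_comm h1
    have hpQ := Q.mul_mem (Q.mul_mem hq h1) h2
    apply S.a_fix _ hpQ
    set p := q * cj S.a q * cj S.a (cj S.a q) with hp
    have hcp : cj S.a p = q⁻¹ * (p * q) := by
      rw [hp, cj_mul, cj_mul, FrameQ.three q]; simp [mul_assoc]
    rcases S.comm p hpQ q hq with e | e
    · rw [e, inv_mul_cancel_left] at hcp
      exact (eq_mul_of_mul_inv_eq hcp).symm
    · exfalso
      rw [e, mul_assoc q, inv_mul_cancel_left] at hcp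
      have hs : cj S.a s = s := cj_commute S.a_comm
      have hq3 := FrameQ.three (S := S) p
      rw [hcp, cj_mul, hs, hcp, mul_assoc p s s, S.s2, mul_one, hcp] at hq3
      exact S.s1 (mul_eq_left.1 hq3)
  have fix : ∀ q ∈ Q, q * q = 1 → ∀ z, ¬ Commute z q →
      ∃ r ∈ Q, r * r = 1 ∧ r * cj S.a r * cj S.a (cj S.a r) = 1 ∧ ¬ Commute z r ∨ ¬ Commute z s := by
    intro q hq hq2 z hz
    rcases orbit q hq with e | e
    · exact ⟨q, hq, Or.inl ⟨hq2, e, hz⟩⟩
    · by_cases hzs : Commute z s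
      · refine ⟨q * s, Q.mul_mem hq S.sQ, Or.inl ⟨?_, ?_, fun h => hz ?_⟩⟩
        · rw [mul_assoc, ← mul_assoc s q s, ← (S.le q hq).eq, mul_assoc q s s, S.s2, mul_one, hq2]
        · have hs : cj S.a s = s := cj_commute S.a_comm
          have h1 := S.cj_mem S.a_comm hq
          have h2 := S.cj_mem S.a_comm h1
          rw [cj_mul, cj_mul, hs, hs]
          calc q * s * (cj S.a q * s) * (cj S.a (cj S.a q) * s)
              = q * (s * (cj S.a q * (s * (cj S.a (cj S.a q) * s)))) := by simp only [mul_assoc]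
            _ = q * cj S.a q * cj S.a (cj S.a q) * (s * s * s) := by
                rw [S.s_swap h2, S.s_swap h1, S.s_swap h2]; simp only [mul_assoc]
            _ = 1 := by rw [e, S.s2, one_mul, S.s2]
        · simpa [mul_assoc, S.s2] using h.mul_right hzs
      · exact ⟨q, hq, Or.inr hzs⟩
  -- the first involution
  obtain ⟨r, hrQ, hrt⟩ : ∃ r ∈ Q, ¬ Commute t r := by
    by_contra h
    push Not at h
    rcases S.center t htQ (fun r hr => (h r hr).eq) with e | e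
    · exact ht1 e
    · exact hts e
  obtain ⟨x, hxQ, hx⟩ := fix t htQ ht2 r (fun h => hrt h.symm)
  rcases hx with ⟨hx2, hxo, hxr⟩ | hrs
  swap
  · exact absurd (S.le r hrQ) hrs
  obtain ⟨q, hqQ, hq2, hxq⟩ : ∃ q ∈ Q, q * q = 1 ∧ ¬ Commute x q := by
    rcases S.sq r hrQ with e | e
    · exact ⟨r, hrQ, e, fun h => hxr h.symm⟩
    · refine ⟨r * x, Q.mul_mem hrQ hxQ, ?_, fun h => hxr ?_⟩
      · rcases S.comm x hxQ r hrQ with e' | e'
        · exact absurd e'.symm hxr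
        · calc r * x * (r * x) = r * (x * r) * x := by simp only [mul_assoc]
            _ = r * r * (x * (s * x)) := by rw [e']; simp only [mul_assoc]
            _ = 1 := by rw [← (S.le x hxQ).eq, ← mul_assoc x x s, hx2, one_mul, e, S.s2]
      · have h' := h.mul_right (Commute.refl x)
        rw [mul_assoc, hx2, mul_one] at h'
        exact h'.symm
  obtain ⟨y, hyQ, hy⟩ := fix q hqQ hq2 x hxq
  rcases hy with ⟨hy2, hyo, hxy⟩ | hxs
  swap
  · exact absurd (S.le x hxQ) hxs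
  obtain ⟨h3, -⟩ := FrameQ.third (S := S) y hy2 hyo
  have hy1Q := S.cj_mem S.a_comm hyQ
  have hy1 : cj S.a y * cj S.a y = 1 := by rw [← cj_mul, hy2, cj_one]
  have ho1 : cj S.a y * cj S.a (cj S.a y) * cj S.a (cj S.a (cj S.a y)) = 1 := by
    rw [← cj_mul, ← cj_mul, hyo, cj_one]
  by_cases hc : Commute x (cj S.a y)
  · refine ⟨x, cj S.a y, hxQ, hy1Q, hx2, hy1, hxo, ho1, hc, fun h => hxy ?_⟩
    rw [h3] at h
    simpa [mul_assoc, hy1] using h.mul_right hc
  · refine ⟨x, cj S.a (cj S.a y), hxQ, S.cj_mem S.a_comm hy1Q, hx2, ?_, hxo, ?_, ?_, ?_⟩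
    · rw [← cj_mul, hy1, cj_one]
    · rw [← cj_mul, ← cj_mul, ho1, cj_one]
    · rw [h3]
      rcases S.comm x hxQ y hyQ with e1 | e1
      · exact absurd e1 hxy
      · rcases S.comm x hxQ _ hy1Q with e2 | e2
        · exact absurd e2 hc
        · show x * (y * cj S.a y) = y * cj S.a y * x
          calc x * (y * cj S.a y) = y * x * (s * cj S.a y) := by rw [← mul_assoc, e1]; simp only [mul_assoc]
            _ = y * (x * cj S.a y) * s := by rw [← (S.le _ hy1Q).eq]; simp only [mul_assoc]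
            _ = y * cj S.a y * x := by rw [e2]; simp only [mul_assoc, S.s2, mul_one]
    · rw [FrameQ.three y]; exact hxy

/-- A frame adapted to `w`. -/
theorem exists_frame_w [Finite G] {S : Setting s Q} {x y : G} (F : FrameQ S x y) :
    ∃ u v, FrameQ S u v ∧ ((cj S.w u = u ∧ cj S.w v = v) ∨ (cj S.w u = v ∧ cj S.w v = u)) := by
  obtain ⟨z0, z1, z2, z4, z8, z16⟩ := FrameQ.qC_special (S := S) (x := x) (y := y)
  obtain ⟨c, hc, ec⟩ := F.qC_surj (S.cj_mem S.w_comm F.xQ)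
  obtain ⟨d, hd, ed⟩ := F.qC_surj (S.cj_mem S.w_comm F.yQ)
  have hww : ∀ z ∈ Q, cj S.w (cj S.w z) = z := fun z hz => by
    rw [cj_cj]
    rcases S.w_sq with e | e <;> rw [e]
    · simp [cj]
    · exact cj_commute (S.le z hz).symm
  have hwa : ∀ z, cj S.a (cj S.w z) = cj S.w (cj S.a (cj S.a z)) := fun z => by
    rw [cj_cj, cj_cj, cj_cj]
    congr 1
    have h4 : S.a * S.a * (S.a * S.a) = S.a := by rw [← mul_assoc, S.a3, one_mul]
    calc S.a * S.w = S.w * (S.a * S.a) * S.w⁻¹ * S.w := by rw [← conj_mul, S.w_inv, h4]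
      _ = S.w * (S.a * S.a) := by rw [inv_mul_cancel_right]
      _ = S.w * S.a * S.a := by rw [mul_assoc]
  have mul_eq : ∀ p < 32, ∀ r < 32, FrameQ.qC S x y p * FrameQ.qC S x y r = 1 → qMul p r = 0 :=
    fun p hp r hr h => F.qC_inj (qMul_lt p hp r hr) (by omega) (by rw [← F.qC_mul hp hr, h, z0])
  have nbeq : ∀ m n : ℕ, Nat.beq m n = true ↔ m = n := fun m n =>
    ⟨Nat.eq_of_beq_eq_true, fun h => by subst h; exact Nat.beq_refl m⟩
  have hgood : ∀ z ∈ Q, ∀ e < 32, cj S.w z = FrameQ.qC S x y e → z * z = 1 →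
      z * cj S.a z * cj S.a (cj S.a z) = 1 → z ≠ 1 → z ≠ s → good e = true := by
    intro z hzQ e he heq hz2 hzo hz1 hzs
    simp only [good, Bool.and_eq_true, Bool.not_eq_true', Bool.eq_false_iff, ne_eq, nbeq]
    refine ⟨⟨fun h16 => ?_, mul_eq e he e he ?_⟩,
      mul_eq _ (qMul_lt e he _ (rot_lt e he)) _ (rot_lt _ (rot_lt e he)) ?_⟩
    · rcases (by omega : e = 0 ∨ e = 16) with r | r <;> subst r
      · rw [z0] at heq
        exact hz1 (cj_inj (heq.trans (cj_one _).symm))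
      · rw [z16] at heq
        exact hzs (cj_inj (heq.trans (cj_commute S.w_comm).symm))
    · rw [← heq, ← cj_mul, hz2, cj_one]
    · rw [← F.qC_mul he (rot_lt e he), ← F.cj_a, ← F.cj_a, ← F.cj_a, ← heq, hwa, hwa, FrameQ.three,
        ← cj_mul, ← cj_mul]
      obtain ⟨h3, hc3⟩ := FrameQ.third (S := S) z hz2 hzo
      have h1 : cj S.a z * cj S.a z = 1 := by rw [← cj_mul, hz2, cj_one]
      rw [h3, ← mul_assoc z z, hz2, one_mul, h1, cj_one]
  have hx1 : x ≠ 1 ∧ x ≠ s :=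
    ⟨fun h => F.ncom (h ▸ Commute.one_left _), fun h => F.ncom (h ▸ (S.le _ F.y'Q).symm)⟩
  have hy1 : y ≠ 1 ∧ y ≠ s := by
    refine ⟨fun h => F.ncom ?_, fun h => F.ncom ?_⟩
    · subst h; rw [cj_one]; exact Commute.one_right x
    · subst h; rw [cj_commute S.a_comm]; exact S.le x F.xQ
  have hok : wOk c d = true := by
    simp only [wOk, qComm, Bool.and_eq_true, nbeq]
    refine ⟨⟨⟨⟨hgood x F.xQ c hc ec.symm F.x2 F.xo hx1.1 hx1.2, hgood y F.yQ d hd ed.symm F.y2 F.yo hy1.1 hy1.2⟩, ?_⟩, ?_⟩, ?_⟩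
    · apply F.qC_inj (qMul_lt c hc d hd) (qMul_lt d hd c hc)
      rw [← F.qC_mul hc hd, ← F.qC_mul hd hc, ec, ed, ← cj_mul, ← cj_mul, F.com.eq]
    · apply F.qC_inj (wimg_lt hc hd c) (by omega)
      rw [← F.cj_w hc hd ec.symm ed.symm, ec, hww x F.xQ, z1]
    · apply F.qC_inj (wimg_lt hc hd d) (by omega)
      rw [← F.cj_w hc hd ec.symm ed.symm, ed, hww y F.yQ, z4]
  obtain ⟨u, hu, v, hv, hnew⟩ := exists_new c hc d hd hok
  simp only [newOk, good, qComm, Bool.and_eq_true, Bool.or_eq_true, Bool.not_eq_true', Bool.eq_false_iff, ne_eq,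
    nbeq] at hnew
  obtain ⟨⟨⟨⟨⟨⟨-, hu2⟩, huo⟩, ⟨⟨-, hv2⟩, hvo⟩⟩, huv⟩, hnuv⟩, hw⟩ := hnew
  refine ⟨FrameQ.qC S x y u, FrameQ.qC S x y v,
    ⟨F.qC_mem u, F.qC_mem v, ?_, ?_, ?_, ?_, ?_, ?_⟩, ?_⟩
  · rw [F.qC_mul hu hu, hu2, z0]
  · rw [F.qC_mul hv hv, hv2, z0]
  · rw [F.cj_a, F.cj_a, F.qC_mul hu (rot_lt u hu),
      F.qC_mul (qMul_lt u hu _ (rot_lt u hu)) (rot_lt _ (rot_lt u hu)), huo, z0]
  · rw [F.cj_a, F.cj_a, F.qC_mul hv (rot_lt v hv),
      F.qC_mul (qMul_lt v hv _ (rot_lt v hv)) (rot_lt _ (rot_lt v hv)), hvo, z0]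
  · show _ * _ = _ * _
    rw [F.qC_mul hu hv, F.qC_mul hv hu, huv]
  · intro h
    apply hnuv
    have h' := h.eq
    rw [F.cj_a, F.qC_mul hu (rot_lt v hv), F.qC_mul (rot_lt v hv) hu] at h'
    exact F.qC_inj (qMul_lt u hu _ (rot_lt v hv)) (qMul_lt _ (rot_lt v hv) u hu) h'
  · rw [F.cj_w hc hd ec.symm ed.symm, F.cj_w hc hd ec.symm ed.symm]
    rcases hw with ⟨e1, e2⟩ | ⟨e1, e2⟩
    · left; rw [e1, e2]; exact ⟨rfl, rfl⟩
    · right; rw [e1, e2]; exact ⟨rfl, rfl⟩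

theorem pow_mod3 {a : G} (h : a * a * a = 1) (n : ℕ) : a ^ n = a ^ (n % 3) := by
  conv_lhs => rw [← Nat.div_add_mod n 3, pow_add, pow_mul]
  rw [pow_succ, pow_two, h, one_pow, one_mul]

theorem land31 (g : ℕ) : Nat.land g 31 = g % 32 := Nat.and_two_pow_sub_one_eq_mod g 5

/-- The element of a code in a frame. -/
def elem (S : Setting s Q) (u v : G) (g : ℕ) : G :=
  FrameQ.qC S u v (g % 32) * S.a ^ (g / 32 % 3) * S.w ^ (g / 96)

theorem coord_of_frame [Finite G] {S : Setting s Q} {u v : G} (F : FrameQ S u v) (i : ℕ) (hi : i < 4)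
    (hwu : cj S.w u = FrameQ.qC S u v (cond (Nat.beq (i / 2) 0) 1 4))
    (hwv : cj S.w v = FrameQ.qC S u v (cond (Nat.beq (i / 2) 0) 4 1))
    (hw2 : S.w * S.w = FrameQ.qC S u v (16 * (i % 2))) :
    ∃ K : Coord s i, ∀ q : G, q ∈ Q ↔ ∃ x < 32, K.el x = q := by
  obtain ⟨z0, -, -, -, -, z16⟩ := FrameQ.qC_special (S := S) (x := u) (y := v)
  have hwimg : ∀ r, cj S.w (FrameQ.qC S u v r) =
      FrameQ.qC S u v (cond (Nat.beq (i / 2) 0) (wimg 1 4 r) (wimg 4 1 r)) := by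
    intro r
    cases hb : Nat.beq (i / 2) 0
    · simp only [hb, cond_false, cond_true] at hwu hwv ⊢; exact F.cj_w (by omega) (by omega) hwu hwv r
    · simp only [hb, cond_false, cond_true] at hwu hwv ⊢; exact F.cj_w (by omega) (by omega) hwu hwv r
  have hact : ∀ k < 3, ∀ e < 2, ∀ r < 32,
      cj (S.a ^ k * S.w ^ e) (FrameQ.qC S u v r) = FrameQ.qC S u v (act i k e r) := by
    intro k hk e he r hr
    rw [act_eq i hi k hk e he r hr, ← cj_cj]
    have hE : cj (S.w ^ e) (FrameQ.qC S u v r) = FrameQ.qC S u v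
        (cond (Nat.beq e 0) r (cond (Nat.beq (i / 2) 0) (wimg 1 4 r) (wimg 4 1 r))) := by
      rcases (by omega : e = 0 ∨ e = 1) with h | h <;> subst h
      · simp [cj]
      · rw [pow_one]; exact hwimg r
    rw [hE]
    rcases (by omega : k = 0 ∨ k = 1 ∨ k = 2) with h | h | h <;> subst h
    · simp [cj]
    · rw [pow_one, F.cj_a]; rfl
    · rw [pow_two, ← cj_cj, F.cj_a, F.cj_a]; rfl
  have hwa : ∀ l : ℕ, S.w * S.a ^ l = S.a ^ (2 * l) * S.w := by
    intro l
    have h : S.w * S.a ^ l * S.w⁻¹ = S.a ^ (2 * l) := by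
      rw [← conj_pow, S.w_inv, pow_mul, pow_two]
    rw [← h, inv_mul_cancel_right]
  have ha16 : ∀ n : ℕ, Commute (S.a ^ n) (FrameQ.qC S u v (16 * (i % 2))) := by
    intro n
    rcases (by omega : i % 2 = 0 ∨ i % 2 = 1) with h | h <;> rw [h]
    · rw [Nat.mul_zero, z0]; exact Commute.one_right _
    · rw [Nat.mul_one, z16]; exact S.a_comm.pow_left n
  have htail : ∀ k e l f : ℕ, e < 2 → f < 2 →
      S.a ^ k * S.w ^ e * (S.a ^ l * S.w ^ f) =
        FrameQ.qC S u v (16 * (e * f * (i % 2))) * S.a ^ kMul k e l * S.w ^ ((e + f) % 2) := by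
    intro k e l f he hf
    rcases (by omega : e = 0 ∨ e = 1) with h | h <;> subst h
    · rw [pow_zero, mul_one, Nat.zero_mul, Nat.zero_mul, Nat.mul_zero, z0, one_mul, Nat.zero_add,
        Nat.mod_eq_of_lt hf, ← mul_assoc, ← pow_add, pow_mod3 S.a3]
      rfl
    · rw [pow_one, mul_assoc, ← mul_assoc S.w, hwa, ← mul_assoc, ← mul_assoc, ← pow_add, mul_assoc,
        pow_mod3 S.a3, show (k + 2 * l) % 3 = kMul k 1 l from rfl]
      rcases (by omega : f = 0 ∨ f = 1) with h | h <;> subst h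
      · simp [z0]
      · rw [pow_one, hw2, (ha16 _).eq]; simp
  have hmulC : ∀ g < 192, ∀ h < 192, elem S u v g * elem S u v h = elem S u v (mulC i g h) := by
    intro g hg h hh
    have hk : g / 32 % 3 < 3 := by omega
    have he : g / 96 < 2 := by omega
    have hf : h / 96 < 2 := by omega
    have hm1 := act_lt i hi _ hk _ he (h % 32) (by omega)
    have hm2 := qMul_lt (g % 32) (by omega) _ hm1
    have h16 : 16 * (g / 96 * (h / 96) * (i % 2)) < 32 := by
      rcases (by omega : g / 96 = 0 ∨ g / 96 = 1) with r | r <;>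
        rcases (by omega : h / 96 = 0 ∨ h / 96 = 1) with r' | r' <;> rw [r, r'] <;> omega
    have hm3 := qMul_lt _ hm2 _ h16
    have hK : kMul (g / 32 % 3) (g / 96) (h / 32 % 3) < 3 := Nat.mod_lt _ (by omega)
    have hn : mulC i g h =
        qMul (qMul (g % 32) (act i (g / 32 % 3) (g / 96) (h % 32))) (16 * (g / 96 * (h / 96) * (i % 2))) +
          32 * kMul (g / 32 % 3) (g / 96) (h / 32 % 3) + 96 * ((g / 96 + h / 96) % 2) := by
      rw [mulC, land31, land31]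
    generalize hM : qMul (qMul (g % 32) (act i (g / 32 % 3) (g / 96) (h % 32)))
      (16 * (g / 96 * (h / 96) * (i % 2))) = M at hn hm3
    generalize hK' : kMul (g / 32 % 3) (g / 96) (h / 32 % 3) = K at hn hK
    rw [elem, elem, elem, hn]
    rw [show (M + 32 * K + 96 * ((g / 96 + h / 96) % 2)) % 32 = M by omega,
      show (M + 32 * K + 96 * ((g / 96 + h / 96) % 2)) / 32 % 3 = K by omega,
      show (M + 32 * K + 96 * ((g / 96 + h / 96) % 2)) / 96 = (g / 96 + h / 96) % 2 by omega,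
      ← hM, ← hK', ← F.qC_mul hm2 h16, ← F.qC_mul (by omega) hm1, ← hact _ hk _ he _ (by omega)]
    generalize FrameQ.qC S u v (g % 32) = P
    generalize FrameQ.qC S u v (h % 32) = R
    generalize hA : S.a ^ (g / 32 % 3) = A
    generalize hW : S.w ^ (g / 96) = W
    calc P * A * W * (R * S.a ^ (h / 32 % 3) * S.w ^ (h / 96))
        = P * cj (A * W) R * (A * W * (S.a ^ (h / 32 % 3) * S.w ^ (h / 96))) := by simp [cj, mul_assoc]
      _ = _ := by rw [← hA, ← hW, htail _ _ _ _ he hf]; simp only [mul_assoc]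
  -- the quotient
  let A' : centralizer ({s} : Set G) := ⟨S.a, mem_centralizer_singleton_iff.2 S.a_comm.eq⟩
  let W' : centralizer ({s} : Set G) := ⟨S.w, mem_centralizer_singleton_iff.2 S.w_comm.eq⟩
  have hA1 : S.ψ A' ≠ 1 := fun e => by
    rcases S.a_fix S.a ((S.ψ_ker A').1 e) (Commute.refl _) with r | r
    · exact S.a1 r
    · have h3 := S.a3
      rw [r, S.s2, one_mul] at h3
      exact S.s1 h3
  have hW1 : S.ψ W' ≠ 1 := fun e => S.w_notMem ((S.ψ_ker W').1 e)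
  have hA3 : S.ψ A' * S.ψ A' * S.ψ A' = 1 := by
    rw [← map_mul, ← map_mul, show A' * A' * A' = 1 from Subtype.ext S.a3, map_one]
  have hW2 : S.ψ W' * S.ψ W' = 1 := by
    rw [← map_mul]
    refine (S.ψ_ker _).2 ?_
    show S.w * S.w ∈ Q
    rw [hw2]; exact F.qC_mem _
  have key : ∀ a w : Equiv.Perm (Fin 3), a ≠ 1 → a * a * a = 1 → w * w = 1 → w ≠ 1 →
      (∀ k < 3, ∀ e < 2, ∀ l < 3, ∀ f < 2, a ^ k * w ^ e = a ^ l * w ^ f → k = l ∧ e = f) ∧
      (∀ p, ∃ k < 3, ∃ e < 2, p = a ^ k * w ^ e) := by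
    set_option synthInstance.maxSize 2000 in
    decide +kernel
  obtain ⟨key_inj, key_surj⟩ := key _ _ hA1 hA3 hW2 hW1
  have hmem : ∀ g, elem S u v g * s = s * elem S u v g := fun g =>
    (((S.le _ (F.qC_mem _)).mul_left (S.a_comm.pow_left _)).mul_left (S.w_comm.pow_left _)).eq
  have hψ : ∀ g, S.ψ ⟨elem S u v g, mem_centralizer_singleton_iff.2 (hmem g)⟩ =
      S.ψ A' ^ (g / 32 % 3) * S.ψ W' ^ (g / 96) := by
    intro g
    have hq := F.qC_mem (g % 32)
    have e : (⟨elem S u v g, mem_centralizer_singleton_iff.2 (hmem g)⟩ : centralizer ({s} : Set G)) =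
        ⟨FrameQ.qC S u v (g % 32), mem_centralizer_singleton_iff.2 (S.le _ hq).eq⟩ *
          A' ^ (g / 32 % 3) * W' ^ (g / 96) := Subtype.ext (by simp [elem, A', W'])
    rw [e, map_mul, map_mul, map_pow, map_pow, (S.ψ_ker _).2 hq, one_mul]
  have hinj : ∀ g < 192, ∀ h < 192, elem S u v g = elem S u v h → g = h := by
    intro g hg h hh e
    have e' := hψ g
    simp only [e] at e'
    rw [hψ h] at e'
    obtain ⟨hk, he⟩ := key_inj _ (by omega) _ (by omega) _ (by omega) _ (by omega) e'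
    rw [elem, elem, hk, he] at e
    have := F.qC_inj (Nat.mod_lt _ (by omega)) (Nat.mod_lt _ (by omega)) (mul_right_cancel (mul_right_cancel e))
    omega
  have hsurj : ∀ g : G, g * s = s * g → ∃ x < 192, elem S u v x = g := by
    intro g hg
    obtain ⟨k, hk, e, he, hp⟩ := key_surj (S.ψ ⟨g, mem_centralizer_singleton_iff.2 hg⟩)
    have hq : g * (S.a ^ k * S.w ^ e)⁻¹ ∈ Q := by
      have h1 := (S.ψ_ker (⟨g, mem_centralizer_singleton_iff.2 hg⟩ * (A' ^ k * W' ^ e)⁻¹)).1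
        (by rw [map_mul, map_inv, map_mul, map_pow, map_pow, hp, mul_inv_cancel])
      simpa [A', W'] using h1
    obtain ⟨m, hm, em⟩ := F.qC_surj hq
    refine ⟨m + 32 * k + 96 * e, by omega, ?_⟩
    rw [elem, show (m + 32 * k + 96 * e) % 32 = m by omega, show (m + 32 * k + 96 * e) / 32 % 3 = k by omega,
      show (m + 32 * k + 96 * e) / 96 = e by omega, em, mul_assoc, inv_mul_cancel_right]
  refine ⟨{ el := elem S u v, mem := fun g _ => hmem g, el_mul := hmulC, el_inj := hinj, surj := hsurj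
            el_s := by simp [elem, z16] }, fun q => ⟨fun hq => ?_, ?_⟩⟩
  · obtain ⟨m, hm, em⟩ := F.qC_surj hq
    exact ⟨m, hm, by simp [elem, Nat.mod_eq_of_lt hm, show m / 32 = 0 by omega, show m / 96 = 0 by omega, em]⟩
  · rintro ⟨m, hm, rfl⟩
    simpa [elem, Nat.mod_eq_of_lt hm, show m / 32 = 0 by omega, show m / 96 = 0 by omega] using F.qC_mem m

/-- Coordinates exist. -/
theorem exists_coord [Finite G] (S : Setting s Q) (t : G) (htQ : t ∈ Q) (ht2 : t * t = 1) (ht1 : t ≠ 1)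
    (hts : t ≠ s) : ∃ i < 4, ∃ K : Coord s i, ∀ q : G, q ∈ Q ↔ ∃ x < 32, K.el x = q := by
  obtain ⟨x, y, F⟩ := exists_frame S t htQ ht2 ht1 hts
  obtain ⟨u, v, F', hw⟩ := exists_frame_w F
  obtain ⟨z0, z1, -, z4, -, z16⟩ := FrameQ.qC_special (S := S) (x := u) (y := v)
  rcases hw with ⟨hu, hv⟩ | ⟨hu, hv⟩ <;> rcases S.w_sq with hs | hs
  · exact ⟨0, by omega, coord_of_frame F' 0 (by omega) (hu.trans z1.symm) (hv.trans z4.symm) (hs.trans z0.symm)⟩
  · exact ⟨1, by omega, coord_of_frame F' 1 (by omega) (hu.trans z1.symm) (hv.trans z4.symm) (hs.trans z16.symm)⟩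
  · exact ⟨2, by omega, coord_of_frame F' 2 (by omega) (hu.trans z4.symm) (hv.trans z1.symm) (hs.trans z0.symm)⟩
  · exact ⟨3, by omega, coord_of_frame F' 3 (by omega) (hu.trans z4.symm) (hv.trans z1.symm) (hs.trans z16.symm)⟩

end CfsgLib.Recog.ExtraThirtyTwo
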