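import Cfsg.Agent.Lib.Recog.ExtraThirtyTwo.GlueWords
import Cfsg.Agent.Lib.Recog.SporBound.S3344H.Valid
import Cfsg.Agent.Lib.Recog.SporBound.S3344K.Valid
import Cfsg.Agent.Lib.Recog.EightThree.Gen
import Mathlib.GroupTheory.SpecificGroups.Alternating

set_option autoImplicit false

/-!
In the pattern of `A8` and `A9` the centraliser of `s` lies in a subgroup isomorphic to `A8` (owner: helper25).

The pairs (letter, permutation) generate a group of order at most `15 * 7 * 192` mapping onto `A8`.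
-/

namespace CfsgLib.Recog.ExtraThirtyTwo

open Subgroup
open CfsgLib.Recog.Held (allBelow allBelow_spec)
open CfsgLib.Recog.SporBound

variable {G : Type*} [Group G] {s : G}

namespace Glue

open Equiv in
/-- The images of the letters in `A8`. -/
def pl : ℕ → Perm (Fin 8)
  | 0 => swap 0 1 * swap 2 3 * swap 4 6 * swap 5 7
  | 1 => swap 0 1 * swap 2 4 * swap 3 5 * swap 6 7
  | 2 => swap 0 4 * swap 1 5 * swap 2 6 * swap 3 7
  | 3 => swap 0 5 * swap 1 4 * swap 2 6 * swap 3 7
  | 4 => swap 0 4 * swap 1 7 * swap 2 6 * swap 3 5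
  | 5 => swap 0 7 * swap 1 4 * swap 2 6 * swap 3 5
  | _ => 1

/-- A permutation is the packed number. -/
def Rep (σ : Equiv.Perm (Fin 8)) (p : ℕ) : Prop := ∀ k : Fin 8, (σ k : ℕ) = pApp p k

theorem fld3_lt (p k : ℕ) : pApp p k < 8 :=
  lt_of_le_of_lt Nat.and_le_right (by norm_num)

theorem fld3_eq (p k : ℕ) : pApp p k = p / 2 ^ (3 * k) % 8 := by
  show (p >>> (3 * k)) &&& (2 ^ 3 - 1) = _
  rw [Nat.and_two_pow_sub_one_eq_mod, Nat.shiftRight_eq_div_pow]

theorem pApp_pMul (p q : ℕ) {k : ℕ} (hk : k < 8) : pApp (pMul p q) k = pApp p (pApp q k) := by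
  obtain ⟨a, ha⟩ : ∃ a : ℕ → ℕ, a = fun j => pApp p (pApp q j) := ⟨_, rfl⟩
  have hlt : ∀ j, a j < 8 := fun j => by rw [ha]; exact fld3_lt _ _
  have e : pMul p q = 0 + 2 ^ (3 * 0) * a 0 + 2 ^ (3 * 1) * a 1 + 2 ^ (3 * 2) * a 2 + 2 ^ (3 * 3) * a 3 +
      2 ^ (3 * 4) * a 4 + 2 ^ (3 * 5) * a 5 + 2 ^ (3 * 6) * a 6 + 2 ^ (3 * 7) * a 7 := by
    rw [ha]; rfl
  rw [show pApp p (pApp q k) = a k by rw [ha], fld3_eq, e]
  have := hlt 0; have := hlt 1; have := hlt 2; have := hlt 3
  have := hlt 4; have := hlt 5; have := hlt 6; have := hlt 7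
  interval_cases k <;> norm_num <;> omega

theorem Rep.mul {σ τ : Equiv.Perm (Fin 8)} {p q : ℕ} (h1 : Rep σ p) (h2 : Rep τ q) : Rep (σ * τ) (pMul p q) :=
  fun k => by rw [Equiv.Perm.mul_apply, h1, h2, pApp_pMul p q k.2]

theorem Rep.unique {σ τ : Equiv.Perm (Fin 8)} {p : ℕ} (h1 : Rep σ p) (h2 : Rep τ p) : σ = τ :=
  Equiv.ext fun k => Fin.ext ((h1 k).trans (h2 k).symm)

theorem rep_one : Rep 1 pOne := by unfold Rep; decide +kernel

theorem rep_let : ∀ x < 6, Rep (pl x) (pLet x) := by unfold Rep; decide +kernel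

theorem rho_inj_ok : allBelow 192 (fun x => allBelow 8 fun a => allBelow 8 fun b =>
    Nat.beq a b || !(Nat.beq (pApp (rho x) a) (pApp (rho x) b))) = true := by decide +kernel

theorem exists_rep {x : ℕ} (hx : x < 192) : ∃ σ, Rep σ (rho x) := by
  have h := rho_inj_ok
  simp only [allBelow_spec, Bool.or_eq_true, Bool.not_eq_true', Bool.eq_false_iff, ne_eq, Nat.beq_eq] at h
  let f : Fin 8 → Fin 8 := fun k => ⟨pApp (rho x) k, fld3_lt _ _⟩
  have hf : Function.Injective f := fun a b e =>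
    Fin.ext ((h x hx a a.2 b b.2).resolve_right fun c => c (congrArg Fin.val e))
  exact ⟨Equiv.ofBijective f (Finite.injective_iff_bijective.1 hf), fun k => rfl⟩

theorem pl_even (x : ℕ) : pl x ∈ alternatingGroup (Fin 8) := by
  rw [Equiv.Perm.mem_alternatingGroup]
  rcases (by omega : x = 0 ∨ x = 1 ∨ x = 2 ∨ x = 3 ∨ x = 4 ∨ x = 5 ∨ 5 < x) with
    rfl | rfl | rfl | rfl | rfl | rfl | h
  iterate 6 decide +kernel
  obtain ⟨y, rfl⟩ : ∃ y, x = y + 6 := ⟨x - 6, by omega⟩
  rfl

theorem pWord_rep : ∀ {w : List ℕ}, (∀ x ∈ w, x < 6) → Rep (w.map pl).prod (pWord w) := by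
  intro w
  induction w with
  | nil => exact fun _ => rep_one
  | cons x w ih =>
    intro hv
    rw [List.map_cons, List.prod_cons]
    exact (rep_let x (hv x List.mem_cons_self)).mul (ih fun y hy => hv y (List.mem_cons_of_mem _ hy))

theorem rels_lt : ∀ w ∈ S3344H.cert.rels ++ S3344K.cert.rels, ∀ x ∈ w, x < 6 := by
  intro w hw x hx
  have h := rels_ok
  simp only [relsOK, Bool.and_eq_true, List.all_eq_true] at h
  have hr : relOK w = true := (List.mem_append.1 hw).elim (h.1 w) (h.2 w)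
  simp only [relOK, Bool.and_eq_true, List.all_eq_true, Nat.blt_eq] at hr
  exact hr.1 x hx

theorem pl_rels {w : List ℕ} (hw : w ∈ S3344H.cert.rels ∨ w ∈ S3344K.cert.rels) : (w.map pl).prod = 1 := by
  have h := perm_ok
  simp only [permOK, Bool.and_eq_true, List.all_eq_true, allBelow_spec, Nat.beq_eq] at h
  obtain ⟨-, -, -, hH, hK⟩ := h
  have e : pWord w = pOne := hw.elim (hH w) (hK w)
  have := pWord_rep (rels_lt w (List.mem_append.2 hw))
  rw [e] at this
  exact this.unique rep_one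

theorem moore_ok : ∀ i : Fin 6, ((mooreWords.getD i []).map pl).prod = EightThree.gA i := by decide +kernel

theorem moore_lt : ∀ i : Fin 6, ∀ x ∈ mooreWords.getD i [], x < 6 := by decide +kernel

variable (K : Coord s 0)

theorem exists_permHom : ∃ φ : centralizer ({s} : Set G) →* Equiv.Perm (Fin 8),
    ∀ x, ∀ hx : x < 192, Rep (φ ⟨K.el x, mem_centralizer_singleton_iff.2 (K.mem x hx)⟩) (rho x) := by
  classical
  have h : ∀ g : centralizer ({s} : Set G), ∃ x < 192, K.el x = g :=
    fun g => K.surj g (mem_centralizer_singleton_iff.1 g.2)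
  choose c hc hcg using h
  have hσ : ∀ x, ∃ σ, x < 192 → Rep σ (rho x) := fun x => by
    by_cases hx : x < 192
    · obtain ⟨σ, h⟩ := exists_rep hx
      exact ⟨σ, fun _ => h⟩
    · exact ⟨1, fun h => absurd h hx⟩
  choose σ hσ using hσ
  have hp := perm_ok
  simp only [permOK, Bool.and_eq_true, allBelow_spec, Nat.beq_eq] at hp
  refine ⟨MonoidHom.mk' (fun g => σ (c g)) fun g g' => ?_, fun x hx => ?_⟩
  · have e : c (g * g') = mulC 0 (c g) (c g') := K.el_inj _ (hc _) _ (mulC_lt (by omega) (hc _) (hc _)) (by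
      rw [hcg, ← K.el_mul _ (hc g) _ (hc g'), hcg, hcg]; rfl)
    refine (hσ _ (hc _)).unique ?_
    rw [e, (hp.1 _ (hc g)).2 _ (hc g')]
    exact (hσ _ (hc g)).mul (hσ _ (hc g'))
  · show Rep (σ (c _)) (rho x)
    rw [K.el_inj _ (hc _) x hx (hcg _)]
    exact hσ x hx

/-- The four letters generate `C(s)`. -/
theorem el_mem_closure {x : ℕ} (hx : x < 192) (M : Subgroup G) (hM : ∀ y < 4, K.el (lCode y) ∈ M) : K.el x ∈ M := by
  have hg := gen_ok
  simp only [genOK, Bool.and_eq_true, allBelow_spec, Nat.beq_eq, List.all_eq_true, Nat.blt_eq] at hg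
  obtain ⟨hb, hw⟩ := hg
  have hword : ∀ w : List ℕ, (∀ y ∈ w, y < 4) → cWord w < 192 ∧ K.el (cWord w) ∈ M := by
    intro w
    induction w with
    | nil => exact fun _ => ⟨by simp [cWord], by
        simp [cWord, K.el_zero (show 0 < 4 by omega), one_mem M]⟩
    | cons y w ih =>
      intro hv
      obtain ⟨a, b⟩ := ih fun z hz => hv z (List.mem_cons_of_mem _ hz)
      refine ⟨mulC_lt (by omega) (lCode_lt y) a, ?_⟩
      show K.el (mulC 0 (lCode y) (cWord w)) ∈ M
      rw [← K.el_mul _ (lCode_lt y) _ a]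
      exact mul_mem (hM y (hv y List.mem_cons_self)) b
  have base : ∀ j < 7, K.el ([1, 2, 4, 8, 16, 32, 96].getD j 0) ∈ M := fun j hj => by
    rw [← (hw j hj).2]
    exact (hword _ (hw j hj).1).2
  have hq : ∀ n ≤ 5, (Nat.rec (motive := fun _ => ℕ) 0
      (fun j ih => cond (Nat.beq (fld 1 x j) 1) (mulC 0 ih (2 ^ j)) ih) n) < 192 ∧
      K.el (Nat.rec (motive := fun _ => ℕ) 0
        (fun j ih => cond (Nat.beq (fld 1 x j) 1) (mulC 0 ih (2 ^ j)) ih) n) ∈ M := by
    intro n
    induction n with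
    | zero => exact fun _ => ⟨by norm_num, by show K.el 0 ∈ M; rw [K.el_zero (by omega)]; exact one_mem M⟩
    | succ n ih =>
      intro hn
      obtain ⟨a, b⟩ := ih (by omega)
      show cond (Nat.beq (fld 1 x n) 1) (mulC 0 _ (2 ^ n)) _ < 192 ∧
        K.el (cond (Nat.beq (fld 1 x n) 1) (mulC 0 _ (2 ^ n)) _) ∈ M
      have hpm : 2 ^ n < 192 ∧ K.el (2 ^ n) ∈ M := by
        have := base n (by omega)
        have hn5 : n < 5 := by omega
        interval_cases n <;> exact ⟨by norm_num, this⟩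
      cases Nat.beq (fld 1 x n) 1
      · exact ⟨a, b⟩
      · exact ⟨mulC_lt (by omega) a hpm.1, by rw [cond_true, ← K.el_mul _ a _ hpm.1]; exact mul_mem b hpm.2⟩
  have hk : ∀ q < 192, K.el q ∈ M → ∀ n, (Nat.rec (motive := fun _ => ℕ) q (fun _ ih => mulC 0 ih 32) n) < 192 ∧
      K.el (Nat.rec (motive := fun _ => ℕ) q (fun _ ih => mulC 0 ih 32) n) ∈ M := by
    intro q hq hqM n
    induction n with
    | zero => exact ⟨hq, hqM⟩
    | succ n ih =>
      obtain ⟨a, b⟩ := ih
      exact ⟨mulC_lt (by omega) a (by omega), by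
        show K.el (mulC 0 _ 32) ∈ M
        rw [← K.el_mul _ a 32 (by omega)]; exact mul_mem b (base 5 (by omega))⟩
  obtain ⟨a, b⟩ := hq 5 le_rfl
  obtain ⟨a', b'⟩ := hk _ a b (x / 32 % 3)
  rw [← hb x hx, build]
  cases Nat.beq (x / 96) 1
  · exact b'
  · rw [cond_true, ← K.el_mul _ a' 96 (by omega)]
    exact mul_mem b' (base 6 (by omega))

end Glue

namespace PairPattern

open Glue

variable {K : Coord s 0} [Finite G]

/-- The centraliser of `s` lies in a subgroup isomorphic to `A8`. -/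
theorem exists_alt8 (hK : PairPattern K) : ∃ f : alternatingGroup (Fin 8) →* G, Function.Injective f ∧
    centralizer ({s} : Set G) ≤ f.range := by
  classical
  obtain ⟨x1, x3, P⟩ := exists_pair hK.mask_eq
  obtain ⟨φ, hφ⟩ := exists_permHom K
  let a : ℕ → G × Equiv.Perm (Fin 8) := fun x => (six K x1 x3 x, pl x)
  have hinv : ∀ x, a x * a x = 1 := fun x => by
    refine Prod.ext (six_sq P x) ?_
    by_cases h6 : x < 6
    · show pl x * pl x = 1
      interval_cases x <;> decide +kernel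
    · obtain ⟨y, rfl⟩ : ∃ y, x = y + 6 := ⟨x - 6, by omega⟩
      exact one_mul 1
  have he : a CfsgLib.ThreeTrans.CosetIndex.eqLetter = 1 := rfl
  have hrel : ∀ w, (w ∈ S3344H.cert.rels ∨ w ∈ S3344K.cert.rels) → (w.map a).prod = 1 := by
    intro w hw
    apply Prod.ext
    · have := map_list_prod (MonoidHom.fst G (Equiv.Perm (Fin 8))) (w.map a)
      rw [List.map_map] at this
      exact this.trans (rels_hold P hw)
    · have := map_list_prod (MonoidHom.snd G (Equiv.Perm (Fin 8))) (w.map a)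
      rw [List.map_map] at this
      exact this.trans (pl_rels hw)
  let f := (centralizer ({s} : Set G)).subtype.prod φ
  have hfinj : Function.Injective f := fun u v h => Subtype.ext (congrArg Prod.fst h)
  have hp := perm_ok
  simp only [permOK, Bool.and_eq_true, allBelow_spec, Nat.beq_eq] at hp
  have hfa : ∀ x, ∀ hx : x < 4, f ⟨K.el (lCode x), mem_centralizer_singleton_iff.2 (K.mem _ (lCode_lt x))⟩ = a x :=
    fun x hx => Prod.ext (by show K.el _ = six K x1 x3 x; rw [six, if_pos hx])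
      (by
        refine (hφ _ (lCode_lt x)).unique ?_
        rw [hp.2.2.1 x hx]
        exact rep_let x (by omega))
  have hC : Nat.card f.range = 192 := by
    rw [Nat.card_congr (MonoidHom.ofInjective hfinj).toEquiv.symm]
    let g : Fin 192 → centralizer ({s} : Set G) := fun x => ⟨K.el x, mem_centralizer_singleton_iff.2 (K.mem x x.2)⟩
    have hg : Function.Bijective g := ⟨fun u v h => Fin.ext (K.el_inj _ u.2 _ v.2 (congrArg Subtype.val h)),
      fun y => by
        obtain ⟨x, hx, e⟩ := K.surj y (mem_centralizer_singleton_iff.1 y.2)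
        exact ⟨⟨x, hx⟩, Subtype.ext e⟩⟩
    rw [← Nat.card_congr (Equiv.ofBijective g hg), Nat.card_fin]
  obtain ⟨D1, hD1⟩ : ∃ D, D = closure {g | ∃ x ∈ S3344H.cert.kl, g = a x} := ⟨_, rfl⟩
  obtain ⟨D, hD⟩ : ∃ D, D = closure {g | ∃ x ∈ S3344K.cert.kl, g = a x} := ⟨_, rfl⟩
  have kH : ∀ x, x ∈ S3344H.cert.kl ↔ x < 5 := fun x => by
    show x ∈ [0, 1, 2, 3, 4] ↔ _
    simp only [List.mem_cons, List.not_mem_nil, or_false]; omega
  have kK : ∀ x, x ∈ S3344K.cert.kl ↔ x < 6 := fun x => by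
    show x ∈ [0, 1, 2, 3, 4, 5] ↔ _
    simp only [List.mem_cons, List.not_mem_nil, or_false]; omega
  have hmem : ∀ x < 6, a x ∈ D := fun x hx => hD ▸ subset_closure ⟨x, (kK x).2 hx, rfl⟩
  have hmem1 : ∀ x < 5, a x ∈ D1 := fun x hx => hD1 ▸ subset_closure ⟨x, (kH x).2 hx, rfl⟩
  have : Finite f.range := Nat.finite_of_card_ne_zero (by omega)
  obtain ⟨hfin1, hle1⟩ := Cert.card_le hinv he S3344H.ok f.range D1 (fun w hw => hrel w (Or.inl hw))
    (by
      intro w hw
      rw [show S3344H.cert.subs = [[0], [1], [2], [3]] from rfl] at hw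
      simp only [List.mem_cons, List.not_mem_nil, or_false] at hw
      rcases hw with rfl | rfl | rfl | rfl <;>
        simpa using ⟨_, _, hfa _ (by omega)⟩)
    hD1.le
  have := hfin1
  obtain ⟨hfin, hle⟩ := Cert.card_le hinv he S3344K.ok D1 D (fun w hw => hrel w (Or.inr hw))
    (by
      intro w hw
      rw [show S3344K.cert.subs = [[0], [1], [2], [3], [4]] from rfl] at hw
      simp only [List.mem_cons, List.not_mem_nil, or_false] at hw
      rcases hw with rfl | rfl | rfl | rfl | rfl <;> simpa using hmem1 _ (by omega))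
    hD.le
  have := hfin
  have n1 : S3344H.cert.n = 7 := rfl
  have n2 : S3344K.cert.n = 15 := rfl
  have hbound : Nat.card D ≤ 20160 := by
    rw [n2] at hle; rw [n1, hC] at hle1; omega
  have heven : ∀ d ∈ D, d.2 ∈ alternatingGroup (Fin 8) := by
    rw [hD]
    intro d hd
    induction hd using closure_induction with
    | mem d hd => obtain ⟨x, -, rfl⟩ := hd; exact pl_even x
    | one => exact one_mem _
    | mul d d' _ _ h h' => exact mul_mem h h'
    | inv d _ h => exact inv_mem h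
  let π : D →* alternatingGroup (Fin 8) :=
    ((MonoidHom.snd G (Equiv.Perm (Fin 8))).comp D.subtype).codRestrict _ fun d => heven d.1 d.2
  have hπ : Function.Surjective π := by
    intro σ
    have hle : closure (Set.range EightThree.gA) ≤ D.map (MonoidHom.snd G (Equiv.Perm (Fin 8))) := by
      rw [closure_le]
      rintro _ ⟨i, rfl⟩
      refine ⟨((mooreWords.getD i []).map a).prod, list_prod_mem fun d hd => ?_, ?_⟩
      · obtain ⟨x, hx, rfl⟩ := List.mem_map.1 hd
        exact hmem x (moore_lt i x hx)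
      · rw [map_list_prod, List.map_map]
        exact moore_ok i
    obtain ⟨d, hd, e⟩ := hle (EightThree.alt_le_gen σ.2)
    exact ⟨⟨d, hd⟩, Subtype.ext e⟩
  have hA8 : Nat.card (alternatingGroup (Fin 8)) = 20160 := by
    rw [nat_card_alternatingGroup, Nat.card_fin]; rfl
  have hb : Function.Bijective π := hπ.bijective_of_nat_card_le (by omega)
  let e := MulEquiv.ofBijective π hb
  let ψ : alternatingGroup (Fin 8) →* G := ((MonoidHom.fst G _).comp D.subtype).comp e.symm.toMonoidHom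
  have hψ : ∀ d : D, ψ (π d) = d.1.1 := fun d => by
    show ((e.symm (e d)).1).1 = _
    rw [MulEquiv.symm_apply_apply]
  have hcent : centralizer ({s} : Set G) ≤ ψ.range := by
    intro g hg
    obtain ⟨x, hx, rfl⟩ := K.surj g (mem_centralizer_singleton_iff.1 hg)
    refine el_mem_closure K hx _ fun y hy => ⟨π ⟨a y, hmem y (by omega)⟩, ?_⟩
    rw [hψ]
    show six K x1 x3 y = _
    rw [six, if_pos hy]
  refine ⟨ψ, ?_, hcent⟩
  rw [← MonoidHom.ker_eq_bot_iff]
  have := alternatingGroup.isSimpleGroup (α := Fin 8) (by rw [Nat.card_fin]; omega)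
  refine ψ.normal_ker.eq_bot_or_eq_top.resolve_right fun h => ?_
  obtain ⟨σ, hσ⟩ := hcent (mem_centralizer_singleton_iff.2 rfl : s ∈ centralizer ({s} : Set G))
  have h1 : ψ σ = 1 := MonoidHom.mem_ker.1 (h ▸ mem_top _)
  exact K.s_ne_one (by omega) (hσ.symm.trans h1)

end PairPattern

end CfsgLib.Recog.ExtraThirtyTwo
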