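import Cfsg.Agent.Lib.Recog.ExtraThirtyTwo.GlueDefs

set_option autoImplicit false
set_option maxRecDepth 100000

/-! The checks of `GlueDefs` hold (owner: helper25). -/

namespace CfsgLib.Recog.ExtraThirtyTwo.Glue

theorem index_ok : indexOK = true := by decide +kernel

theorem sig_ok : sigOK = true := by decide +kernel

theorem solve_ok : solveOK = true := by decide +kernel

theorem side0_ok : sideOK 0 = true := by decide +kernel

theorem side1_ok : sideOK 1 = true := by decide +kernel

theorem self_ok : selfOK = true := by decide +kernel

theorem rels_ok : relsOK = true := by decide +kernel

theorem move1_ok : moveOK 2 sig1 sigWords1 = true := by decide +kernel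

theorem move3_ok : moveOK 4 sig3 sigWords3 = true := by decide +kernel

theorem gen_ok : genOK = true := by decide +kernel

theorem perm_ok : permOK = true := by decide +kernel

end CfsgLib.Recog.ExtraThirtyTwo.Glue
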