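import Mathlib.Data.Nat.Notation

set_option autoImplicit false

/-!
Data for the completion `<C(s), N(A)> = A8`; generator `notes/s3344_h25/k_enum` (owner: helper25).
-/

namespace CfsgLib.Recog.ExtraThirtyTwo.Glue

/-- The automorphisms of `A` induced by the elements of order three, four bits per element. -/
def sigData1 : ℕ := 0x5764dfec9ba81320
/-- The second one. -/
def sigData3 : ℕ := 0x37bf62ea9d15c840

/-- Words (0, 1: the complement, 2: the given element) giving the first automorphism or its inverse. -/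
def sigWords1 : List (List ℕ) := [[1, 2], [0, 1, 2], [2], [0, 2], [1, 2, 2, 1, 2, 2], [0, 2, 1, 2, 2, 2]]
/-- Words for the second. -/
def sigWords3 : List (List ℕ) := [[0, 2, 2, 0, 2, 2], [1, 2, 0, 2, 2, 2], [0, 2], [0, 1, 2], [2], [1, 2]]

/-- The six letters in `A8`, three bits per point. -/
def permLetters : List ℕ := [11789505, 14527233, 6852524, 6823845, 2722748, 629671]

/-- The embedding of `C(s)` in `A8`, 24 bits per code. -/
def rhoData : ℕ := 0x6acdc1077b1af884e595323e07e95a6a5f8195a07ef816a5dc86a5b1307e4ecf8123795a953077f886ac0779536acf884e5f8823e953dc16acb1a077237b134ecdc8b13237dc84ecf814ec95a2376a5dc807eb13b1a23edc14e523eb1a4e5dc1dd3941b08f9a4f706522c6be948ddaf93b0106c4fe6b72256be0650656bef9a941941f9a06c6b76b706c948f93f93948f9ab08941dd36be22c0654f7b01f93dda9482256b74fe06c4f722c22c4f7dd3b08b08dd32254fe4fe225b01ddaddab0197e681fa505a05afa568197edec05ab376814c897e213fa5053de5688b3e9774c1fac21a688977053facfac053977688b374c8dec213213dec4c8b37fa521397e4c8681b3705adec21afac4c1977b3e6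88de50534c1b3e21ade5de521ab3e4c1b1af88dc195323e6ac4e5077f81b1395adc86a523707e4ec2374ec4ec237b13dc8dc8b134e523e23e4e5dc1b1ab1adc1953dc1f88b1a0774e56ac23edc895ab13f814ec07e2376a507e6a56a507e95af81f8195a6ac0770776acf88953953f884f7b0822cdd3dd322cb084f7225f934fe948b016b7dda06cf9a22c9414f76beb08065dd3b014fedda225225dda4feb016be941065f9af9a0659416be06cdda6b7b019484fef93225dd3065b086be4f794122cf9a9486b7f9306c06cf936b7948fa54c897e213681dec05ab37b37213dec4c8213b374c8dec4c1fac21a977de5688b3e05321ab3e4c1de5b3e21ade54c1dec681b3705a4c8fa521397e97e05afa568105a97e681fa5688de5053b3efac4c197721a053977688fac977053fac688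

/-- Words in the four letters of `C(s)` for the codes 1, 2, 4, 8, 16, 32, 96. -/
def codeWords : List (List ℕ) := [[1, 2, 1], [2], [1, 3, 1], [3], [0, 2, 0, 3, 0, 2, 0, 3], [1, 0], [0]]

/-- Words in the six letters for the Moore generators of `A8`. -/
def mooreWords : List (List ℕ) := [[0, 3, 4, 5, 2, 0], [1, 2, 3, 1], [0, 1, 4, 5, 1, 0], [2, 3], [0, 4, 5, 0], [0, 2, 3, 0]]

end CfsgLib.Recog.ExtraThirtyTwo.Glue
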