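import Cfsg.Agent.Lib.Recog.ExtraThirtyTwo.ColourCheck

set_option autoImplicit false

/-!
The elementary abelian subgroup `A = <x1, y1, s, w>` in the first candidate (owner: helper22).
-/

namespace CfsgLib.Recog.ExtraThirtyTwo

open CfsgLib.Recog.Held (countBelow allBelow)

/-- The codes of `A`. -/
noncomputable def inA (x : ℕ) : Bool := Nat.blt (x % 96) 32 && Nat.beq (Nat.land x 10) 0

/-- The codes of its normaliser in `C(s)`. -/
noncomputable def inN (g : ℕ) : Bool :=
  allBelow 192 fun x => !(inA x) || !(allBelow 192 fun y => !(inA y && Nat.beq (mulC 0 g x) (mulC 0 y g)))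

/-- Commuting codes. -/
noncomputable def com0 (x y : ℕ) : Bool := Nat.beq (mulC 0 x y) (mulC 0 y x)

/-- `A` is elementary abelian and is the centraliser of `w` and of `x1 y1 w`. -/
noncomputable def sixteenA : Bool :=
  Nat.beq (countBelow 192 inA) 16 && (inA 0 && (inA 16 &&
    (allBelow 192 (fun x => !(inA x) || (Nat.beq (mulC 0 x x) 0 && allBelow 192 fun y => !(inA y) ||
      (inA (mulC 0 x y) && com0 x y))) &&
    (allBelow 192 (fun x => (!(com0 x 96) || inA x) && ((!(inA x) || com0 x 96) && ((!(com0 x 101) || inA x) && (!(inA x) || com0 x 101)))) &&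
    (allBelow 192 (fun x => Nat.blt x 32 || (Nat.beq (cls 0 x) 0 || (Nat.beq (cls 0 x) 5 || Nat.beq (cls 0 x) 6))) &&
    allBelow 32 (fun x => !(Nat.blt 1 (cls 0 x)) || (Nat.beq (countBelow 32 fun y => com0 x y) 16 &&
      !(allBelow 32 fun y => allBelow 32 fun z => !(com0 x y && com0 x z && !(com0 y z))))))))))

/-- Its normaliser modulo `A` is a four-group with one fixed involution. -/
noncomputable def sixteenN : Bool :=
  Nat.beq (countBelow 192 inN) 64 &&
    (allBelow 192 (fun y => !(inA y) || (Nat.beq y 0 || (Nat.beq y 16 ||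
      !(allBelow 192 fun g => !(inN g) || com0 g y)))) &&
    (allBelow 192 (fun g => !(inN g) || (inA (mulC 0 g g) && (inA g ||
      Nat.beq (countBelow 192 fun x => inA x && (!(Nat.beq x 0) && com0 g x)) 3))) &&
    allBelow 192 (fun g => !(inN g) || allBelow 192 fun h => !(inN h) ||
      !(allBelow 192 fun a => !(inA a && Nat.beq (mulC 0 g h) (mulC 0 a (mulC 0 h g)))))))

set_option maxRecDepth 100000

theorem sixteenA_ok : sixteenA = true := by decide +kernel

theorem sixteenN_ok : sixteenN = true := by decide +kernel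

end CfsgLib.Recog.ExtraThirtyTwo
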