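import Cfsg.Agent.Lib.Recog.ExtraThirtyTwo.GlueData
import Cfsg.Agent.Lib.Recog.ExtraThirtyTwo.SixteenCheck
import Cfsg.Agent.Lib.Recog.SporBound.S3344H.Data
import Cfsg.Agent.Lib.Recog.SporBound.S3344K.Data

set_option autoImplicit false

/-!
The model `A : (D : V)` of `N(A)` and the checks of the letters (owner: helper25).
-/

namespace CfsgLib.Recog.ExtraThirtyTwo.Glue

open CfsgLib.Recog.Held (allBelow countBelow)

/-- The code of an element of `A` by its index. -/
noncomputable def al (m : ℕ) : ℕ :=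
  16 * fld 1 m 0 + (fld 1 m 1 + (4 * fld 1 m 2 + 96 * fld 1 m 3))

/-- The index of a code in `A`. -/
noncomputable def co (x : ℕ) : ℕ := fld 1 x 4 + (2 * fld 1 x 0 + (4 * fld 1 x 2 + 8 * (x / 96)))

/-- The code of an element of the complement. -/
noncomputable def vCode (b : ℕ) : ℕ := 2 * fld 1 b 0 + 8 * fld 1 b 1

/-- Its action on `A`. -/
noncomputable def tau (b m : ℕ) : ℕ := co (mulC 0 (mulC 0 (vCode b) (al m)) (vCode b))

/-- The automorphism with given images of the four basis indices. -/
noncomputable def lin (p1 p2 p4 p8 m : ℕ) : ℕ :=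
  Nat.xor (Nat.xor (p1 * fld 1 m 0) (p2 * fld 1 m 1)) (Nat.xor (p4 * fld 1 m 2) (p8 * fld 1 m 3))

/-- The first automorphism. -/
noncomputable def sig1 (m : ℕ) : ℕ := fld 4 sigData1 m
/-- The second automorphism. -/
noncomputable def sig3 (m : ℕ) : ℕ := fld 4 sigData3 m

/-- A power of an automorphism. -/
noncomputable def pw (f : ℕ → ℕ) (i m : ℕ) : ℕ := Nat.rec (motive := fun _ => ℕ) m (fun _ ih => f ih) i

/-- An element `a * x1^i * x3^j * v` of the model. -/
structure Node where
  /-- index in `A` -/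
  m : ℕ
  /-- exponent of the first element of order three -/
  i : ℕ
  /-- exponent of the second -/
  j : ℕ
  /-- element of the complement -/
  b : ℕ

/-- The exponent by which the complement acts on the first element of order three. -/
noncomputable def ep1 (b : ℕ) : ℕ := 1 + fld 1 b 1
/-- The exponent by which the complement acts on the second. -/
noncomputable def ep3 (b : ℕ) : ℕ := 1 + fld 1 b 0

/-- The product. -/
noncomputable def nm (e f : Node) : Node where
  m := Nat.xor e.m (pw sig1 e.i (pw sig3 e.j (tau e.b f.m)))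
  i := (e.i + ep1 e.b * f.i) % 3
  j := (e.j + ep3 e.b * f.j) % 3
  b := Nat.xor e.b f.b

/-- In range. -/
noncomputable def nOK (e : Node) : Bool := Nat.blt e.m 16 && (Nat.blt e.i 3 && (Nat.blt e.j 3 && Nat.blt e.b 4))

/-- Equality. -/
noncomputable def nEq (e f : Node) : Bool :=
  Nat.beq e.m f.m && (Nat.beq e.i f.i && (Nat.beq e.j f.j && Nat.beq e.b f.b))

/-- The identity. -/
def nOne : Node := ⟨0, 0, 0, 0⟩

/-- The letters in the model (letter 1 is not in it). -/
def nLet : ℕ → Node
  | 0 => ⟨8, 0, 0, 0⟩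
  | 2 => ⟨0, 0, 0, 1⟩
  | 3 => ⟨0, 0, 0, 2⟩
  | 4 => ⟨0, 1, 0, 2⟩
  | _ => ⟨0, 0, 1, 1⟩

/-- The value of a word in the model. -/
noncomputable def nWord (w : List ℕ) : Node :=
  List.rec (motive := fun _ => Node) nOne (fun x _ ih => nm (nLet x) ih) w

/-- The codes of the four letters in `C(s)`. -/
noncomputable def lCode (x : ℕ) : ℕ := [96, 128, 2, 8].getD x 0

/-- The value of a word in `C(s)`. -/
noncomputable def cWord (w : List ℕ) : ℕ :=
  List.rec (motive := fun _ => ℕ) 0 (fun x _ ih => mulC 0 (lCode x) ih) w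

/-- The codes of the pure subgroup of side `k`. -/
noncomputable def inEk (k e : ℕ) : Bool :=
  Nat.blt e 32 && Nat.beq (Nat.land e (cond (Nat.beq k 0) 12 3)) 0

/-- An element of a pure subgroup in the model. -/
noncomputable def eNode (e : ℕ) : Node :=
  let b := fld 1 e 1 + 2 * fld 1 e 3
  ⟨co (mulC 0 e (vCode b)), 0, 0, b⟩

/-- The code of a model element of `S`. -/
noncomputable def sCode (e : Node) : ℕ := mulC 0 (al e.m) (vCode e.b)

/-- A letter moving a code of a pure subgroup, read in the model or in `C(s)`. -/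
noncomputable def eAct (x e : ℕ) : ℕ :=
  cond (Nat.blt x 4) (mulC 0 (mulC 0 (lCode x) e) (lCode x)) (sCode (nm (nm (nLet x) (eNode e)) (nLet x)))

/-- A word moving a code of a pure subgroup. -/
noncomputable def eWord (w : List ℕ) (e : ℕ) : ℕ :=
  List.rec (motive := fun _ => ℕ) e (fun x _ ih => eAct x ih) w

/-- The letters of side `k`. -/
noncomputable def sideLetter (k x : ℕ) : Bool := Nat.blt x 4 || Nat.beq x (4 + k)

/-- The root of a residual relator. -/
def root7 (w : List ℕ) : List ℕ := w.take (w.length / 7)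

/-- Seven copies. -/
def seven (u : List ℕ) : List ℕ := u ++ (u ++ (u ++ (u ++ (u ++ (u ++ u)))))

/-- A word of side `k` whose seventh power is trivial. -/
noncomputable def residOK (k : ℕ) (w : List ℕ) : Bool :=
  (seven (root7 w) == w) && ((root7 w).all (sideLetter k) && allBelow 32 fun e =>
    !(inEk k e) || (Nat.beq (eWord (seven (root7 w)) e) e &&
      (Nat.beq e 0 || !(Nat.beq (eWord (root7 w) e) e))))

/-- A relator proved by one of the three means. -/
noncomputable def relOK (w : List ℕ) : Bool :=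
  w.all (fun x => Nat.blt x 6) &&
  ((w.all (fun x => Nat.blt x 4) && Nat.beq (cWord w) 0) ||
    ((w.all (fun x => !(Nat.beq x 1)) && nEq (nWord w) nOne) || (residOK 0 w || residOK 1 w)))

/-- All relators. -/
noncomputable def relsOK : Bool :=
  SporBound.S3344H.cert.rels.all relOK && SporBound.S3344K.cert.rels.all relOK

/-- The model elements of the pure subgroups, and the letters on them. -/
noncomputable def sideOK (k : ℕ) : Bool :=
  allBelow 32 fun e => !(inEk k e) || (nOK (eNode e) && (Nat.beq (sCode (eNode e)) e &&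
    allBelow 6 fun x => !(sideLetter k x) || (inEk k (eAct x e) &&
      (Nat.blt x 4 || (nEq (nm (nm (nLet x) (eNode e)) (nLet x))
          ⟨(nm (nm (nLet x) (eNode e)) (nLet x)).m, 0, 0, (nm (nm (nLet x) (eNode e)) (nLet x)).b⟩)))))

/-- The pure subgroups are self-centralising in `C(s)`. -/
noncomputable def selfOK : Bool :=
  allBelow 192 fun x =>
    (!(com0 x 1 && com0 x 2) || inEk 0 x) && (!(com0 x 4 && com0 x 8) || inEk 1 x)

/-- The indices and the action of the complement. -/
noncomputable def indexOK : Bool :=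
  allBelow 16 (fun m => Nat.blt (al m) 192 && (inA (al m) && Nat.beq (co (al m)) m)) &&
  (allBelow 192 (fun x => !(inA x) || (Nat.blt (co x) 16 && Nat.beq (al (co x)) x)) &&
  (allBelow 16 (fun a => allBelow 16 fun b => Nat.beq (mulC 0 (al a) (al b)) (al (Nat.xor a b))) &&
  (allBelow 4 (fun b => allBelow 16 fun m =>
      Nat.beq (mulC 0 (vCode b) (al m)) (mulC 0 (al (tau b m)) (vCode b)) && Nat.blt (tau b m) 16) &&
  (allBelow 4 (fun b => allBelow 4 fun c => Nat.beq (mulC 0 (vCode b) (vCode c)) (vCode (Nat.xor b c))) &&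
  (allBelow 4 (fun b => allBelow 16 fun m => allBelow 16 fun n =>
      Nat.beq (tau b (Nat.xor m n)) (Nat.xor (tau b m) (tau b n)))))))) 

/-- Coloured indices. -/
noncomputable def colA (m : ℕ) : Bool := colOn 11 (cls 0 (al m))

/-- The two automorphisms: commuting, fixed point free, inverted or centralised by the complement. -/
noncomputable def sigOK : Bool :=
  allBelow 16 (fun m => Nat.blt (sig1 m) 16 && (Nat.blt (sig3 m) 16 &&
    (Nat.beq (pw sig1 3 m) m && (Nat.beq (pw sig3 3 m) m && (Nat.beq (sig1 (sig3 m)) (sig3 (sig1 m)) &&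
    ((Nat.beq m 0 || (!(Nat.beq (sig1 m) m) && !(Nat.beq (sig3 m) m))) &&
    allBelow 4 (fun b => Nat.beq (tau b (sig1 (tau b m))) (pw sig1 (ep1 b) m) &&
      Nat.beq (tau b (sig3 (tau b m))) (pw sig3 (ep3 b) m)))))))) &&
  (allBelow 16 (fun m => allBelow 16 fun n => Nat.beq (sig1 (Nat.xor m n)) (Nat.xor (sig1 m) (sig1 n)) &&
      Nat.beq (sig3 (Nat.xor m n)) (Nat.xor (sig3 m) (sig3 n))) &&
  allBelow 16 (fun m => allBelow 16 fun n =>
    !(Nat.beq (Nat.xor m (sig1 m)) (Nat.xor n (sig1 n))) || Nat.beq m n))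

/-- Shifts can be solved: one equation and the pair of cocycle equations. -/
noncomputable def solveOK : Bool :=
  allBelow 16 (fun c => !(allBelow 16 fun m => !(Nat.beq (Nat.xor m (sig1 m)) c))) &&
  allBelow 16 fun a => allBelow 16 fun b =>
    !(Nat.beq (Nat.xor a (tau 1 a)) 0 && (Nat.beq (Nat.xor b (tau 2 b)) 0 &&
      Nat.beq (Nat.xor a (tau 1 b)) (Nat.xor b (tau 2 a)))) ||
    !(allBelow 16 fun c => !(Nat.beq (Nat.xor c (tau 1 c)) a && Nat.beq (Nat.xor c (tau 2 c)) b))

/-- The map of a word in the two involutions of the complement and a given map. -/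
noncomputable def mapWord (f : ℕ → ℕ) (w : List ℕ) (m : ℕ) : ℕ :=
  List.rec (motive := fun _ => ℕ) m
    (fun x _ ih => cond (Nat.beq x 0) (tau 1 ih) (cond (Nat.beq x 1) (tau 2 ih) (f ih))) w

/-- A word giving an automorphism or its inverse. -/
noncomputable def goalOK (g : ℕ → ℕ) (f : ℕ → ℕ) (w : List ℕ) : Bool :=
  allBelow 16 (fun m => Nat.beq (mapWord f w m) (g m)) || allBelow 16 (fun m => Nat.beq (mapWord f w m) (g (g m)))

/-- Every colour-preserving automorphism moving an index to that of `s` gives the automorphism. -/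
noncomputable def moveOK (k : ℕ) (g : ℕ → ℕ) (W : List (List ℕ)) : Bool :=
  allBelow 16 fun p1 => allBelow 16 fun q => allBelow 16 fun p8 =>
    let f := fun m => cond (Nat.beq k 2) (lin p1 1 q p8 m) (lin p1 q 1 p8 m)
    !(colA p1 && (colA q && (colA p8 && allBelow 16 fun m =>
        (Nat.beq m 0 || !(Nat.beq (f m) 0)) && (cond (colA m) (colA (f m)) (!(colA (f m))))))) ||
      W.any (goalOK g f)

/-- A point of a packed permutation. -/
noncomputable def pApp (p k : ℕ) : ℕ := fld 3 p k

/-- The packed composite. -/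
noncomputable def pMul (p q : ℕ) : ℕ :=
  Nat.rec (motive := fun _ => ℕ) 0 (fun k ih => ih + 2 ^ (3 * k) * pApp p (pApp q k)) 8

/-- The packed identity. -/
noncomputable def pOne : ℕ :=
  Nat.rec (motive := fun _ => ℕ) 0 (fun k ih => ih + 2 ^ (3 * k) * k) 8

/-- The image of a code. -/
noncomputable def rho (x : ℕ) : ℕ := fld 24 rhoData x

/-- The image of a letter. -/
noncomputable def pLet (x : ℕ) : ℕ := permLetters.getD x pOne

/-- The image of a word. -/
noncomputable def pWord (w : List ℕ) : ℕ :=
  List.rec (motive := fun _ => ℕ) pOne (fun x _ ih => pMul (pLet x) ih) w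

/-- The embedding and the relators in `A8`. -/
noncomputable def permOK : Bool :=
  allBelow 192 (fun x => Nat.blt (rho x) (2 ^ 24) &&
    allBelow 192 fun y => Nat.beq (rho (mulC 0 x y)) (pMul (rho x) (rho y))) &&
  (Nat.beq (rho 0) pOne && (allBelow 4 (fun x => Nat.beq (rho (lCode x)) (pLet x)) &&
  (SporBound.S3344H.cert.rels.all (fun w => Nat.beq (pWord w) pOne) &&
    SporBound.S3344K.cert.rels.all (fun w => Nat.beq (pWord w) pOne))))

/-- The code with the given exponents. -/
noncomputable def build (x : ℕ) : ℕ :=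
  let q := Nat.rec (motive := fun _ => ℕ) 0 (fun j ih => cond (Nat.beq (fld 1 x j) 1) (mulC 0 ih (2 ^ j)) ih) 5
  let k := Nat.rec (motive := fun _ => ℕ) q (fun _ ih => mulC 0 ih 32) (x / 32 % 3)
  cond (Nat.beq (x / 96) 1) (mulC 0 k 96) k

/-- The four letters generate `C(s)`. -/
noncomputable def genOK : Bool :=
  allBelow 192 (fun x => Nat.beq (build x) x) &&
  allBelow 7 fun j => (codeWords.getD j []).all (fun x => Nat.blt x 4) &&
    Nat.beq (cWord (codeWords.getD j [])) ([1, 2, 4, 8, 16, 32, 96].getD j 0)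

end CfsgLib.Recog.ExtraThirtyTwo.Glue
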