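import Cfsg.Agent.Lib.Recog.ExtraThirtyTwo.SixteenCheck
import Cfsg.Agent.Lib.Recog.ExtraThirtyTwo.Colour
import Mathlib.GroupTheory.Index
import Mathlib.GroupTheory.Transfer

set_option autoImplicit false

/-!
`A = <x1, y1, s, w>` in the first candidate: an element of `A` fused to `s` is fused to it in `N(A)`
(owner: helper25; the argument is that of helper22 in `AllFused`, without the colour hypothesis).
-/

namespace CfsgLib.Recog.ExtraThirtyTwo

open Subgroup
open CfsgLib.Recog.Held (countBelow allBelow allBelow_spec card_eq_countBelow)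

variable {G : Type*} [Group G] {s : G}

theorem inA_closed {x y : ℕ} (hx : x < 192) (hy : y < 192) (hxA : inA x = true) (hyA : inA y = true) :
    inA (mulC 0 x y) = true ∧ mulC 0 x y = mulC 0 y x ∧ mulC 0 x x = 0 := by
  have ha := sixteenA_ok
  simp only [sixteenA, com0, Bool.and_eq_true, Bool.or_eq_true, Bool.not_eq_true', Bool.eq_false_iff,
    ne_eq, allBelow_spec, Nat.beq_eq] at ha
  obtain ⟨-, -, -, h, -⟩ := ha
  rcases h x hx with h | h
  · exact absurd hxA h
  · rcases h.2 y hy with h' | h'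
    · exact absurd hyA h'
    · exact ⟨h'.1, h'.2, h.1⟩

namespace Coord

variable (K : Coord s 0)

/-- The subgroup `A`. -/
def sixteen : Subgroup G where
  carrier := {g | ∃ x < 192, inA x = true ∧ K.el x = g}
  one_mem' := ⟨0, by omega, rfl, K.el_zero (by omega)⟩
  mul_mem' := by
    rintro _ _ ⟨x, hx, hxA, rfl⟩ ⟨y, hy, hyA, rfl⟩
    exact ⟨_, mulC_lt (by omega) hx hy, (inA_closed hx hy hxA hyA).1, (K.el_mul x hx y hy).symm⟩
  inv_mem' := by
    rintro _ ⟨x, hx, hxA, rfl⟩
    refine ⟨x, hx, hxA, (inv_eq_of_mul_eq_one_right ?_).symm⟩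
    rw [K.el_mul x hx x hx, (inA_closed hx hx hxA hxA).2.2, K.el_zero (by omega)]

theorem mem_sixteen {x : ℕ} (hx : x < 192) : K.el x ∈ K.sixteen ↔ inA x = true :=
  ⟨fun ⟨y, hy, hyA, e⟩ => K.el_inj y hy x hx e ▸ hyA, fun h => ⟨x, hx, h, rfl⟩⟩

/-- An element of `A` fused to `s` moves to `s` in the normaliser of `A`. -/
theorem sixteen_move [Finite G] {x : ℕ} (hx : x < 192) (hxA : inA x = true) (hfx : IsConj (K.el x) s) :
    ∃ h : G, h ∈ normalizer (K.sixteen : Set G) ∧ h * K.el x * h⁻¹ = s := by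
  have h4 : (0 : ℕ) < 4 := by omega
  have ha := sixteenA_ok
  simp only [sixteenA, com0, Bool.and_eq_true, Bool.or_eq_true, Bool.not_eq_true', Bool.eq_false_iff,
    ne_eq, allBelow_spec, Nat.beq_eq, Nat.blt_eq] at ha
  obtain ⟨hA16, h0A, h16A, -, hC, hout, hQcase⟩ := ha
  set A := K.sixteen with hA
  have sqA : ∀ x < 192, inA x = true → K.el x * K.el x = 1 := fun x hx hxA => by
    rw [K.el_mul x hx x hx, (inA_closed hx hx hxA hxA).2.2, K.el_zero h4]
  have hcommA : ∀ a ∈ A, ∀ b ∈ A, a * b = b * a := by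
    rintro _ ⟨x, hx, hxA, rfl⟩ _ ⟨y, hy, hyA, rfl⟩
    exact (K.comm_iff h4 hx hy).2 (inA_closed hx hy hxA hyA).2.1
  have hexpA : ∀ a ∈ A, a * a = 1 := by
    rintro _ ⟨x, hx, hxA, rfl⟩
    exact sqA x hx hxA
  have hcardA : Nat.card A = 16 := by
    rw [← hA16]
    exact card_eq_countBelow K.el 192 _ (· ∈ A) (fun a ha b hb h => K.el_inj a ha b hb h)
      (fun j hj => (K.mem_sixteen hj).symm) fun a ⟨x, hx, _, e⟩ => ⟨x, hx, e⟩
  have inv_class : ∀ x < 192, K.el x ≠ 1 → K.el x * K.el x = 1 → cls 0 x ≠ 0 := fun x hx h1 h2 =>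
    (K.sq_iff h4 hx).1 ⟨h1, h2⟩
  obtain ⟨g, hg⟩ := isConj_iff.1 hfx
  set B := A.map (MulAut.conj g).toMonoidHom with hB
  have hBcard : Nat.card B = 16 := by
    rw [hB, card_map_of_injective (MulAut.conj g).injective, hcardA]
  have hBcomm : ∀ b ∈ B, ∀ c ∈ B, b * c = c * b := by
    rintro _ ⟨b, hb, rfl⟩ _ ⟨c, hc, rfl⟩
    rw [← map_mul, ← map_mul, hcommA b hb c hc]
  have hBsq : ∀ b ∈ B, b * b = 1 := by
    rintro _ ⟨b, hb, rfl⟩
    rw [← map_mul, hexpA b hb, map_one]
  have hsB : s ∈ B := ⟨K.el x, ⟨x, hx, hxA, rfl⟩, hg⟩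
  have hBcode : ∀ b ∈ B, ∃ y < 192, K.el y = b := fun b hb => K.surj b (hBcomm b hb s hsB)
  by_cases hout' : ∃ y < 192, 32 ≤ y ∧ K.el y ∈ B
  · obtain ⟨y, hy, hy32, hyB⟩ := hout'
    have hy1 : K.el y ≠ 1 := fun e => by
      have := K.el_inj y hy 0 (by omega) (e.trans (K.el_zero h4).symm)
      omega
    have hyc := inv_class y hy hy1 (hBsq _ hyB)
    obtain ⟨l, hls, hl⟩ := K.class_conj h4 hy hyc
    obtain ⟨r, hr, hrA, hrC⟩ : ∃ r < 192, rep 0 (cls 0 y - 1) = r ∧
        ∀ z < 192, mulC 0 z r = mulC 0 r z → inA z = true := by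
      rcases hout y hy with h | h | h | h
      · omega
      · exact absurd h hyc
      · exact ⟨96, by omega, by rw [h]; decide +kernel, fun z hz e => (hC z hz).1.resolve_left fun c => c e⟩
      · exact ⟨101, by omega, by rw [h]; decide +kernel, fun z hz e => (hC z hz).2.2.1.resolve_left fun c => c e⟩
    rw [hrA] at hl
    refine ⟨l * g, ?_, ?_⟩
    · have hle : A.map (MulAut.conj (l * g)).toMonoidHom ≤ A := by
        rintro _ ⟨b, hb, rfl⟩
        have hbB : g * b * g⁻¹ ∈ B := ⟨b, hb, rfl⟩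
        show l * g * b * (l * g)⁻¹ ∈ A
        rw [show l * g * b * (l * g)⁻¹ = l * (g * b * g⁻¹) * l⁻¹ by group]
        obtain ⟨z, hz, hzb⟩ := K.surj (l * (g * b * g⁻¹) * l⁻¹) (by
          have hls' : l * s * l⁻¹ = s := mul_inv_eq_iff_eq_mul.2 hls
          rw [← hls', conj_mul, conj_mul, hBcomm _ hbB s hsB])
        refine ⟨z, hz, hrC z hz ((K.comm_iff h4 hz hr).1 ?_), hzb⟩
        rw [hzb, ← hl, conj_mul, conj_mul, hBcomm _ hbB _ hyB]
      have heq := eq_of_le_of_card_ge hle (by rw [card_map_of_injective (MulAut.conj (l * g)).injective])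
      refine mem_normalizer_iff.2 fun b => ⟨fun hb => hle ⟨b, hb, rfl⟩, fun hb => ?_⟩
      rw [← heq] at hb
      obtain ⟨c, hc, hcb⟩ := hb
      exact (MulAut.conj (l * g)).injective hcb ▸ hc
    · rw [show l * g * K.el x * (l * g)⁻¹ = l * (g * K.el x * g⁻¹) * l⁻¹ by group, hg]
      exact mul_inv_eq_iff_eq_mul.2 hls
  · exfalso
    push Not at hout'
    have hQ : ∀ b ∈ B, ∃ y < 32, K.el y = b := fun b hb => by
      obtain ⟨y, hy, rfl⟩ := hBcode b hb
      exact ⟨y, (lt_or_ge y 32).resolve_right fun h => hout' y hy h hb, rfl⟩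
    obtain ⟨b, hbB, hb1, hbs⟩ : ∃ b ∈ B, b ≠ 1 ∧ b ≠ s := by
      by_contra hc
      push Not at hc
      have hle : B ≤ zpowers s := fun b hb => by
        by_cases e : b = 1
        · rw [e]; exact one_mem _
        · rw [hc b hb e]; exact mem_zpowers s
      have h := card_le_of_le hle
      rw [hBcard, Nat.card_zpowers] at h
      have := orderOf_le_of_pow_eq_one (x := s) (n := 2) (by norm_num) (by rw [pow_two, K.s_sq h4])
      omega
    obtain ⟨y, hy, rfl⟩ := hQ b hbB
    have hy2 : 1 < cls 0 y := by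
      have h1 := inv_class y (by omega) hb1 (hBsq _ hbB)
      have key : ∀ y < 32, cls 0 y = 1 → y = 16 := by decide +kernel
      by_contra hc
      exact hbs (by rw [key y hy (by omega), K.el_s])
    rcases hQcase y hy with h | ⟨hcount, hnc⟩
    · exact h hy2
    refine hnc fun u hu v hv => ?_
    rintro ⟨⟨hyu, hyv⟩, huv⟩
    have hcent : ∀ z < 32, mulC 0 y z = mulC 0 z y → K.el z ∈ B := by
      let T : Set G := {g | ∃ z < 32, mulC 0 y z = mulC 0 z y ∧ K.el z = g}
      have hBT : (B : Set G) ⊆ T := fun c hc => by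
        obtain ⟨z, hz, rfl⟩ := hQ c hc
        exact ⟨z, hz, (K.comm_iff h4 (by omega) (by omega)).1 (hBcomm _ hbB _ hc), rfl⟩
      have hTc : Nat.card T = 16 := by
        rw [← hcount]
        exact card_eq_countBelow K.el 32 _ (· ∈ T)
          (fun a ha b hb h => K.el_inj a (by omega) b (by omega) h)
          (fun j hj => by
            rw [Nat.beq_eq]
            exact ⟨fun h => ⟨j, hj, h, rfl⟩, fun ⟨z, hz, h, e⟩ => by
              rwa [← K.el_inj z (by omega) j (by omega) e]⟩)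
          fun g ⟨z, hz, _, e⟩ => ⟨z, hz, e⟩
      intro z hz he
      have heq : (B : Set G) = T := Set.eq_of_subset_of_ncard_le hBT
        (by rw [← Nat.card_coe_set_eq, ← Nat.card_coe_set_eq, hTc]; exact hBcard.ge) (Set.toFinite T)
      exact heq.ge ⟨z, hz, he, rfl⟩
    exact huv ((K.comm_iff h4 (by omega) (by omega)).1 (hBcomm _ (hcent u hu hyu) _ (hcent v hv hyv)))

end Coord

end CfsgLib.Recog.ExtraThirtyTwo
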