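import Cfsg.Agent.Lib.Recog.ExtraThirtyTwo.GlueCheck
import Cfsg.Agent.Lib.Recog.ExtraThirtyTwo.SixteenMove
import Cfsg.Agent.Lib.Recog.ExtraThirtyTwo.Simple
import Mathlib.Tactic.Group

set_option autoImplicit false

/-!
`N(A)` contains a copy of the model `A : (D : V)` (owner: helper25).

An element of `A` fused to `s` moves to `s` in `N(A)`; its action gives the two automorphisms of order three. Their
lifts are made to commute and to be normalised by `V = <x2, y2>` by two shifts inside `A`.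
-/

namespace CfsgLib.Recog.ExtraThirtyTwo

open Subgroup
open CfsgLib.Recog.Held (allBelow allBelow_spec)

variable {G : Type*} [Group G] {s : G}

namespace Glue

theorem xor_lt {a b : ℕ} (ha : a < 16) (hb : b < 16) : a ^^^ b < 16 := Nat.xor_lt_two_pow (n := 4) ha hb

theorem index_facts :
    (∀ m < 16, al m < 192 ∧ inA (al m) = true ∧ co (al m) = m) ∧
    (∀ x < 192, inA x = true → co x < 16 ∧ al (co x) = x) ∧
    (∀ a < 16, ∀ b < 16, mulC 0 (al a) (al b) = al (a ^^^ b)) ∧
    (∀ b < 4, ∀ m < 16, mulC 0 (vCode b) (al m) = mulC 0 (al (tau b m)) (vCode b) ∧ tau b m < 16) ∧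
    (∀ b < 4, ∀ c < 4, mulC 0 (vCode b) (vCode c) = vCode (b ^^^ c)) ∧
    (∀ b < 4, ∀ m < 16, ∀ n < 16, tau b (m ^^^ n) = tau b m ^^^ tau b n) := by
  have h := index_ok
  simp only [indexOK, Bool.and_eq_true, Bool.or_eq_true, Bool.not_eq_true', Bool.eq_false_iff, ne_eq,
    allBelow_spec, Nat.beq_eq, Nat.blt_eq] at h
  obtain ⟨h1, h2, h3, h4, h5, h6⟩ := h
  exact ⟨h1, fun x hx hA => (h2 x hx).resolve_left fun c => c hA, h3, h4, h5, h6⟩

theorem sig_facts :
    (∀ m < 16, sig1 m < 16 ∧ sig3 m < 16 ∧ sig1 (sig1 (sig1 m)) = m ∧ sig3 (sig3 (sig3 m)) = m ∧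
      sig1 (sig3 m) = sig3 (sig1 m) ∧ (sig1 m = m → m = 0) ∧ (sig3 m = m → m = 0) ∧
      ∀ b < 4, tau b (sig1 (tau b m)) = pw sig1 (ep1 b) m ∧ tau b (sig3 (tau b m)) = pw sig3 (ep3 b) m) ∧
    (∀ m < 16, ∀ n < 16, sig1 (m ^^^ n) = sig1 m ^^^ sig1 n ∧ sig3 (m ^^^ n) = sig3 m ^^^ sig3 n) ∧
    (∀ m < 16, ∀ n < 16, m ^^^ sig1 m = n ^^^ sig1 n → m = n) := by
  have h := sig_ok
  simp only [sigOK, Bool.and_eq_true, Bool.or_eq_true, Bool.not_eq_true', Bool.eq_false_iff, ne_eq,
    allBelow_spec, Nat.beq_eq, Nat.blt_eq] at h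
  obtain ⟨h1, h2, h3⟩ := h
  refine ⟨fun m hm => ?_, h2, fun m hm n hn e => (h3 m hm n hn).resolve_left fun c => c e⟩
  obtain ⟨a, b, c, d, e, f, g⟩ := h1 m hm
  exact ⟨a, b, c, d, e, fun hh => f.resolve_right fun r => r.1 hh, fun hh => f.resolve_right fun r => r.2 hh, g⟩

theorem solve_one : ∀ c < 16, ∃ m < 16, m ^^^ sig1 m = c := by
  have h := solve_ok
  simp only [solveOK, Bool.and_eq_true, Bool.not_eq_true', Bool.eq_false_iff, ne_eq,
    allBelow_spec, Nat.beq_eq] at h
  intro c hc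
  have hm := h.1 c hc
  push Not at hm
  exact hm

theorem solve_two {a b : ℕ} (ha : a < 16) (hb : b < 16) (h1 : a ^^^ tau 1 a = 0) (h2 : b ^^^ tau 2 b = 0)
    (h3 : a ^^^ tau 1 b = b ^^^ tau 2 a) : ∃ c < 16, c ^^^ tau 1 c = a ∧ c ^^^ tau 2 c = b := by
  have h := solve_ok
  simp only [solveOK, Bool.and_eq_true, Bool.or_eq_true, Bool.not_eq_true', Bool.eq_false_iff, ne_eq,
    allBelow_spec, Nat.beq_eq] at h
  have hc := (h.2 a ha b hb).resolve_left fun c => c ⟨h1, h2, h3⟩
  push Not at hc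
  exact hc

theorem bits16 : ∀ m < 16, m = (fld 1 m 0 ^^^ 2 * fld 1 m 1) ^^^ (4 * fld 1 m 2 ^^^ 8 * fld 1 m 3) := by
  have h : allBelow 16 (fun m => Nat.beq m
      (Nat.xor (Nat.xor (fld 1 m 0) (2 * fld 1 m 1)) (Nat.xor (4 * fld 1 m 2) (8 * fld 1 m 3)))) = true := by
    decide +kernel
  intro m hm
  exact Nat.eq_of_beq_eq_true (allBelow_spec.1 h m hm)

theorem bit_lt (m k : ℕ) : fld 1 m k < 2 := by rw [fld_one]; omega

/-- A map of the sixteen indices compatible with the addition is the linear map of its basis values. -/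
theorem eq_lin {p : ℕ → ℕ}
    (hadd : ∀ a < 16, ∀ b < 16, p (a ^^^ b) = p a ^^^ p b) {m : ℕ} (hm : m < 16) :
    p m = lin (p 1) (p 2) (p 4) (p 8) m := by
  have h0 : p 0 = 0 := by
    have h := hadd 0 (by omega) 0 (by omega)
    rwa [Nat.xor_self, Nat.xor_self] at h
  have e : ∀ b c : ℕ, b < 2 → p (c * b) = p c * b := fun b c hb => by
    rcases (by omega : b = 0 ∨ b = 1) with rfl | rfl <;> simp [h0]
  have b0 := bit_lt m 0; have b1 := bit_lt m 1; have b2 := bit_lt m 2; have b3 := bit_lt m 3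
  conv_lhs => rw [bits16 m hm]
  rw [hadd _ (xor_lt (by omega) (by omega)) _ (xor_lt (by omega) (by omega)),
    hadd _ (by omega) _ (by omega), hadd _ (by omega) _ (by omega), e _ 2 b1, e _ 4 b2, e _ 8 b3]
  rw [show p (fld 1 m 0) = p 1 * fld 1 m 0 by rw [← e _ 1 b0, one_mul]]
  rfl

theorem mapWord_congr {p f : ℕ → ℕ} (hlt : ∀ m < 16, p m < 16) (he : ∀ m < 16, f m = p m) {m : ℕ} (hm : m < 16) :
    ∀ w : List ℕ, mapWord f w m = mapWord p w m ∧ mapWord p w m < 16 := by
  intro w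
  induction w with
  | nil => exact ⟨rfl, hm⟩
  | cons x w ih =>
    obtain ⟨e, h⟩ := ih
    have ht : ∀ b < 4, tau b (mapWord p w m) < 16 := fun b hb => (index_facts.2.2.2.1 b hb _ h).2
    show cond (Nat.beq x 0) (tau 1 (mapWord f w m)) (cond (Nat.beq x 1) (tau 2 (mapWord f w m)) (f (mapWord f w m))) =
        cond (Nat.beq x 0) (tau 1 (mapWord p w m)) (cond (Nat.beq x 1) (tau 2 (mapWord p w m)) (p (mapWord p w m))) ∧
      cond (Nat.beq x 0) (tau 1 (mapWord p w m)) (cond (Nat.beq x 1) (tau 2 (mapWord p w m)) (p (mapWord p w m))) < 16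
    rw [e, he _ h]
    refine ⟨rfl, ?_⟩
    cases Nat.beq x 0
    · cases Nat.beq x 1
      · exact hlt _ h
      · exact ht 2 (by omega)
    · exact ht 1 (by omega)

variable (K : Coord s 0)

/-- The element of `A` with an index. -/
noncomputable def av (m : ℕ) : G := K.el (al m)

/-- An element of the complement. -/
noncomputable def vE (b : ℕ) : G := K.el (vCode b)

theorem vCode_lt (b : ℕ) : vCode b < 192 := by
  have h1 := bit_lt b 0; have h2 := bit_lt b 1
  unfold vCode
  omega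

theorem av_mul {a b : ℕ} (ha : a < 16) (hb : b < 16) : av K a * av K b = av K (a ^^^ b) := by
  rw [av, av, K.el_mul _ (index_facts.1 a ha).1 _ (index_facts.1 b hb).1, index_facts.2.2.1 a ha b hb]
  rfl

theorem av_zero : av K 0 = 1 := by
  rw [av, show al 0 = 0 by decide +kernel, K.el_zero (by omega)]

theorem av_s : av K 1 = s := by rw [av, show al 1 = 16 by decide +kernel, K.el_s]

theorem av_sq {a : ℕ} (ha : a < 16) : av K a * av K a = 1 := by rw [av_mul K ha ha, Nat.xor_self, av_zero]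

theorem av_inj {a b : ℕ} (ha : a < 16) (hb : b < 16) (h : av K a = av K b) : a = b := by
  have e := K.el_inj _ (index_facts.1 a ha).1 _ (index_facts.1 b hb).1 h
  rw [← (index_facts.1 a ha).2.2, e, (index_facts.1 b hb).2.2]

theorem vE_mul {b c : ℕ} (hb : b < 4) (hc : c < 4) : vE K b * vE K c = vE K (b ^^^ c) := by
  rw [vE, vE, K.el_mul _ (vCode_lt b) _ (vCode_lt c), index_facts.2.2.2.2.1 b hb c hc]
  rfl

theorem vE_zero : vE K 0 = 1 := by rw [vE, show vCode 0 = 0 by decide +kernel, K.el_zero (by omega)]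

theorem vE_sq {b : ℕ} (hb : b < 4) : vE K b * vE K b = 1 := by rw [vE_mul K hb hb, Nat.xor_self, vE_zero]

theorem vE_av {b m : ℕ} (hb : b < 4) (hm : m < 16) : vE K b * av K m = av K (tau b m) * vE K b := by
  obtain ⟨e, hlt⟩ := index_facts.2.2.2.1 b hb m hm
  rw [vE, av, K.el_mul _ (vCode_lt b) _ (index_facts.1 m hm).1, e,
    ← K.el_mul _ (index_facts.1 _ hlt).1 _ (vCode_lt b)]
  rfl

theorem mem_sixteen_iff {g : G} : g ∈ K.sixteen ↔ ∃ m < 16, av K m = g :=
  ⟨fun ⟨x, hx, hA, e⟩ => ⟨co x, (index_facts.2.1 x hx hA).1, by rw [av, (index_facts.2.1 x hx hA).2, e]⟩,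
    fun ⟨m, hm, e⟩ => e ▸ ⟨_, (index_facts.1 m hm).1, (index_facts.1 m hm).2.1, rfl⟩⟩

/-- `g` acts on `A` by `f`. -/
def Acts (g : G) (f : ℕ → ℕ) : Prop := ∀ m < 16, f m < 16 ∧ g * av K m = av K (f m) * g

variable {K}

theorem Acts.mul {g h : G} {f f' : ℕ → ℕ} (hg : Acts K g f) (hh : Acts K h f') :
    Acts K (g * h) (fun m => f (f' m)) := fun m hm => by
  obtain ⟨h1, h2⟩ := hh m hm
  obtain ⟨g1, g2⟩ := hg _ h1
  exact ⟨g1, by rw [mul_assoc, h2, ← mul_assoc, g2, mul_assoc]⟩

theorem Acts.congr {g : G} {f f' : ℕ → ℕ} (hg : Acts K g f) (e : ∀ m < 16, f m = f' m) : Acts K g f' :=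
  fun m hm => e m hm ▸ hg m hm

theorem acts_vE {b : ℕ} (hb : b < 4) : Acts K (vE K b) (tau b) := fun m hm =>
  ⟨(index_facts.2.2.2.1 b hb m hm).2, vE_av K hb hm⟩

theorem acts_av {a : ℕ} (ha : a < 16) : Acts K (av K a) (fun m => m) := fun m hm =>
  ⟨hm, by rw [av_mul K ha hm, av_mul K hm ha, Nat.xor_comm]⟩

/-- An element acting trivially on `A` lies in `A`. -/
theorem Acts.mem {g : G} (hg : Acts K g (fun m => m)) : ∃ c < 16, g = av K c := by
  have h1 := (hg 1 (by omega)).2
  rw [av_s] at h1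
  obtain ⟨x, hx, rfl⟩ := K.surj g h1
  have h8 := (hg 8 (by omega)).2
  rw [av, show al 8 = 96 by decide +kernel, K.el_mul _ hx _ (by omega), K.el_mul _ (by omega) _ hx] at h8
  have e := K.el_inj _ (mulC_lt (by omega) hx (by omega)) _ (mulC_lt (by omega) (by omega) hx) h8
  have ha := sixteenA_ok
  simp only [sixteenA, com0, Bool.and_eq_true, Bool.or_eq_true, Bool.not_eq_true', Bool.eq_false_iff,
    ne_eq, allBelow_spec, Nat.beq_eq] at ha
  obtain ⟨-, -, -, -, hC, -, -⟩ := ha
  have hA := ((hC x hx).1).resolve_left fun c => c e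
  exact ⟨co x, (index_facts.2.1 x hx hA).1, by rw [av, (index_facts.2.1 x hx hA).2]⟩

/-- Two elements with the same invertible action differ by an element of `A`. -/
theorem Acts.same {g g' : G} {f : ℕ → ℕ} (hg : Acts K g f) (hg' : Acts K g' f)
    (hsurj : ∀ n < 16, ∃ m < 16, f m = n) : ∃ c < 16, g = av K c * g' := by
  have h : Acts K (g * g'⁻¹) (fun m => m) := fun n hn => by
    obtain ⟨m, hm, rfl⟩ := hsurj n hn
    refine ⟨hn, ?_⟩
    have e : g'⁻¹ * av K (f m) = av K m * g'⁻¹ := by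
      rw [eq_mul_inv_iff_mul_eq, mul_assoc, ← (hg' m hm).2, inv_mul_cancel_left]
    rw [mul_assoc, e, ← mul_assoc, (hg m hm).2, mul_assoc]
  obtain ⟨c, hc, e⟩ := h.mem
  exact ⟨c, hc, by rw [← e, inv_mul_cancel_right]⟩

/-- An element acting as an automorphism of order three without fixed points has order three. -/
theorem Acts.cube {y : G} {f : ℕ → ℕ} (hy : Acts K y f) (hcu : ∀ m < 16, f (f (f m)) = m)
    (hfix : ∀ m < 16, f m = m → m = 0) : y * y * y = 1 := by
  obtain ⟨c, hc, e⟩ := (((hy.mul hy).mul hy).congr hcu).mem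
  have h := (hy c hc).2
  rw [← e, show y * (y * y * y) = (y * y * y) * y by group, e] at h
  rw [e, hfix c hc (av_inj K (hy c hc).1 hc (mul_right_cancel h).symm), av_zero]

variable (K)

/-- An element of `N(A)` acting on `A` as a given automorphism of order three. -/
theorem exists_lift [Finite G] (hm : K.mask = 11) (k : ℕ) (hk : k = 2 ∨ k = 4) (g : ℕ → ℕ)
    (hg : ∀ m < 16, g m < 16 ∧ g (g (g m)) = m) (W : List (List ℕ)) (hW : moveOK k g W = true) :
    ∃ y : G, Acts K y g := by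
  have hk16 : k < 16 := by omega
  have hcol : ∀ m < 16, (colA m = true ↔ IsConj (av K m) s) := fun m hm' => by
    rw [colA, av, K.mask_spec (by omega) (index_facts.1 m hm').1, hm]
  have hck : colA k = true := by
    rcases hk with rfl | rfl <;> decide +kernel
  obtain ⟨h, hN, hh⟩ := K.sixteen_move (index_facts.1 k hk16).1 (index_facts.1 k hk16).2.1 ((hcol k hk16).1 hck)
  have hex : ∀ m, ∃ n, m < 16 → n < 16 ∧ h * av K m = av K n * h := fun m => by
    by_cases hm' : m < 16
    · obtain ⟨n, hn, e⟩ := (mem_sixteen_iff K).1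
        ((mem_normalizer_iff.1 hN (av K m)).1 ((mem_sixteen_iff K).2 ⟨m, hm', rfl⟩))
      exact ⟨n, fun _ => ⟨hn, by rw [e, inv_mul_cancel_right]⟩⟩
    · exact ⟨0, fun h' => absurd h' hm'⟩
  choose p hp using hex
  have hA : Acts K h p := fun m hm' => hp m hm'
  have hlt : ∀ m < 16, p m < 16 := fun m hm' => (hp m hm').1
  have heq : ∀ m < 16, h * av K m * h⁻¹ = av K (p m) := fun m hm' => by
    rw [(hp m hm').2, mul_inv_cancel_right]
  have hadd : ∀ a < 16, ∀ b < 16, p (a ^^^ b) = p a ^^^ p b := fun a ha b hb => by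
    refine av_inj K (hlt _ (xor_lt ha hb)) (xor_lt (hlt a ha) (hlt b hb)) ?_
    rw [← heq _ (xor_lt ha hb), ← av_mul K ha hb, ← av_mul K (hlt a ha) (hlt b hb), ← heq a ha, ← heq b hb]
    group
  have hcolp : ∀ m < 16, colA (p m) = colA m := fun m hm' => by
    rw [Bool.eq_iff_iff, hcol _ (hlt m hm'), hcol m hm', ← heq m hm']
    have hc : IsConj (h * av K m * h⁻¹) (av K m) := isConj_iff.2 ⟨h⁻¹, by group⟩
    exact ⟨fun e => hc.symm.trans e, fun e => hc.trans e⟩
  have hzero : ∀ m < 16, p m = 0 → m = 0 := fun m hm' e => by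
    refine av_inj K hm' (by omega) ?_
    have := heq m hm'
    rw [e, av_zero, mul_inv_eq_one, mul_eq_left] at this
    rw [this, av_zero]
  have hpk : p k = 1 := by
    refine av_inj K (hlt k hk16) (by omega) ?_
    rw [← heq k hk16, av_s]
    exact hh
  obtain ⟨q, hq, hqc, hqe⟩ : ∃ q < 16, colA q = true ∧ ∀ m < 16,
      cond (Nat.beq k 2) (lin (p 1) 1 q (p 8) m) (lin (p 1) q 1 (p 8) m) = p m := by
    rcases hk with rfl | rfl
    · exact ⟨p 4, hlt 4 (by omega), by rw [hcolp 4 (by omega)]; decide +kernel, fun m hm' => by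
        rw [show Nat.beq 2 2 = true from rfl, cond_true, eq_lin hadd hm', hpk]⟩
    · exact ⟨p 2, hlt 2 (by omega), by rw [hcolp 2 (by omega)]; decide +kernel, fun m hm' => by
        rw [show Nat.beq 4 2 = false from rfl, cond_false, eq_lin hadd hm', hpk]⟩
  simp only [moveOK, allBelow_spec, Bool.and_eq_true, Bool.or_eq_true, Bool.not_eq_true', Bool.eq_false_iff,
    ne_eq, List.any_eq_true] at hW
  rcases hW (p 1) (hlt 1 (by omega)) q hq (p 8) (hlt 8 (by omega)) with hW | ⟨w, -, hw⟩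
  · refine (hW ⟨?_, hqc, ?_, fun m hm' => ⟨?_, ?_⟩⟩).elim
    · rw [hcolp 1 (by omega)]; decide +kernel
    · rw [hcolp 8 (by omega)]; decide +kernel
    · by_cases e : m = 0
      · exact Or.inl (by rw [e]; rfl)
      · exact Or.inr fun h' => e (hzero m hm' (by rw [← hqe m hm']; exact Nat.eq_of_beq_eq_true h'))
    · rw [hqe m hm', hcolp m hm']
      cases colA m <;> simp
  · -- the element of the word
    have hword : ∀ w : List ℕ, ∃ y : G, Acts K y (mapWord p w) := by
      intro w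
      induction w with
      | nil => exact ⟨1, fun m hm' => ⟨hm', by
          show 1 * av K m = av K m * 1
          rw [one_mul, mul_one]⟩⟩
      | cons x w ih =>
        obtain ⟨y, hy⟩ := ih
        by_cases e0 : x = 0
        · subst e0
          exact ⟨vE K 1 * y, (acts_vE (by omega)).mul hy⟩
        by_cases e1 : x = 1
        · subst e1
          exact ⟨vE K 2 * y, (acts_vE (by omega)).mul hy⟩
        refine ⟨h * y, (hA.mul hy).congr fun m _ => ?_⟩
        show p (mapWord p w m) = cond (Nat.beq x 0) _ (cond (Nat.beq x 1) _ (p (mapWord p w m)))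
        rw [show Nat.beq x 0 = false from Bool.eq_false_iff.2 fun c => e0 (Nat.eq_of_beq_eq_true c),
          show Nat.beq x 1 = false from Bool.eq_false_iff.2 fun c => e1 (Nat.eq_of_beq_eq_true c)]
        rfl
    obtain ⟨y, hy⟩ := hword w
    have hmw : ∀ m < 16, mapWord (fun m => cond (Nat.beq k 2) (lin (p 1) 1 q (p 8) m) (lin (p 1) q 1 (p 8) m)) w m =
        mapWord p w m := fun m hm' => (mapWord_congr hlt hqe hm' w).1
    simp only [goalOK, Bool.or_eq_true, allBelow_spec, Nat.beq_eq] at hw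
    rcases hw with hw | hw
    · exact ⟨y, hy.congr fun m hm' => (hmw m hm').symm.trans (hw m hm')⟩
    · have hy' : Acts K y (fun m => g (g m)) := hy.congr fun m hm' => (hmw m hm').symm.trans (hw m hm')
      exact ⟨y * y, (hy'.mul hy').congr fun m hm' => (hg (g m) (hg m hm').1).2⟩

/-- The copy of the model. -/
structure Pair (x1 x3 : G) : Prop where
  act1 : Acts K x1 sig1
  act3 : Acts K x3 sig3
  cube1 : x1 * x1 * x1 = 1
  cube3 : x3 * x3 * x3 = 1
  comm : x1 * x3 = x3 * x1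
  conj : ∀ b < 4, vE K b * x1 * vE K b = x1 ^ ep1 b ∧ vE K b * x3 * vE K b = x3 ^ ep3 b

variable {K}

theorem acts_pow {y : G} {f : ℕ → ℕ} (hy : Acts K y f) (n : ℕ) : Acts K (y ^ n) (pw f n) := by
  induction n with
  | zero => exact fun m hm => ⟨hm, by rw [pow_zero, one_mul, mul_one]; rfl⟩
  | succ n ih => rw [pow_succ']; exact hy.mul ih

theorem acts_conj {y : G} {f : ℕ → ℕ} (hy : Acts K y f) {b : ℕ} (hb : b < 4) :
    Acts K (vE K b * y * vE K b) (fun m => tau b (f (tau b m))) :=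
  ((acts_vE hb).mul hy).mul (acts_vE hb)

theorem pw_surj {f : ℕ → ℕ} (hlt : ∀ m < 16, f m < 16) (hcu : ∀ m < 16, f (f (f m)) = m) {e : ℕ}
    (he : e = 1 ∨ e = 2) : ∀ n < 16, ∃ m < 16, pw f e m = n := by
  intro n hn
  rcases he with rfl | rfl
  · exact ⟨f (f n), hlt _ (hlt _ hn), hcu n hn⟩
  · exact ⟨f n, hlt _ hn, hcu n hn⟩

theorem ep_cases (b : ℕ) : (ep1 b = 1 ∨ ep1 b = 2) ∧ (ep3 b = 1 ∨ ep3 b = 2) := by
  have := bit_lt b 0; have := bit_lt b 1
  unfold ep1 ep3
  omega

theorem exists_pair [Finite G] (hm : K.mask = 11) : ∃ x1 x3 : G, Pair K x1 x3 := by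
  obtain ⟨hs, hadd, hinj⟩ := sig_facts
  obtain ⟨y1, hy1⟩ := exists_lift K hm 2 (Or.inl rfl) sig1 (fun m h => ⟨(hs m h).1, (hs m h).2.2.1⟩) _ move1_ok
  obtain ⟨y3', hy3'⟩ := exists_lift K hm 4 (Or.inr rfl) sig3 (fun m h => ⟨(hs m h).2.1, (hs m h).2.2.2.1⟩) _ move3_ok
  -- make them commute
  obtain ⟨y3, hy3, hcomm⟩ : ∃ y3, Acts K y3 sig3 ∧ y1 * y3 = y3 * y1 := by
    obtain ⟨c, hc, e⟩ := (hy1.mul hy3').same ((hy3'.mul hy1).congr fun m h => ((hs m h).2.2.2.2.1).symm)
      (fun n hn => ⟨sig3 (sig3 (sig1 (sig1 n))), (hs _ (hs _ (hs _ (hs n hn).1).1).2.1).2.1, by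
        show sig1 (sig3 (sig3 (sig3 (sig1 (sig1 n))))) = n
        rw [(hs _ (hs _ (hs n hn).1).1).2.2.2.1, (hs n hn).2.2.1]⟩)
    obtain ⟨b, hb, hbc⟩ := solve_one c hc
    refine ⟨av K b * y3', ((acts_av hb).mul hy3'), ?_⟩
    have e2 : sig1 b ^^^ c = b := by rw [← hbc, Nat.xor_comm b, ← Nat.xor_assoc, Nat.xor_self, Nat.zero_xor]
    rw [← mul_assoc, (hy1 b hb).2, mul_assoc, e, ← mul_assoc, av_mul K (hy1 b hb).1 hc, e2, mul_assoc]
  have c1 := hy1.cube (fun m h => (hs m h).2.2.1) fun m h => (hs m h).2.2.2.2.2.1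
  have c3 := hy3.cube (fun m h => (hs m h).2.2.2.1) fun m h => (hs m h).2.2.2.2.2.2.1
  have sinj : ∀ {y : G} {e c c' : ℕ}, Acts K y (pw sig1 e) → (e = 1 ∨ e = 2) → c < 16 → c' < 16 →
      av K c * y * av K c = av K c' * y * av K c' → c = c' := by
    intro y e c c' hy he hc hc' h
    rw [mul_assoc, (hy c hc).2, ← mul_assoc, av_mul K hc (hy c hc).1, mul_assoc (av K c'), (hy c' hc').2,
      ← mul_assoc, av_mul K hc' (hy c' hc').1] at h
    have e2 := av_inj K (xor_lt hc (hy c hc).1) (xor_lt hc' (hy c' hc').1) (mul_right_cancel h)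
    rcases he with rfl | rfl
    · exact hinj c hc c' hc' e2
    · have step : ∀ d, d < 16 → sig1 (d ^^^ pw sig1 2 d) = d ^^^ sig1 d := fun d hd => by
        show sig1 (d ^^^ sig1 (sig1 d)) = _
        rw [(hadd d hd _ (hs _ (hs d hd).1).1).1, (hs d hd).2.2.1, Nat.xor_comm]
      exact hinj c hc c' hc' (by rw [← step c hc, ← step c' hc', e2])
  -- the action of the complement
  have shift : ∀ b < 4, ∃ a < 16, vE K b * y1 * vE K b = av K a * y1 ^ ep1 b * av K a ∧
      vE K b * y3 * vE K b = av K a * y3 ^ ep3 b * av K a := by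
    intro b hb
    obtain ⟨he1, he3⟩ := ep_cases b
    have A1 : Acts K (vE K b * y1 * vE K b) (pw sig1 (ep1 b)) :=
      (acts_conj hy1 hb).congr fun m h => ((hs m h).2.2.2.2.2.2.2 b hb).1
    have A3 : Acts K (vE K b * y3 * vE K b) (pw sig3 (ep3 b)) :=
      (acts_conj hy3 hb).congr fun m h => ((hs m h).2.2.2.2.2.2.2 b hb).2
    obtain ⟨d, hd, e⟩ := A1.same (acts_pow hy1 _) (pw_surj (fun m h => (hs m h).1) (fun m h => (hs m h).2.2.1) he1)
    obtain ⟨a, ha, had⟩ : ∃ a < 16, a ^^^ pw sig1 (ep1 b) a = d := by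
      rcases he1 with h | h <;> rw [h]
      · exact solve_one d hd
      · obtain ⟨a, ha, h2⟩ := solve_one (sig1 d) (hs d hd).1
        refine ⟨a, ha, ?_⟩
        show a ^^^ sig1 (sig1 a) = d
        have h3 := congrArg (fun z => sig1 (sig1 z)) h2
        simp only [(hadd a ha _ (hs a ha).1).1, (hadd _ (hs a ha).1 _ (hs _ (hs a ha).1).1).1,
          (hs a ha).2.2.1, (hs d hd).2.2.1] at h3
        rwa [Nat.xor_comm] at h3
    have B1 : vE K b * y1 * vE K b = av K a * y1 ^ ep1 b * av K a := by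
      rw [mul_assoc (av K a), (acts_pow hy1 _ a ha).2, ← mul_assoc, av_mul K ha (acts_pow hy1 _ a ha).1, had, e]
    refine ⟨a, ha, B1, ?_⟩
    have A3' : Acts K (av K a * y3 ^ ep3 b * av K a) (pw sig3 (ep3 b)) :=
      (((acts_av ha).mul (acts_pow hy3 _)).mul (acts_av ha))
    obtain ⟨c, hc, ec⟩ := A3.same A3' (pw_surj (fun m h => (hs m h).2.1) (fun m h => (hs m h).2.2.2.1) he3)
    have hu := vE_sq K hb
    have hfix : pw sig1 (ep1 b) c = c := by
      refine av_inj K (A1 c hc).1 hc (mul_right_cancel ((A1 c hc).2.symm.trans ?_))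
      have P : Commute (vE K b * y1 * vE K b) (vE K b * y3 * vE K b) := by
        show _ = _
        calc vE K b * y1 * vE K b * (vE K b * y3 * vE K b)
            = vE K b * y1 * (vE K b * vE K b) * y3 * vE K b := by group
          _ = vE K b * (y1 * y3) * vE K b := by rw [hu]; group
          _ = vE K b * y3 * (vE K b * vE K b) * y1 * vE K b := by rw [hu, hcomm]; group
          _ = _ := by group
      have Q : Commute (vE K b * y1 * vE K b) (av K a * y3 ^ ep3 b * av K a) := by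
        rw [B1]
        show _ = _
        calc av K a * y1 ^ ep1 b * av K a * (av K a * y3 ^ ep3 b * av K a)
            = av K a * y1 ^ ep1 b * (av K a * av K a) * y3 ^ ep3 b * av K a := by group
          _ = av K a * (y1 ^ ep1 b * y3 ^ ep3 b) * av K a := by rw [av_sq K ha]; group
          _ = av K a * y3 ^ ep3 b * (av K a * av K a) * y1 ^ ep1 b * av K a := by
            rw [av_sq K ha, ((show Commute y1 y3 from hcomm).pow_pow _ _).eq]; group
          _ = _ := by group
      have R := P.mul_right Q.inv_right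
      rw [ec, mul_inv_cancel_right] at R
      exact R.eq
    have hc0 : c = 0 := by
      rcases he1 with h | h <;> rw [h] at hfix
      · exact (hs c hc).2.2.2.2.2.1 hfix
      · refine (hs c hc).2.2.2.2.2.1 ?_
        have h' := congrArg sig1 (show sig1 (sig1 c) = c from hfix)
        rw [(hs c hc).2.2.1] at h'
        exact h'.symm
    rw [ec, hc0, av_zero, one_mul]
  obtain ⟨a1, ha1, p11, p13⟩ := shift 1 (by omega)
  obtain ⟨a2, ha2, p21, p23⟩ := shift 2 (by omega)
  have t := index_facts.2.2.2.1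
  -- conjugating a shifted power
  have vconj : ∀ b < 4, ∀ a < 16, ∀ n : ℕ, ∀ y : G, vE K b * (av K a * y ^ n * av K a) * vE K b =
      av K (tau b a) * (vE K b * y * vE K b) ^ n * av K (tau b a) := by
    intro b hb a ha n y
    have hvi : (vE K b)⁻¹ = vE K b := inv_eq_of_mul_eq_one_right (vE_sq K hb)
    have hpow : (vE K b * y * vE K b) ^ n = vE K b * y ^ n * vE K b := by
      have h := conj_pow (i := n) (a := vE K b) (b := y)
      rwa [hvi] at h
    have e2 : vE K b * av K a = av K (tau b a) * vE K b := vE_av K hb ha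
    have e3 : av K a * vE K b = vE K b * av K (tau b a) := by
      calc av K a * vE K b = vE K b * vE K b * (av K a * vE K b) := by rw [vE_sq K hb, one_mul]
        _ = vE K b * (vE K b * av K a) * vE K b := by group
        _ = vE K b * (av K (tau b a) * vE K b) * vE K b := by rw [e2]
        _ = vE K b * av K (tau b a) * (vE K b * vE K b) := by group
        _ = _ := by rw [vE_sq K hb, mul_one]
    calc vE K b * (av K a * y ^ n * av K a) * vE K b
        = vE K b * av K a * y ^ n * (av K a * vE K b) := by group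
      _ = av K (tau b a) * (vE K b * y ^ n * vE K b) * av K (tau b a) := by rw [e2, e3]; group
      _ = _ := by rw [hpow]
  have apow : ∀ a < 16, ∀ n : ℕ, ∀ y : G, (av K a * y * av K a) ^ n = av K a * y ^ n * av K a := by
    intro a ha n y
    have h := conj_pow (i := n) (a := av K a) (b := y)
    rwa [inv_eq_of_mul_eq_one_right (av_sq K ha)] at h
  have amul : ∀ c < 16, ∀ a < 16, ∀ y : G,
      av K c * (av K a * y * av K a) * av K c = av K (c ^^^ a) * y * av K (c ^^^ a) := fun c hc a ha y => by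
    conv_rhs => rw [← av_mul K hc ha]
    have : av K c * av K a = av K a * av K c := by rw [av_mul K hc ha, av_mul K ha hc, Nat.xor_comm]
    calc av K c * (av K a * y * av K a) * av K c = av K c * av K a * y * (av K a * av K c) := by group
      _ = _ := by rw [this]
  have two : ∀ b < 4, ∀ b' < 4, ∀ a < 16, ∀ a' < 16, ∀ n n' : ℕ,
      vE K b * y1 * vE K b = av K a * y1 ^ n * av K a → vE K b' * y1 * vE K b' = av K a' * y1 ^ n' * av K a' →
      vE K b * (vE K b' * y1 * vE K b') * vE K b =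
        av K (tau b a' ^^^ a) * y1 ^ (n * n') * av K (tau b a' ^^^ a) := by
    intro b hb b' _ a ha a' ha' n n' e e'
    rw [e', vconj b hb a' ha', e, apow a ha, ← pow_mul, amul _ (t b hb a' ha').2 a ha]
  have p4 : ∀ y : G, y * y * y = 1 → y ^ 4 = y := fun y h => by
    rw [show (4 : ℕ) = 1 + 1 + 1 + 1 from rfl, pow_succ, pow_succ, pow_succ, pow_one, h, one_mul]
  have q1 : a1 ^^^ tau 1 a1 = 0 := by
    have h := two 1 (by omega) 1 (by omega) a1 ha1 a1 ha1 _ _ p11 p11
    rw [show vE K 1 * (vE K 1 * y1 * vE K 1) * vE K 1 = vE K 1 * vE K 1 * y1 * (vE K 1 * vE K 1) by group,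
      vE_sq K (by omega), one_mul, mul_one, show ep1 1 * ep1 1 = 1 by decide +kernel, pow_one] at h
    have := sinj (e := 1) (hy1.congr fun _ _ => rfl) (Or.inl rfl) (by omega : 0 < 16)
      (xor_lt (t 1 (by omega) a1 ha1).2 ha1) (by rw [av_zero, one_mul, mul_one]; exact h)
    rw [Nat.xor_comm]
    exact this.symm
  have q2 : a2 ^^^ tau 2 a2 = 0 := by
    have h := two 2 (by omega) 2 (by omega) a2 ha2 a2 ha2 _ _ p21 p21
    rw [show vE K 2 * (vE K 2 * y1 * vE K 2) * vE K 2 = vE K 2 * vE K 2 * y1 * (vE K 2 * vE K 2) by group,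
      vE_sq K (by omega), one_mul, mul_one, show ep1 2 * ep1 2 = 4 by decide +kernel, p4 y1 c1] at h
    have := sinj (e := 1) (hy1.congr fun _ _ => rfl) (Or.inl rfl) (by omega : 0 < 16)
      (xor_lt (t 2 (by omega) a2 ha2).2 ha2) (by rw [av_zero, one_mul, mul_one]; exact h)
    rw [Nat.xor_comm]
    exact this.symm
  have q3 : a1 ^^^ tau 1 a2 = a2 ^^^ tau 2 a1 := by
    have h := two 1 (by omega) 2 (by omega) a1 ha1 a2 ha2 _ _ p11 p21
    have h' := two 2 (by omega) 1 (by omega) a2 ha2 a1 ha1 _ _ p21 p11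
    have e12 : vE K 1 * vE K 2 = vE K 2 * vE K 1 := by
      rw [vE_mul K (by omega) (by omega), vE_mul K (by omega) (by omega)]; rfl
    rw [show vE K 1 * (vE K 2 * y1 * vE K 2) * vE K 1 = vE K 1 * vE K 2 * y1 * (vE K 2 * vE K 1) by group] at h
    rw [show vE K 2 * (vE K 1 * y1 * vE K 1) * vE K 2 = vE K 2 * vE K 1 * y1 * (vE K 1 * vE K 2) by group,
      ← e12, show ep1 2 * ep1 1 = 2 by decide +kernel] at h'
    rw [show ep1 1 * ep1 2 = 2 by decide +kernel, ← e12] at h
    have := sinj (acts_pow hy1 2) (Or.inr rfl) (xor_lt (t 1 (by omega) a2 ha2).2 ha1)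
      (xor_lt (t 2 (by omega) a1 ha1).2 ha2) (h.symm.trans h')
    rw [Nat.xor_comm a1, Nat.xor_comm a2]
    exact this
  obtain ⟨c, hc, hc1, hc2⟩ := solve_two ha1 ha2 q1 q2 q3
  have Hc : ∀ y : G, av K c * y * av K c * (av K c * y * av K c) * (av K c * y * av K c) =
      av K c * (y * y * y) * av K c := fun y => by
    calc av K c * y * av K c * (av K c * y * av K c) * (av K c * y * av K c)
        = av K c * y * (av K c * av K c) * y * (av K c * av K c) * y * av K c := by group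
      _ = _ := by rw [av_sq K hc]; group
  refine ⟨av K c * y1 * av K c, av K c * y3 * av K c, ?_⟩
  refine
    { act1 := ((acts_av hc).mul hy1).mul (acts_av hc)
      act3 := ((acts_av hc).mul hy3).mul (acts_av hc)
      cube1 := by rw [Hc, c1, mul_one, av_sq K hc]
      cube3 := by rw [Hc, c3, mul_one, av_sq K hc]
      comm := by
        calc av K c * y1 * av K c * (av K c * y3 * av K c)
            = av K c * y1 * (av K c * av K c) * y3 * av K c := by group
          _ = av K c * (y1 * y3) * av K c := by rw [av_sq K hc]; group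
          _ = av K c * y3 * (av K c * av K c) * y1 * av K c := by rw [av_sq K hc, hcomm]; group
          _ = _ := by group
      conj := ?_ }
  have one : ∀ b < 4, ∀ a < 16, ∀ n : ℕ, ∀ y : G, c ^^^ tau b c = a →
      vE K b * y * vE K b = av K a * y ^ n * av K a →
      vE K b * (av K c * y * av K c) * vE K b = (av K c * y * av K c) ^ n := fun b hb a ha n y hca e => by
    have h := vconj b hb c hc 1 y
    rw [pow_one, pow_one, e, amul _ (t b hb c hc).2 a ha, ← hca,
      show tau b c ^^^ (c ^^^ tau b c) = c by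
        rw [← Nat.xor_assoc, Nat.xor_comm (tau b c) c, Nat.xor_assoc, Nat.xor_self, Nat.xor_zero]] at h
    rw [h, apow c hc]
  intro b hb
  rcases (by omega : b = 0 ∨ b = 1 ∨ b = 2 ∨ b = 3) with rfl | rfl | rfl | rfl
  · rw [vE_zero, show ep1 0 = 1 by decide +kernel, show ep3 0 = 1 by decide +kernel]; simp
  · exact ⟨one 1 hb a1 ha1 _ _ hc1 p11, one 1 hb a1 ha1 _ _ hc1 p13⟩
  · exact ⟨one 2 hb a2 ha2 _ _ hc2 p21, one 2 hb a2 ha2 _ _ hc2 p23⟩
  · have hv3 : vE K 3 = vE K 1 * vE K 2 := by rw [vE_mul K (by omega) (by omega)]; rfl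
    have hv3' : vE K 3 = vE K 2 * vE K 1 := by rw [vE_mul K (by omega) (by omega)]; rfl
    have H : ∀ x : G, ∀ n1 n2 : ℕ, vE K 1 * x * vE K 1 = x ^ n1 → vE K 2 * x * vE K 2 = x ^ n2 →
        vE K 3 * x * vE K 3 = x ^ (n1 * n2) := fun x n1 n2 e1 e2 => by
      have hp := conj_pow (i := n2) (a := vE K 1) (b := x)
      rw [inv_eq_of_mul_eq_one_right (vE_sq K (by omega : 1 < 4)), e1] at hp
      calc vE K 3 * x * vE K 3 = vE K 1 * (vE K 2 * x * vE K 2) * vE K 1 := by
            conv_lhs => arg 2; rw [hv3']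
            rw [hv3]; group
        _ = _ := by rw [e2, ← hp, ← pow_mul]
    rw [show ep1 3 = ep1 1 * ep1 2 by decide +kernel, show ep3 3 = ep3 1 * ep3 2 by decide +kernel]
    exact ⟨H _ _ _ (one 1 (by omega) a1 ha1 _ _ hc1 p11) (one 2 (by omega) a2 ha2 _ _ hc2 p21),
      H _ _ _ (one 1 (by omega) a1 ha1 _ _ hc1 p13) (one 2 (by omega) a2 ha2 _ _ hc2 p23)⟩

end Glue

end CfsgLib.Recog.ExtraThirtyTwo
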