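import Cfsg.Agent.Lib.Recog.ExtraThirtyTwo.GlueModel

set_option autoImplicit false

/-!
The six letters and their relators (owner: helper25).
-/

namespace CfsgLib.Recog.ExtraThirtyTwo

open Subgroup
open CfsgLib.Recog.Held (allBelow allBelow_spec)

variable {G : Type*} [Group G] {s : G} (K : Coord s 0)

namespace Glue

/-- The element of a model element. -/
noncomputable def nVal (x1 x3 : G) (e : Node) : G := av K e.m * x1 ^ e.i * x3 ^ e.j * vE K e.b

theorem nOK_iff {e : Node} : nOK e = true ↔ e.m < 16 ∧ e.i < 3 ∧ e.j < 3 ∧ e.b < 4 := by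
  simp only [nOK, Bool.and_eq_true, Nat.blt_eq]

theorem eq_of_nEq {e f : Node} (h : nEq e f = true) : e = f := by
  simp only [nEq, Bool.and_eq_true, Nat.beq_eq] at h
  obtain ⟨h1, h2, h3, h4⟩ := h
  cases e; cases f
  simp_all

variable {K}
variable {x1 x3 : G}

theorem pow_mod_three {x : G} (h : x * x * x = 1) (n : ℕ) : x ^ n = x ^ (n % 3) := by
  refine pow_eq_pow_mod n ?_
  rw [show (3 : ℕ) = 2 + 1 from rfl, pow_succ, pow_two, h]

theorem pw_lt {f : ℕ → ℕ} (hf : ∀ m < 16, f m < 16) (i : ℕ) {m : ℕ} (hm : m < 16) : pw f i m < 16 := by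
  induction i with
  | zero => exact hm
  | succ i ih => exact hf _ ih

theorem nm_val (P : Pair K x1 x3) {e f : Node} (he : nOK e = true) (hf : nOK f = true) :
    nOK (nm e f) = true ∧ nVal K x1 x3 (nm e f) = nVal K x1 x3 e * nVal K x1 x3 f := by
  rw [nOK_iff] at he hf
  obtain ⟨em, ei, ej, eb⟩ := he
  obtain ⟨fm, fi, fj, fb⟩ := hf
  have t := (index_facts.2.2.2.1 e.b eb f.m fm).2
  have s3 : pw sig3 e.j (tau e.b f.m) < 16 := pw_lt (fun m hm => (sig_facts.1 m hm).2.1) _ t
  have s1 : pw sig1 e.i (pw sig3 e.j (tau e.b f.m)) < 16 := pw_lt (fun m hm => (sig_facts.1 m hm).1) _ s3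
  refine ⟨nOK_iff.2 ⟨xor_lt em s1, Nat.mod_lt _ (by omega), Nat.mod_lt _ (by omega),
    Nat.xor_lt_two_pow (n := 2) eb fb⟩, ?_⟩
  have hv : (vE K e.b)⁻¹ = vE K e.b := inv_eq_of_mul_eq_one_right (vE_sq K eb)
  have move : ∀ x : G, ∀ n : ℕ, vE K e.b * x * vE K e.b = x ^ n → ∀ k : ℕ,
      vE K e.b * x ^ k = x ^ (n * k) * vE K e.b := fun x n h k => by
    have hp := conj_pow (i := k) (a := vE K e.b) (b := x)
    rw [hv, h] at hp
    rw [pow_mul, hp, mul_assoc, vE_sq K eb, mul_one]
  have m1 := move x1 _ (P.conj e.b eb).1 f.i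
  have m3 := move x3 _ (P.conj e.b eb).2 f.j
  have cj : x3 ^ e.j * x1 ^ (ep1 e.b * f.i) = x1 ^ (ep1 e.b * f.i) * x3 ^ e.j :=
    ((show Commute x3 x1 from P.comm.symm).pow_pow _ _).eq
  symm
  calc nVal K x1 x3 e * nVal K x1 x3 f
      = av K e.m * x1 ^ e.i * x3 ^ e.j * (vE K e.b * av K f.m) * x1 ^ f.i * x3 ^ f.j * vE K f.b := by
        unfold nVal; group
    _ = av K e.m * x1 ^ e.i * (x3 ^ e.j * av K (tau e.b f.m)) * (vE K e.b * x1 ^ f.i) * x3 ^ f.j * vE K f.b := by
        rw [vE_av K eb fm]; group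
    _ = av K e.m * (x1 ^ e.i * av K (pw sig3 e.j (tau e.b f.m))) * (x3 ^ e.j * x1 ^ (ep1 e.b * f.i)) *
          (vE K e.b * x3 ^ f.j) * vE K f.b := by
        rw [m1, ((acts_pow P.act3 e.j) _ t).2]; group
    _ = av K e.m * av K (pw sig1 e.i (pw sig3 e.j (tau e.b f.m))) * (x1 ^ e.i * x1 ^ (ep1 e.b * f.i)) *
          (x3 ^ e.j * x3 ^ (ep3 e.b * f.j)) * (vE K e.b * vE K f.b) := by
        rw [cj, m3, ((acts_pow P.act1 e.i) _ s3).2]; group
    _ = _ := by
        rw [av_mul K em s1, ← pow_add, ← pow_add, pow_mod_three P.cube1, pow_mod_three P.cube3, vE_mul K eb fb]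
        rfl

variable (K)

/-- The six letters. -/
noncomputable def six (x1 x3 : G) (x : ℕ) : G :=
  if x < 4 then K.el (lCode x) else if x = 4 then x1 * vE K 2 else if x = 5 then x3 * vE K 1 else 1

theorem lCode_lt (x : ℕ) : lCode x < 192 := by
  rcases x with _ | _ | _ | _ | x <;> simp [lCode]

variable {K}

theorem six_node {x : ℕ} (hx : x < 6) (h1 : x ≠ 1) :
    nOK (nLet x) = true ∧ nVal K x1 x3 (nLet x) = six K x1 x3 x := by
  have e0 : al 8 = 96 := by decide +kernel
  have e1 : vCode 1 = 2 := by decide +kernel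
  have e2 : vCode 2 = 8 := by decide +kernel
  rcases (by omega : x = 0 ∨ x = 2 ∨ x = 3 ∨ x = 4 ∨ x = 5) with rfl | rfl | rfl | rfl | rfl <;>
    refine ⟨by decide +kernel, ?_⟩ <;>
    simp [nVal, nLet, six, lCode, vE, av, e0, e1, e2,
      show al 0 = 0 from by decide +kernel, show vCode 0 = 0 from by decide +kernel, K.el_zero (show 0 < 4 by omega)]

theorem nWord_val (P : Pair K x1 x3) : ∀ {w : List ℕ}, (∀ x ∈ w, x < 6 ∧ x ≠ 1) →
    nOK (nWord w) = true ∧ nVal K x1 x3 (nWord w) = (w.map (six K x1 x3)).prod := by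
  intro w
  induction w with
  | nil => exact fun _ => ⟨by decide +kernel, by simp [nWord, nVal, nOne, av_zero, vE_zero]⟩
  | cons x w ih =>
    intro hv
    obtain ⟨a, b⟩ := ih fun y hy => hv y (List.mem_cons_of_mem _ hy)
    obtain ⟨hx, hx1⟩ := hv x List.mem_cons_self
    obtain ⟨c, d⟩ := six_node (K := K) (x1 := x1) (x3 := x3) hx hx1
    obtain ⟨e, f⟩ := nm_val P c a
    exact ⟨e, by rw [List.map_cons, List.prod_cons, ← b, ← d]; exact f⟩

theorem cWord_val : ∀ {w : List ℕ}, (∀ x ∈ w, x < 4) →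
    cWord w < 192 ∧ K.el (cWord w) = (w.map (six K x1 x3)).prod := by
  intro w
  induction w with
  | nil => exact fun _ => ⟨by simp [cWord], by simp [cWord, K.el_zero (show 0 < 4 by omega)]⟩
  | cons x w ih =>
    intro hv
    obtain ⟨a, b⟩ := ih fun y hy => hv y (List.mem_cons_of_mem _ hy)
    refine ⟨mulC_lt (by omega) (lCode_lt x) a, ?_⟩
    show K.el (mulC 0 (lCode x) (cWord w)) = _
    rw [List.map_cons, List.prod_cons, ← b, six, if_pos (hv x List.mem_cons_self), K.el_mul _ (lCode_lt x) _ a]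

theorem six_sq (P : Pair K x1 x3) (x : ℕ) : six K x1 x3 x * six K x1 x3 x = 1 := by
  by_cases h4 : x < 4
  · rw [six, if_pos h4, K.el_mul _ (lCode_lt x) _ (lCode_lt x)]
    have : mulC 0 (lCode x) (lCode x) = 0 := by
      interval_cases x <;> decide +kernel
    rw [this, K.el_zero (by omega)]
  · by_cases h6 : x < 6
    · obtain ⟨c, d⟩ := six_node (K := K) (x1 := x1) (x3 := x3) h6 (by omega)
      obtain ⟨-, f⟩ := nm_val P c c
      have e : nm (nLet x) (nLet x) = nOne := by
        refine eq_of_nEq ?_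
        interval_cases x <;> decide +kernel
      rw [← d, ← f, e]
      simp [nVal, nOne, av_zero, vE_zero]
    · rw [six, if_neg h4, if_neg (by omega), if_neg (by omega), one_mul]

theorem side_spec {k : ℕ} (hk : k < 2) :
    ∀ e < 32, inEk k e = true → nOK (eNode e) = true ∧ sCode (eNode e) = e ∧
      ∀ x < 6, sideLetter k x = true → inEk k (eAct x e) = true ∧
        (¬ x < 4 → nm (nm (nLet x) (eNode e)) (nLet x) =
          ⟨(nm (nm (nLet x) (eNode e)) (nLet x)).m, 0, 0, (nm (nm (nLet x) (eNode e)) (nLet x)).b⟩) := by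
  have h : sideOK k = true := by
    rcases (by omega : k = 0 ∨ k = 1) with rfl | rfl
    exacts [side0_ok, side1_ok]
  simp only [sideOK, allBelow_spec, Bool.and_eq_true, Bool.or_eq_true, Bool.not_eq_true', Bool.eq_false_iff, ne_eq,
    Nat.beq_eq, Nat.blt_eq] at h
  intro e he hE
  obtain ⟨a, b, c⟩ := (h e he).resolve_left fun r => r hE
  exact ⟨a, b, fun x hx hl => ⟨((c x hx).resolve_left fun r => r hl).1,
    fun h4 => eq_of_nEq (((c x hx).resolve_left fun r => r hl).2.resolve_left h4)⟩⟩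

theorem inEk_lt {k e : ℕ} (h : inEk k e = true) : e < 32 := by
  simp only [inEk, Bool.and_eq_true, Nat.blt_eq] at h
  exact h.1

theorem sCode_val {e : Node} (hm : e.m < 16) (hi : e.i = 0) (hj : e.j = 0) :
    nVal K x1 x3 e = K.el (sCode e) := by
  rw [nVal, hi, hj, pow_zero, pow_zero, mul_one, mul_one, av, vE,
    K.el_mul _ (index_facts.1 _ hm).1 _ (vCode_lt _)]
  rfl

theorem eAct_val (P : Pair K x1 x3) {k e x : ℕ} (hk : k < 2) (he : inEk k e = true) (hx : x < 6)
    (hl : sideLetter k x = true) :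
    six K x1 x3 x * K.el e * six K x1 x3 x = K.el (eAct x e) := by
  obtain ⟨hN, hS, hX⟩ := side_spec hk e (inEk_lt he) he
  have he' : e < 192 := lt_of_lt_of_le (inEk_lt he) (by omega)
  by_cases h4 : x < 4
  · rw [six, if_pos h4, eAct, show Nat.blt x 4 = true by rw [Nat.blt_eq]; exact h4, cond_true,
      K.el_mul _ (lCode_lt x) _ he', K.el_mul _ (mulC_lt (by omega) (lCode_lt x) he') _ (lCode_lt x)]
  · obtain ⟨c, d⟩ := six_node (K := K) (x1 := x1) (x3 := x3) hx (by omega)
    obtain ⟨a, b⟩ := nm_val P c hN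
    obtain ⟨a', b'⟩ := nm_val P a c
    have hz := (hX x hx hl).2 h4
    have hE : nVal K x1 x3 (eNode e) = K.el e := by
      conv_rhs => rw [← hS]
      exact sCode_val (nOK_iff.1 hN).1 rfl rfl
    rw [← d, ← hE, ← b, ← b', eAct,
      show Nat.blt x 4 = false from Bool.eq_false_iff.2 (fun r => h4 (by rwa [Nat.blt_eq] at r)), cond_false]
    exact sCode_val (nOK_iff.1 a').1 (by rw [hz]) (by rw [hz])

theorem eWord_val (P : Pair K x1 x3) {k : ℕ} (hk : k < 2) {e : ℕ} (he : inEk k e = true) :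
    ∀ {w : List ℕ}, (∀ x ∈ w, x < 6 ∧ sideLetter k x = true) →
      inEk k (eWord w e) = true ∧
        (w.map (six K x1 x3)).prod * K.el e = K.el (eWord w e) * (w.map (six K x1 x3)).prod := by
  intro w
  induction w with
  | nil => exact fun _ => ⟨he, by simp [eWord]⟩
  | cons x w ih =>
    intro hv
    obtain ⟨a, b⟩ := ih fun y hy => hv y (List.mem_cons_of_mem _ hy)
    obtain ⟨hx, hl⟩ := hv x List.mem_cons_self
    refine ⟨((side_spec hk _ (inEk_lt a) a).2.2 x hx hl).1, ?_⟩
    have h := eAct_val P hk a hx hl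
    show _ = K.el (eAct x (eWord w e)) * _
    rw [List.map_cons, List.prod_cons, mul_assoc, b, ← h,
      show six K x1 x3 x * K.el (eWord w e) * six K x1 x3 x * (six K x1 x3 x * (w.map (six K x1 x3)).prod) =
        six K x1 x3 x * K.el (eWord w e) * (six K x1 x3 x * six K x1 x3 x) * (w.map (six K x1 x3)).prod by group,
      six_sq P x]
    group

theorem mem_Ek {g : G} {k : ℕ} (hk : k < 2)
    (h : ∀ e < 32, inEk k e = true → g * K.el e = K.el e * g) : ∃ e, inEk k e = true ∧ g = K.el e := by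
  have hs : g * s = s * g := by
    have := h 16 (by omega) (by rcases (by omega : k = 0 ∨ k = 1) with rfl | rfl <;> decide +kernel)
    rwa [K.el_s] at this
  obtain ⟨x, hx, rfl⟩ := K.surj g hs
  have com : ∀ e < 32, inEk k e = true → mulC 0 x e = mulC 0 e x := fun e he hE => by
    refine K.el_inj _ (mulC_lt (by omega) hx (by omega)) _ (mulC_lt (by omega) (by omega) hx) ?_
    rw [← K.el_mul _ hx _ (by omega), ← K.el_mul _ (by omega) _ hx]
    exact h e he hE
  have hh := self_ok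
  simp only [selfOK, com0, allBelow_spec, Bool.and_eq_true, Bool.or_eq_true, Bool.not_eq_true', Bool.eq_false_iff,
    ne_eq, Nat.beq_eq] at hh
  refine ⟨x, ?_, rfl⟩
  rcases (by omega : k = 0 ∨ k = 1) with rfl | rfl
  · exact (hh x hx).1.resolve_left fun r =>
      r ⟨com 1 (by omega) (by decide +kernel), com 2 (by omega) (by decide +kernel)⟩
  · exact (hh x hx).2.resolve_left fun r =>
      r ⟨com 4 (by omega) (by decide +kernel), com 8 (by omega) (by decide +kernel)⟩

theorem resid_val (P : Pair K x1 x3) {k : ℕ} (hk : k < 2) {w : List ℕ} (hw6 : ∀ x ∈ w, x < 6)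
    (h : residOK k w = true) : (w.map (six K x1 x3)).prod = 1 := by
  simp only [residOK, Bool.and_eq_true, beq_iff_eq, List.all_eq_true, allBelow_spec, Bool.or_eq_true,
    Bool.not_eq_true', Bool.eq_false_iff, ne_eq, Nat.beq_eq] at h
  obtain ⟨hw, hu, hE⟩ := h
  set u := root7 w with hudef
  have hu6 : ∀ x ∈ u, x < 6 ∧ sideLetter k x = true := fun x hx =>
    ⟨hw6 x (List.mem_of_mem_take hx), hu x hx⟩
  have h7 : ∀ x ∈ seven u, x < 6 ∧ sideLetter k x = true := fun x hx => by
    refine hu6 x ?_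
    simp only [seven, List.mem_append] at hx
    tauto
  have hp : (w.map (six K x1 x3)).prod = ((seven u).map (six K x1 x3)).prod := by rw [hw]
  obtain ⟨e, he, hge⟩ := mem_Ek (K := K) (g := (w.map (six K x1 x3)).prod) hk fun e he hEk => by
    obtain ⟨a, b⟩ := eWord_val P hk hEk h7
    rw [hp, b, ((hE e he).resolve_left fun r => r hEk).1]
  have hcomm : (u.map (six K x1 x3)).prod * (w.map (six K x1 x3)).prod =
      (w.map (six K x1 x3)).prod * (u.map (six K x1 x3)).prod := by
    rw [hp]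
    simp only [seven, List.map_append, List.prod_append]
    group
  obtain ⟨a, b⟩ := eWord_val P hk he hu6
  rw [hge, b] at hcomm
  have h0 := K.el_inj _ (by have := inEk_lt a; omega) _ (by have := inEk_lt he; omega) (mul_right_cancel hcomm)
  rcases ((hE e (inEk_lt he)).resolve_left fun r => r he).2 with r | r
  · rw [hge, r, K.el_zero (by omega)]
  · exact absurd h0 r

/-- All relators hold. -/
theorem rels_hold (P : Pair K x1 x3) {w : List ℕ}
    (hw : w ∈ SporBound.S3344H.cert.rels ∨ w ∈ SporBound.S3344K.cert.rels) :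
    (w.map (six K x1 x3)).prod = 1 := by
  have h := rels_ok
  simp only [relsOK, Bool.and_eq_true, List.all_eq_true] at h
  have hr : relOK w = true := hw.elim (h.1 w) (h.2 w)
  simp only [relOK, Bool.and_eq_true, Bool.or_eq_true, List.all_eq_true, Nat.blt_eq, Nat.beq_eq,
    Bool.not_eq_true', Bool.eq_false_iff, ne_eq] at hr
  obtain ⟨h6, ⟨h4, h0⟩ | ⟨h1, h0⟩ | h0 | h0⟩ := hr
  · rw [← (cWord_val h4).2, h0, K.el_zero (by omega)]
  · obtain ⟨-, b⟩ := nWord_val P fun x hx => ⟨h6 x hx, h1 x hx⟩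
    rw [← b, eq_of_nEq h0]
    simp [nVal, nOne, av_zero, vE_zero]
  · exact resid_val P (by omega : 0 < 2) h6 h0
  · exact resid_val P (by omega : 1 < 2) h6 h0

end Glue

end CfsgLib.Recog.ExtraThirtyTwo
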