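import Cfsg.Agent.Lib.Recog.ExtraThirtyTwo.Defs

set_option autoImplicit false

/-!
Letters for the two subgroups `E:L3(2)` above `C(s)` in the branch of `A8` and `A9` (owner: helper22).
Letters 0 to 3 are the codes 1, 4, 96, 128; letter 4 is an involution of `N(<x1,x2,s>)`, letter 5 one of
`N(<y1,y2,s>)`.
-/

namespace CfsgLib.Recog.ExtraThirtyTwo

/-- The codes of the four letters in `C(s)`. -/
def letData : ℕ := 0x80600401

/-- The eight points as codes, first side. -/
def pointData0 : ℕ := 0x1312111003020100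

/-- The eight points as codes, second side. -/
def pointData1 : ℕ := 0x1c1814100c080400

/-- Conjugation of the points by the letters, first side. -/
def linData0 : ℕ := 0x75643120675423103254761076543210

/-- Conjugation of the points by the letters, second side. -/
def linData1 : ℕ := 0x75643120675423107654321032547610

/-- A spanning tree: parent, letter and depth of each code. -/
def treeData : ℕ := 0x1f3f1b3e1cbe20bf14a818a918aa1cab165717361db921b821bf1dbe21bd25bc164f15a2164d124c1b2b172a172913281dab19aa164512441243132212410e40159711961b1d1f1c1b1b1f1a17191b1810850c841c8718861f131b1219991d981f0f1b0e11850d8411830d820d8109801b0717060f050b040c8108800b0107001e1f1a1e146c186d1b5b1f5a16191a18175716162355235419771a1223512750174f1b4e174d134c1a0b160a16091208156316060e050a04134312020a01060022bf1ebe1b7d1f7c155719561b791f78104414451c461c471f731f721d5d215c1143154211410d401eab1aaa154511441b671b6613650f640c4010410f610b601a9f169e1e9d1c2e1bbb1fba1a991e981697129622951e941d3b1e921e9122901baf1bae168d128c168b128a12890e881e871a8612850e8412830e820e810a801b9f179e140c180d140a180b100814091797139623951f94191715161f912390190b150a178d138c178b138a13890f88150311020901050013830f8204000000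

/-- The relators of `C(s)`. -/
def relInner : List (List ℕ) := [[0, 0], [1, 1], [2, 2], [3, 3], [0, 1, 0, 1], [2, 3, 2, 3, 2, 3], [0, 2, 3, 0, 2, 3, 2, 0, 3], [1, 2, 3, 1, 2, 3, 2, 1, 3]]

/-- The relators with the fifth letter. -/
def relFirst : List (List ℕ) := [[4, 4], [1, 4, 2, 4], [0, 4, 3, 4, 0, 4, 3, 4], [1, 2, 3, 4, 3, 1, 2, 3, 4, 3, 4], [4, 0, 4, 3, 1, 3, 0, 3, 1, 3, 0], [4, 0, 4, 3, 1, 3, 0, 3, 1, 3, 0], [4, 1, 4, 2], [4, 0, 3, 1, 3, 0, 3, 1, 3, 4, 0], [4, 2, 4, 1]]

/-- The relators with the sixth letter. -/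
def relSecond : List (List ℕ) := [[5, 5], [0, 2, 5, 0, 5], [1, 3, 5, 3, 1, 3, 5, 3], [2, 3, 2, 5, 3, 2, 5, 3, 5], [5, 0, 5, 2, 0], [5, 1, 5, 1], [5, 0, 3, 1, 3, 0, 3, 1, 3, 5, 3, 0, 3, 1, 3, 0, 3], [5, 2, 5, 2]]

end CfsgLib.Recog.ExtraThirtyTwo
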