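import Cfsg.Agent.Lib.Recog.ExtraThirtyTwo.SixteenCheck
import Cfsg.Agent.Lib.Recog.ExtraThirtyTwo.LetterData

set_option autoImplicit false

/-!
Checks on the letters of the branch of `A8` and `A9` (owner: helper22).

For each of the 512 ways to let `C(s)` act affinely on the eight points with the given linear part, either a
relator of `C(s)` fails, or one of two involutions satisfies the relators with the new letter, or two involutions
of different colour are conjugate.
-/

namespace CfsgLib.Recog.ExtraThirtyTwo

open CfsgLib.Recog.Held (countBelow allBelow)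

/-- The code of a letter. -/
noncomputable def letC (j : ℕ) : ℕ := fld 8 letData j

/-- The code of a word in the four letters. -/
noncomputable def codeW (w : List ℕ) : ℕ := w.foldr (fun j r => mulC 0 (letC j) r) 0

/-- A point of one side as a code. -/
noncomputable def pointC (k v : ℕ) : ℕ := fld 8 (cond (Nat.beq k 0) pointData0 pointData1) v

/-- The linear part of a letter. -/
noncomputable def linL (k j v : ℕ) : ℕ := fld 4 (cond (Nat.beq k 0) linData0 linData1) (8 * j + v)

/-- The translation parts of the letters in candidate `n`. -/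
noncomputable def shiftL (k n j : ℕ) : ℕ :=
  cond (Nat.beq j k) 1 (fld 3 n (cond (Nat.blt j k) j (j - 1)))

/-- The affine map with the values `t, t + a, t + b, t + c`. -/
noncomputable def affP (f v : ℕ) : ℕ :=
  Nat.xor (fld 3 f 0) (Nat.xor (fld 1 v 0 * fld 3 f 1) (Nat.xor (fld 1 v 1 * fld 3 f 2) (fld 1 v 2 * fld 3 f 3)))

/-- A packed affine map. -/
noncomputable def quad (t a b c : ℕ) : ℕ := t + 8 * a + 64 * b + 512 * c

/-- The action of a word on a point in candidate `n`, letters from four on by the affine map `f`. -/
noncomputable def evW (k n f : ℕ) (w : List ℕ) (v : ℕ) : ℕ :=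
  w.foldr (fun j r => cond (Nat.blt j 4) (Nat.xor (linL k j r) (shiftL k n j)) (affP f r)) v

/-- A word acts as the identity. -/
noncomputable def idW (k n f : ℕ) (w : List ℕ) : Bool := allBelow 8 fun v => Nat.beq (evW k n f w v) v

/-- The two solutions for the new letter. -/
noncomputable def solA (k : ℕ) : ℕ := cond (Nat.beq k 0) (quad 0 4 7 1) (quad 0 1 2 5)

@[inherit_doc solA]
noncomputable def solB (k : ℕ) : ℕ := cond (Nat.beq k 0) (quad 3 4 7 1) (quad 2 1 2 5)

/-- The relators with the new letter of a side. -/
noncomputable def relSide (k : ℕ) : List (List ℕ) := cond (Nat.beq k 0) relFirst relSecond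

/-- The affine map fuses the codes 5 and 186. -/
noncomputable def fuses (k n f : ℕ) : Bool :=
  allBelow 8 fun v => Nat.beq (affP f (evW k n 0 [0, 1] v)) (evW k n 0 [0, 3, 1, 2, 3, 0] (affP f v))

/-- The three outcomes for a candidate. -/
noncomputable def sideCases (k : ℕ) : Bool :=
  allBelow 512 fun n => !(relInner.all (idW k n 0)) ||
    ((relSide k).all (idW k n (solA k)) || ((relSide k).all (idW k n (solB k)) ||
      (fuses k n (quad 7 4 7 6) || fuses k n (quad 6 4 7 6))))

/-- The points are the subgroup of order eight, and the letters act on them as stated. -/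
noncomputable def sidePoints (k : ℕ) : Bool :=
  allBelow 8 (fun v => Nat.blt (pointC k v) 192 && allBelow 8 fun v' => Nat.beq (mulC 0 (pointC k v) (pointC k v')) (pointC k (Nat.xor v v')) &&
    (Nat.beq v v' || !(Nat.beq (pointC k v) (pointC k v')))) &&
  (allBelow 4 (fun j => allBelow 8 fun v =>
      Nat.blt (linL k j v) 8 && Nat.beq (mulC 0 (letC j) (pointC k v)) (mulC 0 (pointC k (linL k j v)) (letC j))) &&
    (Nat.beq (pointC k 0) 0 && (Nat.beq (pointC k 4) 16 && Nat.beq (pointC k 1) (letC k))))

/-- The letters generate `C(s)`, and the two words are as used. -/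
noncomputable def letTree : Bool :=
  allBelow 4 (fun j => Nat.blt (letC j) 192) &&
  (allBelow 192 (fun x => Nat.beq x 0 ||
    (Nat.blt (fld 4 (fld 16 treeData x / 1024) 0) 16 &&
      (Nat.blt (fld 16 treeData (fld 16 treeData x % 256) / 1024) (fld 16 treeData x / 1024) &&
      (Nat.blt (fld 16 treeData x % 256) 192 && (Nat.blt (fld 16 treeData x / 256 % 4) 4 &&
        Nat.beq (mulC 0 (fld 16 treeData x % 256) (letC (fld 16 treeData x / 256 % 4))) x))))) &&
  (Nat.beq (codeW [0, 1]) 5 && (Nat.beq (codeW [0, 3, 1, 2, 3, 0]) 186 && (colOn 11 (cls 0 186) &&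
    (!(colOn 11 (cls 0 5)) && relInner.all fun w => Nat.beq (codeW w) 0)))))

/-- The image of a generator of `A` under the new letter of a side. -/
noncomputable def imgA (k i : ℕ) : ℕ := fld 8 (cond (Nat.beq k 0) 0x04016010 0x60140461) i

/-- The product of generators `1, 4, 16, 96` of `A` chosen by the bits of `b`. -/
noncomputable def prodA (b : ℕ) : ℕ :=
  mulC 0 (mulC 0 (fld 1 b 0 * 1) (fld 1 b 1 * 4)) (mulC 0 (fld 1 b 2 * 16) (fld 1 b 3 * 96))

/-- The image of that product. -/
noncomputable def imgProd (k b : ℕ) : ℕ :=
  mulC 0 (mulC 0 (fld 1 b 0 * imgA k 0) (fld 1 b 1 * imgA k 1)) (mulC 0 (fld 1 b 2 * imgA k 2) (fld 1 b 3 * imgA k 3))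

/-- `A` is its own centraliser, and its elements fixed by both new letters. -/
noncomputable def fixA : Bool :=
  allBelow 192 (fun x => !(com0 x 1 && (com0 x 4 && (com0 x 16 && com0 x 96))) ||
    !(allBelow 16 fun b => !(Nat.beq (prodA b) x))) &&
  allBelow 16 (fun b => !(Nat.beq (imgProd 0 b) (prodA b) && Nat.beq (imgProd 1 b) (prodA b)) ||
    (Nat.beq (prodA b) 0 || Nat.beq (prodA b) 100))

/-- The generators `1, 4, 16, 96` of `A` as words. -/
def wordsA : List (List ℕ) := [[0], [1], [0, 3, 1, 3, 0, 3, 1, 3], [2]]

/-- Their images as words. -/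
def wordsImg (k : ℕ) : List (List ℕ) :=
  cond (Nat.beq k 0) [[0, 3, 1, 3, 0, 3, 1, 3], [2], [0], [1]] [[0, 2], [1], [3, 0, 3, 1, 3, 0, 3], [2]]

/-- The conjugations of the generators of `A` are among the relators. -/
noncomputable def convA (k : ℕ) : Bool :=
  allBelow 4 fun i => Nat.beq (codeW (wordsA.getD i [])) (fld 8 0x60100401 i) &&
    (Nat.beq (codeW ((wordsImg k).getD i [])) (imgA k i) &&
      (relSide k).contains ([4 + k] ++ wordsA.getD i [] ++ [4 + k] ++ ((wordsImg k).getD i []).reverse))

/-- The code is a point of the side. -/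
noncomputable def inPts (k x : ℕ) : Bool := !(allBelow 8 fun v => !(Nat.beq (pointC k v) x))

/-- The codes of a complement of the points in a Sylow subgroup. -/
noncomputable def compC (i : ℕ) : ℕ := fld 8 0x9c9993861a0f0500 i

/-- The code is in that complement. -/
noncomputable def inComp (x : ℕ) : Bool := !(allBelow 8 fun v => !(Nat.beq (compC v) x))

/-- Colour in the pattern of `A8`. -/
noncomputable def colC (x : ℕ) : Bool := colOn 11 (cls 0 x)

/-- The pure groups of order eight through `s`. -/
noncomputable def pureEights : Bool :=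
  allBelow 192 fun x => !(colC x && !(Nat.beq x 16)) || allBelow 192 fun y =>
    !(colC y && (!(Nat.beq y 16) && (!(Nat.beq y x) && (!(Nat.beq y (mulC 0 x 16)) &&
      (com0 x y && (colC (mulC 0 x 16) && (colC (mulC 0 y 16) && (colC (mulC 0 x y) && colC (mulC 0 (mulC 0 x y) 16))))))))) ||
    ((inPts 0 x && inPts 0 y) || (inPts 1 x && inPts 1 y))

/-- The subgroup of points: coloured, self-centralising, one orbit beside `s`; centre and complement. -/
noncomputable def eightFacts (k : ℕ) : Bool :=
  allBelow 8 (fun v => Nat.beq v 0 || (colC (pointC k v) && (Nat.beq v 4 || Nat.beq (cls 0 (pointC k v)) (cls 0 (pointC k 1))))) &&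
  (allBelow 192 (fun x => !(allBelow 8 fun v => com0 x (pointC k v)) || inPts k x) &&
  (allBelow 192 (fun x => !(allBelow 4 fun j => com0 x (letC j)) || (Nat.beq x 0 || Nat.beq x 16)) &&
  (allBelow 192 (fun x => !(inPts k x && inPts (1 - k) x) || (Nat.beq x 0 || Nat.beq x 16)) &&
  (allBelow 8 (fun i => Nat.blt (compC i) 192 && (!(inPts k (compC i)) || Nat.beq (compC i) 0) &&
      allBelow 8 fun j => inComp (mulC 0 (compC i) (compC j))) &&
    (inComp 0 && Nat.beq (countBelow 192 inComp) 8)))))

set_option maxRecDepth 100000

theorem sidePoints_ok : sidePoints 0 = true ∧ sidePoints 1 = true := by decide +kernel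

theorem sideCases0_ok : sideCases 0 = true := by decide +kernel

theorem sideCases1_ok : sideCases 1 = true := by decide +kernel

theorem letTree_ok : letTree = true := by decide +kernel

theorem fixA_ok : fixA = true := by decide +kernel

theorem convA_ok : convA 0 = true ∧ convA 1 = true := by decide +kernel

theorem pureEights_ok : pureEights = true := by decide +kernel

theorem eightFacts_ok : eightFacts 0 = true ∧ eightFacts 1 = true := by decide +kernel

end CfsgLib.Recog.ExtraThirtyTwo
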