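set_option autoImplicit false

/-! The table of `C(t)` in `M12` in codes; generator `notes/s3344/m12iso.py` (owner: helper22). -/

namespace CfsgLib.Recog.ExtraThirtyTwo

/-- The code of each table index. -/
def isoData : Nat := 0x640b847d35050424bf6569681d5f097975a51a16170d1f37b726ad4e800f711815661b67a45d0a91943177af347f3e069757929e3fa9398643a3079f44bd6a194d6bac4c086d764595907a327ba72761733db8149356965352b5b09a3c9ba12a8242ab5c4787015ea62363139d587433b636b3b255503a9c12723b418a4683034fae206f1199497830be25bbba54512998107e28408e855b21aa5ab4b18938701e88814a22a24bbcb98d2b7c0c8c59a82d8b1c6c48a02e8f0e602f6e2c620200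

end CfsgLib.Recog.ExtraThirtyTwo
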