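import Cfsg.Agent.Lib.Recog.ExtraThirtyTwo.Cases

set_option autoImplicit false

/-!
The theorem on `2^{1+4}.Sym(3)` from its last branch (owner: helper22).
-/

namespace CfsgLib.Recog.ExtraThirtyTwo

/-- The conclusion, given the branch of `A₈` and `A₉`. -/
theorem main {G : Type*} [Group G] [Finite G]
    (branch : ∀ [IsSimpleGroup G] {s : G} (K : Coord s 0), PairPattern K →
      Nonempty (G ≃* alternatingGroup (Fin 8)) ∨ Nonempty (G ≃* alternatingGroup (Fin 9)))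
    (s : G) (hs : orderOf s = 2) (L : Subgroup G) (hL : L = Subgroup.centralizer ({s} : Set G))
    (Q : Subgroup G) (hQ : Q = (Cfsg.pCore 2 L).map L.subtype)
    (hQex : Cfsg.IsExtraspecial 2 Q) (hQcard : Nat.card Q = 32)
    (e : L ⧸ Cfsg.pCore 2 L ≃* Equiv.Perm (Fin 3))
    (X : Sylow 3 L) (hCQX : Q ⊓ Subgroup.centralizer (((X : Subgroup L).map L.subtype : Subgroup G) : Set G) = Subgroup.zpowers s)
    (hnwc : ∃ g : G, g * s * g⁻¹ ∈ Q ∧ g * s * g⁻¹ ≠ s) :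
    (∃ (N : Subgroup G) (hN : N.Normal), IsMulCommutative N ∧ (∀ n ∈ N, n ^ 2 = 1) ∧ Nat.card N = 8 ∧
        Nonempty (G ⧸ N ≃* Matrix.ProjectiveSpecialLinearGroup (Fin 3) (ZMod 2))) ∨
    Nonempty (G ≃* alternatingGroup (Fin 8)) ∨ Nonempty (G ≃* alternatingGroup (Fin 9)) ∨ Cfsg.Spor.IsoM12 G := by
  subst hL
  obtain ⟨S⟩ := nonempty_setting s hs Q hQ hQex hQcard e X hCQX
  obtain ⟨g, hgQ, hgne⟩ := hnwc
  rcases cases S _ hgQ (isConj_iff.2 ⟨g, rfl⟩).symm hgne with h | h | ⟨hsimple, K, hK⟩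
  · exact Or.inl h
  · exact Or.inr (Or.inr (Or.inr h))
  · rcases branch K hK with h | h
    · exact Or.inr (Or.inl h)
    · exact Or.inr (Or.inr (Or.inl h))

end CfsgLib.Recog.ExtraThirtyTwo
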