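import Cfsg.Agent.Lib.Recog.ExtraThirtyTwo.RelabelData
import Cfsg.Agent.Lib.Recog.ExtraThirtyTwo.ColourCheck

set_option autoImplicit false

/-!
The relabellings of the first candidate and the check for an inner pattern (owner: helper22).
-/

namespace CfsgLib.Recog.ExtraThirtyTwo

open CfsgLib.Recog.Held (allBelow)

/-- The pattern moved by map `j`. -/
noncomputable def relMask (j : ℕ) : ℕ := fld 8 0x1615130e0d0b j

/-- Map `j` on codes. -/
noncomputable def relF (j x : ℕ) : ℕ := fld 8 relData (192 * j + x)

/-- Map `j` is an automorphism carrying the standard pattern to its own. -/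
noncomputable def relOK (j : ℕ) : Bool :=
  allBelow 192 (fun x => Nat.blt (relF j x) 192 && allBelow 192 fun y =>
    Nat.beq (relF j (mulC 0 x y)) (mulC 0 (relF j x) (relF j y))) &&
  (allBelow 192 (fun x => allBelow 192 fun y => Nat.beq x y || !(Nat.beq (relF j x) (relF j y))) &&
  (Nat.beq (relF j 16) 16 && (colOn (relMask j) (cls 0 (relF j 1)) && (colOn (relMask j) (cls 0 (relF j 4)) &&
  (colOn (relMask j) (cls 0 (relF j 96)) && (!(colOn (relMask j) (cls 0 (relF j 5))) &&
    !(colOn (relMask j) (cls 0 (relF j 101)))))))))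

/-- The facts used for the pattern with the three inner classes. -/
noncomputable def innerOK : Bool :=
  allBelow 192 (fun x => !(colOn 7 (cls 0 x)) || Nat.blt x 32) &&
  (allBelow 32 (fun x => allBelow 32 fun y =>
    Nat.beq (mulC 0 x y) (mulC 0 y x) || Nat.beq (mulC 0 x y) (mulC 0 (mulC 0 y x) 16)) &&
  (colOn 7 (cls 0 1) && (colOn 7 (cls 0 2) && (colOn 7 (cls 0 4) && (Nat.beq (mulC 0 2 1) (mulC 0 1 2) &&
    (Nat.beq (mulC 0 4 1) (mulC 0 1 4) && Nat.beq (mulC 0 2 4) (mulC 0 (mulC 0 4 2) 16)))))))

set_option maxRecDepth 100000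

theorem innerOK_true : innerOK = true := by decide +kernel

theorem relOK0 : relOK 0 = true := by decide +kernel
theorem relOK1 : relOK 1 = true := by decide +kernel
theorem relOK2 : relOK 2 = true := by decide +kernel
theorem relOK3 : relOK 3 = true := by decide +kernel
theorem relOK4 : relOK 4 = true := by decide +kernel
theorem relOK5 : relOK 5 = true := by decide +kernel

end CfsgLib.Recog.ExtraThirtyTwo
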