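set_option autoImplicit false

/-! Automorphisms of candidate `0` moving each two-four-group pattern to the standard one; generator
`notes/s3344/relabel.py` (owner: helper22). -/

namespace CfsgLib.Recog.ExtraThirtyTwo

/-- Six maps of codes. -/
def relData : Nat := 0xa3b7bbafa6b2aebab9bda1a5aca8a4a0b3a7abbfb6a2beaaa9adb1b5bcb8b4b08f9b97838a9e829695918d898084888c9f8b87939a8e928685819d999094989c67737f6b62766a7e7d796561686c606477636f7b72667a6e6d697571787c70745f4b47535a4e524645415d595054585c4f5b57434a5e425655514d494044484c37232f3b32263a2e2d293531383c303427333f2b22362a3e3d392521282c202413070b1f16021e0a090d11151c18141003171b0f06120e1a191d01050c080400acadaeafb9b8bbbaa6a7a4a5a3a2a1a0bcbdbebfa9a8abaab6b7b4b5b3b2b1b08f8e8d8c8a8b888995949796808182839f9e9d9c9a9b989985848786909192937d7c7f7e68696a6b67666564626360616d6c6f6e78797a7b77767574727370715f5e5d5c5a5b585945444746505152534f4e4d4c4a4b484955545756404142432d2c2f2e38393a3b37363534323330313d3c3f3e28292a2b27262524222320211c1d1e1f09080b0a16171415131211100c0d0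e0f19181b1a0607040503020100afaeadacabaaa9a8a7a6a5a4a3a2a1a0bfbebdbcbbbab9b8b7b6b5b4b3b2b1b08f8e8d8c8b8a898887868584838281809f9e9d9c9b9a999897969594939291906f6e6d6c6b6a696867666564636261607f7e7d7c7b7a797877767574737271705f5e5d5c5b5a595857565554535251504f4e4d4c4b4a494847464544434241403f3e3d3c3b3a393837363534333231302f2e2d2c2b2a292827262524232221201f1e1d1c1b1a191817161514131211100f0e0d0c0b0a09080706050403020100b3a7abbfb6a2beaaa9adb1b5bcb8b4b0a3b7bbafa6b2aebab9bda1a5aca8a4a09f8b87939a8e928685819d999094989c8f9b97838a9e829695918d898084888c77636f7b72667a6e6d697571787c707467737f6b62766a7e7d796561686c60645f4b47535a4e524645415d595054585c4f5b57434a5e425655514d494044484c37232f3b32263a2e2d293531383c303427333f2b22362a3e3d392521282c202413070b1f16021e0a090d11151c18141003171b0f06120e1a191d01050c080400bcbdbebfa9a8abaab6b7b4b5b3b2b1b0acadaeafb9b8bbbaa6a7a4a5a3a2a1a09f9e9d9c9a9b989985848786909192938f8e8d8c8a8b888995949796808182836d6c6f6e78797a7b77767574727370717d7c7f7e68696a6b67666564626360615f5e5d5c5a5b58594544474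6505152534f4e4d4c4a4b484955545756404142432d2c2f2e38393a3b37363534323330313d3c3f3e28292a2b27262524222320211c1d1e1f09080b0a16171415131211100c0d0e0f19181b1a0607040503020100bfbebdbcbbbab9b8b7b6b5b4b3b2b1b0afaeadacabaaa9a8a7a6a5a4a3a2a1a09f9e9d9c9b9a999897969594939291908f8e8d8c8b8a898887868584838281807f7e7d7c7b7a797877767574737271706f6e6d6c6b6a696867666564636261605f5e5d5c5b5a595857565554535251504f4e4d4c4b4a494847464544434241403f3e3d3c3b3a393837363534333231302f2e2d2c2b2a292827262524232221201f1e1d1c1b1a191817161514131211100f0e0d0c0b0a09080706050403020100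

end CfsgLib.Recog.ExtraThirtyTwo
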