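import Cfsg.Agent.Lib.Recog.ExtraThirtyTwo.Defs
import Cfsg.Agent.Lib.Recog.Held.FrameSetting
import Cfsg.Prelude.Def_CaseTheorems
import Cfsg.Prelude.Def_Solvable
import Cfsg.Prelude.Def_Transfer
import Mathlib.GroupTheory.Sylow
import Mathlib.GroupTheory.Perm.Cycle.Type

set_option autoImplicit false
set_option linter.style.haveILetI false

/-!
The hypotheses on `C(s) = 2^{1+4}.Sym(3)` in the form used by the coordinates (owner: helper22).
-/

namespace CfsgLib.Recog.ExtraThirtyTwo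

open Subgroup
open scoped commutatorElement

variable {G : Type*} [Group G]

/-- The facts on `Q = O₂(C(s))`, the element `a` of order three and the inverting element `w`. -/
structure Setting (s : G) (Q : Subgroup G) where
  s2 : s * s = 1
  s1 : s ≠ 1
  card : Nat.card Q = 32
  sQ : s ∈ Q
  le : ∀ q ∈ Q, Commute q s
  conj_mem : ∀ g : G, Commute g s → ∀ q ∈ Q, g * q * g⁻¹ ∈ Q
  sq : ∀ q ∈ Q, q * q = 1 ∨ q * q = s
  comm : ∀ q ∈ Q, ∀ r ∈ Q, q * r = r * q ∨ q * r = r * q * s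
  center : ∀ q ∈ Q, (∀ r ∈ Q, q * r = r * q) → q = 1 ∨ q = s
  ψ : centralizer ({s} : Set G) →* Equiv.Perm (Fin 3)
  ψ_surj : Function.Surjective ψ
  ψ_ker : ∀ g : centralizer ({s} : Set G), ψ g = 1 ↔ (g : G) ∈ Q
  a : G
  a_comm : Commute a s
  a3 : a * a * a = 1
  a1 : a ≠ 1
  a_fix : ∀ q ∈ Q, Commute q a → q = 1 ∨ q = s
  w : G
  w_comm : Commute w s
  w_inv : w * a * w⁻¹ = a * a
  w_sq : w * w = 1 ∨ w * w = s
  w_notMem : w ∉ Q

theorem nonempty_setting [Finite G] (s : G) (hs : orderOf s = 2)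
    (Q : Subgroup G) (hQ : Q = (Cfsg.pCore 2 (centralizer ({s} : Set G))).map (centralizer ({s} : Set G)).subtype)
    (hQex : Cfsg.IsExtraspecial 2 Q) (hQcard : Nat.card Q = 32)
    (e : (centralizer ({s} : Set G)) ⧸ Cfsg.pCore 2 (centralizer ({s} : Set G)) ≃* Equiv.Perm (Fin 3))
    (X : Sylow 3 (centralizer ({s} : Set G)))
    (hCQX : Q ⊓ centralizer (((X : Subgroup (centralizer ({s} : Set G))).map
      (centralizer ({s} : Set G)).subtype : Subgroup G) : Set G) = zpowers s) :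
    Nonempty (Setting s Q) := by
  haveI : Fact (Nat.Prime 2) := ⟨Nat.prime_two⟩
  haveI : Fact (Nat.Prime 3) := ⟨Nat.prime_three⟩
  have s2 : s * s = 1 := by
    have h := pow_orderOf_eq_one s
    rwa [hs, pow_two] at h
  have s1 : s ≠ 1 := fun h => by rw [h, orderOf_one] at hs; omega
  have sQ : s ∈ Q := (mem_inf.1 ((hCQX.symm ▸ mem_zpowers s) : s ∈ Q ⊓ _)).1
  let ψ : centralizer ({s} : Set G) →* Equiv.Perm (Fin 3) :=
    e.toMonoidHom.comp (QuotientGroup.mk' (Cfsg.pCore 2 (centralizer ({s} : Set G))))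
  have ψ_surj : Function.Surjective ψ := e.surjective.comp (QuotientGroup.mk'_surjective _)
  have ψ_ker : ∀ g : centralizer ({s} : Set G), ψ g = 1 ↔ (g : G) ∈ Q := fun g => by
    show e (QuotientGroup.mk g) = 1 ↔ _
    rw [e.map_eq_one_iff, QuotientGroup.eq_one_iff, hQ]
    exact ⟨fun h => ⟨g, h, rfl⟩, fun ⟨r, hr, hrg⟩ => (Subtype.ext hrg : r = g) ▸ hr⟩
  have hle : Q ≤ centralizer ({s} : Set G) := by rw [hQ]; exact map_subtype_le _
  have hconj : ∀ g : G, Commute g s → ∀ q ∈ Q, g * q * g⁻¹ ∈ Q := fun g hg q hq => by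
    have h : ψ (⟨g, mem_centralizer_singleton_iff.2 hg⟩ * ⟨q, hle hq⟩ * ⟨g, mem_centralizer_singleton_iff.2 hg⟩⁻¹) = 1 := by
      rw [map_mul, map_mul, (ψ_ker ⟨q, hle hq⟩).2 hq, mul_one, map_inv, mul_inv_cancel]
    exact (ψ_ker _).1 h
  have hcardL : Nat.card (centralizer ({s} : Set G)) = 192 := by
    have h := card_eq_card_quotient_mul_card_subgroup (Cfsg.pCore 2 (centralizer ({s} : Set G)))
    rw [Nat.card_congr e.toEquiv, Nat.card_eq_fintype_card (α := Equiv.Perm (Fin 3)), Fintype.card_perm,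
      Fintype.card_fin,
      ← card_map_of_injective (K := Cfsg.pCore 2 (centralizer ({s} : Set G)))
        (centralizer ({s} : Set G)).subtype_injective, ← hQ, hQcard] at h
    exact h
  -- the element of order three
  have hX : Nat.card X = 3 := by
    rw [X.card_eq_multiplicity, hcardL, show (192 : ℕ).factorization 3 = 1 by
      rw [← Nat.primeFactorsList_count_eq]; simp]
    norm_num
  obtain ⟨⟨A, hAX⟩, hAo⟩ := exists_prime_orderOf_dvd_card' 3
    ((by rw [hX]) : 3 ∣ Nat.card (X : Subgroup (centralizer ({s} : Set G))))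
  rw [Subgroup.orderOf_mk] at hAo
  have hgen : (X : Subgroup (centralizer ({s} : Set G))) = zpowers A :=
    (eq_of_le_of_card_ge (zpowers_le.2 hAX) (by rw [Nat.card_zpowers, hAo]; exact hX.le)).symm
  have hA3 : A * A * A = 1 := by
    have h := pow_orderOf_eq_one A
    rwa [hAo, pow_succ, pow_two] at h
  have hfix : ∀ q ∈ Q, Commute q (A : G) → q = 1 ∨ q = s := by
    intro q hq hqa
    have hmem : q ∈ Q ⊓ centralizer (((X : Subgroup (centralizer ({s} : Set G))).map
        (centralizer ({s} : Set G)).subtype : Subgroup G) : Set G) := by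
      refine mem_inf.2 ⟨hq, mem_centralizer_iff.2 ?_⟩
      rintro _ ⟨x, hx, rfl⟩
      rw [SetLike.mem_coe, hgen] at hx
      obtain ⟨k, rfl⟩ := mem_zpowers_iff.1 hx
      rw [Subgroup.coe_subtype, Subgroup.coe_zpow]
      exact (hqa.symm.zpow_left k).eq
    rw [hCQX] at hmem
    obtain ⟨k, rfl⟩ := mem_zpowers_iff.1 hmem
    rcases Int.even_or_odd k with ⟨m, rfl⟩ | ⟨m, rfl⟩
    · left; rw [← two_mul, zpow_mul, zpow_two, s2, one_zpow]
    · right; rw [zpow_add, zpow_mul, zpow_two, s2, one_zpow, one_mul, zpow_one]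
  have hA1 : ψ A ≠ 1 := fun h1 => by
    have ho : orderOf (A : G) = 3 := by rw [Subgroup.orderOf_coe, hAo]
    rcases hfix _ ((ψ_ker A).1 h1) (Commute.refl (A : G)) with h2 | h2 <;> rw [h2] at ho
    · rw [orderOf_one] at ho; omega
    · rw [hs] at ho; omega
  have hψA : ψ A * ψ A * ψ A = 1 := by rw [← map_mul, ← map_mul, hA3, map_one]
  -- Frattini: a transposition fixing `⟨a⟩`
  let M : Subgroup (centralizer ({s} : Set G)) := (Equiv.Perm.sign.comp ψ).ker
  have hAM : A ∈ M := by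
    show Equiv.Perm.sign (ψ A) = 1
    have key : ∀ u : Equiv.Perm (Fin 3), u * u * u = 1 → Equiv.Perm.sign u = 1 := by decide +kernel
    exact key _ hψA
  obtain ⟨Y, hY⟩ : ∃ Y : Sylow 3 M, (Y : Subgroup M).map M.subtype = X := by
    have hXM : (X : Subgroup (centralizer ({s} : Set G))) ≤ M := by rw [hgen]; exact zpowers_le.2 hAM
    exact ⟨X.subtype hXM, by rw [Sylow.coe_subtype, map_subgroupOf_eq_of_le hXM]⟩
  obtain ⟨W, hWN, hWM⟩ : ∃ W ∈ normalizer ((X : Subgroup (centralizer ({s} : Set G))) : Set _), W ∉ M := by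
    by_contra h
    push Not at h
    have htop := Y.normalizer_sup_eq_top
    rw [hY, sup_eq_right.2 (fun W hW => h W hW)] at htop
    obtain ⟨g, hg⟩ := ψ_surj (Equiv.swap 0 1)
    have hgM : g ∈ M := htop ▸ mem_top g
    rw [MonoidHom.mem_ker, MonoidHom.comp_apply, hg, Equiv.Perm.sign_swap (by decide)] at hgM
    exact absurd hgM (by decide)
  have hWX : ψ W * ψ W = 1 ∧ ψ W ≠ 1 := by
    have key : ∀ v : Equiv.Perm (Fin 3), Equiv.Perm.sign v ≠ 1 → v * v = 1 ∧ v ≠ 1 := by decide +kernel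
    exact key _ hWM
  have hWQ : (W : G) ∉ Q := fun h => hWX.2 ((ψ_ker W).2 h)
  have hinv : W * A * W⁻¹ = A * A := by
    have hm := (mem_normalizer_iff.1 hWN A).1 hAX
    rw [hgen, ← mem_powers_iff_mem_zpowers, Submonoid.mem_powers_iff] at hm
    obtain ⟨k, hk⟩ := hm
    have hk3 : A ^ k = A ^ (k % 3) := by rw [← hAo, pow_mod_orderOf]
    rw [hk3] at hk
    have key : ∀ u v : Equiv.Perm (Fin 3), u ≠ 1 → u * u * u = 1 → v * v = 1 → v ≠ 1 →
        v * u * v⁻¹ ≠ 1 ∧ v * u * v⁻¹ ≠ u := by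
      intro u; revert u
      set_option synthInstance.maxSize 1000 in
      decide +kernel
    obtain ⟨k1, k2⟩ := key (ψ A) (ψ W) hA1 hψA hWX.1 hWX.2
    rw [← hk]
    have hψ : ψ A ^ (k % 3) = ψ W * ψ A * (ψ W)⁻¹ := by rw [← map_pow, hk, map_mul, map_mul, map_inv]
    rcases (by omega : k % 3 = 0 ∨ k % 3 = 1 ∨ k % 3 = 2) with e' | e' | e' <;> rw [e'] at hψ ⊢
    · exact absurd hψ.symm (by simpa using k1)
    · exact absurd hψ.symm (by simpa using k2)
    · rw [pow_two]
  have hW2 : (W : G) * W = 1 ∨ (W : G) * W = s := by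
    refine hfix _ ((ψ_ker (W * W)).1 (by rw [map_mul, hWX.1])) ?_
    have h : Commute (W * W) A := by
      show W * W * A = A * (W * W)
      rw [← mul_inv_eq_iff_eq_mul]
      calc W * W * A * (W * W)⁻¹ = W * (W * A * W⁻¹) * W⁻¹ := by group
        _ = W * (A * A) * W⁻¹ := by rw [hinv]
        _ = (W * A * W⁻¹) * (W * A * W⁻¹) := by group
        _ = A * (A * A * A) := by rw [hinv]; simp only [mul_assoc]
        _ = A := by rw [hA3, mul_one]
    exact h.map (centralizer ({s} : Set G)).subtype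
  have hzel : ∀ z : Q, z ∈ Subgroup.center Q → (z : G) = 1 ∨ (z : G) = s := by
    intro z hz
    have hsz : (⟨s, sQ⟩ : Q) ∈ Subgroup.center Q := mem_center_iff.2 fun q =>
      Subtype.ext (mem_centralizer_singleton_iff.1 (hle q.2))
    have heq : zpowers (⟨s, sQ⟩ : Q) = Subgroup.center Q := eq_of_le_of_card_ge (zpowers_le.2 hsz)
      (by rw [Nat.card_zpowers, Subgroup.orderOf_mk, hs, hQex.2])
    rw [← heq] at hz
    obtain ⟨m, rfl⟩ := mem_zpowers_iff.1 hz
    rw [Subgroup.coe_zpow]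
    rcases Int.even_or_odd m with ⟨r, rfl⟩ | ⟨r, rfl⟩
    · left; rw [← two_mul, zpow_mul, zpow_two, s2, one_zpow]
    · right; rw [zpow_add, zpow_mul, zpow_two, s2, one_zpow, one_mul, zpow_one]
  refine ⟨{
    s2 := s2, s1 := s1, card := hQcard, sQ := sQ
    le := fun q hq => mem_centralizer_singleton_iff.1 (hle hq)
    conj_mem := hconj
    sq := fun q hq => ?_, comm := fun q hq r hr => ?_, center := fun q hq h => ?_
    ψ := ψ, ψ_surj := ψ_surj, ψ_ker := ψ_ker
    a := A, a_comm := mem_centralizer_singleton_iff.1 A.2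
    a3 := congrArg Subtype.val hA3
    a1 := fun h => hA1 (by rw [show A = 1 from Subtype.ext h, map_one])
    a_fix := hfix
    w := W, w_comm := mem_centralizer_singleton_iff.1 W.2
    w_inv := congrArg Subtype.val hinv
    w_sq := hW2, w_notMem := hWQ }⟩
  · have h := CfsgLib.PGroups.IsExtraspecial.pow_mem_center hQex ⟨q, hq⟩
    simpa [pow_two] using hzel _ h
  · have h := CfsgLib.PGroups.IsExtraspecial.comm_mem hQex ⟨q, hq⟩ ⟨r, hr⟩
    have hcz := mem_center_iff.1 h
    have hqr : (⟨q, hq⟩ : Q) * ⟨r, hr⟩ = ⟨r, hr⟩ * ⟨q, hq⟩ * ⁅(⟨q, hq⟩ : Q), (⟨r, hr⟩ : Q)⁆ := by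
      rw [hcz (⟨r, hr⟩ * ⟨q, hq⟩), commutatorElement_def]; group
    have hqr' := congrArg Subtype.val hqr
    rw [Subgroup.coe_mul, Subgroup.coe_mul, Subgroup.coe_mul] at hqr'
    rcases hzel _ h with h' | h' <;> rw [h'] at hqr'
    · exact Or.inl (hqr'.trans (mul_one _))
    · exact Or.inr hqr'
  · exact hzel ⟨q, hq⟩ (mem_center_iff.2 fun r => Subtype.ext (h r r.2).symm)

end CfsgLib.Recog.ExtraThirtyTwo
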