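import Cfsg.Agent.Lib.Recog.ExtraThirtyTwo.ColourCheck

set_option autoImplicit false

/-!
The facts on `C(s)` used for simplicity (owner: helper22).
-/

namespace CfsgLib.Recog.ExtraThirtyTwo

open CfsgLib.Recog.Held (countBelow allBelow)

/-- The codes of a Sylow two-subgroup. -/
noncomputable def inS (x : ℕ) : Bool := Nat.beq (x / 32 % 3) 0

/-- A code is the product of its five parts and two letters. -/
noncomputable def splitCode (i x : ℕ) : ℕ :=
  mulC i (mulC i (mulC i (mulC i (mulC i (mulC i (x % 2) (2 * (x / 2 % 2))) (4 * (x / 4 % 2))) (8 * (x / 8 % 2)))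
    (16 * (x / 16 % 2))) (32 * (x / 32 % 3))) (96 * (x / 96))

/-- The Sylow subgroup, its centre, and the action on the elements of order three. -/
noncomputable def groupOK (i : ℕ) : Bool :=
  Nat.beq (countBelow 192 inS) 64 &&
  (allBelow 192 (fun x => !(inS x) || allBelow 192 fun y => !(inS y) || inS (mulC i x y)) &&
  (allBelow 192 (fun x => !(inS x) || (Nat.beq x 0 || (Nat.beq x 16 ||
    !(allBelow 192 fun y => !(inS y) || Nat.beq (mulC i x y) (mulC i y x))))) &&
  (allBelow 192 (fun x => !(!(Nat.beq x 0) && Nat.beq (mulC i (mulC i x x) x) 0) ||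
    !(allBelow 32 fun q => !(Nat.beq (mulC i q q) 0 && (!(Nat.beq (mulC i (mulC i (mulC i x q) (mulC i x x)) q) 0) &&
      Nat.beq (mulC i (mulC i (mulC i (mulC i (mulC i x q) (mulC i x x)) q) (mulC i (mulC i (mulC i x q) (mulC i x x)) q))
        (mulC i (mulC i (mulC i (mulC i x q) (mulC i x x)) q) (mulC i (mulC i (mulC i x q) (mulC i x x)) q))) 0)))) &&
  allBelow 192 (fun x => Nat.beq (splitCode i x) x))))

/-- The fused codes used to generate in each pattern. -/
noncomputable def genOK : Bool :=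
  (colOn 11 (cls 0 1) && colOn 11 (cls 0 2) && (colOn 11 (cls 0 4) && colOn 11 (cls 0 8)) &&
    (colOn 11 (cls 0 17) && colOn 11 (cls 0 160) && (colOn 11 (cls 0 96) && Nat.beq (mulC 0 96 160) 32))) &&
  (colOn 6 (cls 2 10) && colOn 6 (cls 2 96) && (colOn 6 (cls 2 107) && colOn 6 (cls 2 5)) &&
    (colOn 6 (cls 2 160) && colOn 6 (cls 2 167) && (colOn 6 (cls 2 126) && colOn 6 (cls 2 189))) &&
    (colOn 6 (cls 2 21) && Nat.beq (mulC 2 5 16) 21 && (Nat.beq (mulC 2 (mulC 2 10 96) 107) 1 &&
      Nat.beq (mulC 2 (mulC 2 5 160) 167) 2) && (Nat.beq (mulC 2 (mulC 2 10 96) 126) 4 &&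
      Nat.beq (mulC 2 (mulC 2 5 160) 189) 8 && (Nat.beq (mulC 2 96 160) 32 && Nat.beq (mulC 0 1 16) 17))))

set_option maxRecDepth 100000

theorem groupOK0 : groupOK 0 = true := by decide +kernel
theorem groupOK2 : groupOK 2 = true := by decide +kernel
theorem genOK_true : genOK = true := by decide +kernel

end CfsgLib.Recog.ExtraThirtyTwo
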